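import Cfsg.Agent.H967.XZ.AFam_m3
import Cfsg.Agent.H684.CoverCount_m3
import Cfsg.Agent.H324.AP.Dim_m3
import Cfsg.Agent.H747.Yoshida
import Cfsg.Agent.Transfer.TateComplement
import Cfsg.Agent.Characters.Linear
import Cfsg.Agent.H77.RK.TabE67_m3
import Cfsg.Agent.H614.XZ.Inv_m3
import Cfsg.Agent.H867.MinIdx_m3
import Cfsg.Agent.H729.CharTwoBlock
import Cfsg.Agent.H667.BR.E8M
import Cfsg.Agent.H940.RatB.Count
import Cfsg.Agent.H443.XC.Defs
import Cfsg.Agent.H963.XZ.Bt_m3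
import Cfsg.Agent.H614.AltBlk
import Cfsg.Agent.H508.KB.Asm_m3
import Cfsg.Agent.S2119
import Cfsg.Agent.H608.J4.Fin
import Cfsg.Agent.H322.XR.F4_m3
import Cfsg.Agent.H804.KB.AbChev
import Cfsg.Agent.H587.KB8.Cyc_m3
import Cfsg.Agent.H931.KC.Alcove
import Cfsg.Agent.H994.KE.RowE8_m3
import Cfsg.Agent.S1093
import Cfsg.Agent.H501.XZ.TwoY_m3
import Cfsg.Agent.H543.XZ.Idx_m3
import Cfsg.Agent.H77.RK.Mem
import Cfsg.Agent.S1065
import Cfsg.Agent.H208.XR.E8Final
import Cfsg.Agent.H594.PQ.LinkE8b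
import Cfsg.Agent.H996.PQ.BigSum_m3
import Cfsg.Agent.H167.AltChev
import Cfsg.Agent.H498.RP.KqL
import Cfsg.Agent.H570.Ore.Blk_m3
import Cfsg.Agent.H816.IMM
import Cfsg.Agent.H609.Inv.MEleven
import Cfsg.Agent.H603.FD.Spor
import Cfsg.Agent.H408.SporSelf
import Cfsg.Agent.H547.SelfCent.Base
import Cfsg.Agent.H404.XR.MLoc
import Cfsg.Agent.H979.OreM.Loc41
import Cfsg.Agent.H715.Mon.Norm_m3
import Cfsg.Agent.H241.NHThree
import Cfsg.Agent.S0000
import Cfsg.Agent.S3331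
import Cfsg.Agent.H941.XZ.E6Nr_m3
import Cfsg.Agent.H631.XZ.TE6
import Cfsg.Agent.H35.ExcIdxTw_m3
import Cfsg.Agent.H76.KJ.Basic_m3
import Cfsg.Agent.H765.KE.Ord
import Cfsg.Agent.ChevFast.Lin
import Cfsg.Agent.Blocks.UniqueBlock
import Cfsg.Agent.H596.Degree
import Cfsg.Agent.S4790
import Cfsg.Agent.FastGrp
import Cfsg.Agent.Prune
set_option linter.all false

section
prune_inst 0x7fd9fef8bfa8bddedfff7e3ffed1dff811c0cfffa6dff9437fe0e99f0b9f030029c56b850de040ff0e42e01410b87803fb7eceffe06bd87ffffd5ff41ffbee0fe5f7350911d084240f340ff603f07f8a6f3fffffffffffffffffffffffffffbefffffbfeffff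

-- part: H508/XR/FinA
section
prune_inst 0x2000020004000100000000000c0002000400005000020080010000840000a310200008100008009000008000000000000000000c00040000000000000000000000028000040810000020000001002400000000000000000000000000000041000000000000
set_option linter.all false
open scoped Cfsg.Agent.FastGrp

-- part: H668/XZ/Reduce
section
/-!
# S4791 + S4927, R1: reduction to a minimal normal subgroup of index prime to `p`, strict form (helper668)

`reduce_lt` : for groups with noncyclic Sylow `p`-subgroups, `4 (p - 1) < x0 ^ 2`.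
-/

set_option autoImplicit false

open Cfsg Subgroup Cfsg.Agent.H674.XZ

namespace Cfsg.Agent.H668.XZ

universe u v

variable {p : ℕ} [hp : Fact p.Prime] {M : Ideal AlgInt}

omit hp in
/-- inflation of members of `X0` -/
theorem mem0_infl (hM : IsPModular p M) {G : Type u} [Group G] [Finite G] {H : Type v} [Group H] [Finite H] (f : G →* H)
    (hf : Function.Surjective f) {χ : IrrCharacter H} (h : Mem0 p M χ) : Mem0 p M (H684.BlockTools.infl f hf χ) := by
  refine ⟨H684.BlockTools.infl_mem hM f hf h.1, ?_, alm_comp f h.2.2⟩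
  have h2 : charDegree (H684.BlockTools.infl f hf χ : G → ℂ) = charDegree (χ : H → ℂ) := by
    show ⌊((χ : H → ℂ) (f 1)).re⌋₊ = ⌊((χ : H → ℂ) 1).re⌋₊
    rw [map_one]
  rw [h2]
  exact h.2.1

omit hp in
theorem finite_mem0' {G : Type u} [Group G] [Finite G] : Finite {χ : IrrCharacter G // Mem0 p M χ} := by
  have hfin : Finite (IrrCharacter G) := Cfsg.Agent.Characters.Core.finite_irr
  infer_instance

omit hp in
theorem x0_le_of_surjective (hM : IsPModular p M) {G : Type u} [Group G] [Finite G] {H : Type v} [Group H] [Finite H]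
    (f : G →* H) (hf : Function.Surjective f) : x0 p M H ≤ x0 p M G := by
  have := finite_mem0' (p := p) (M := M) (G := G)
  refine Nat.card_le_card_of_injective (fun χ : {χ : IrrCharacter H // Mem0 p M χ} =>
    (⟨H684.BlockTools.infl f hf χ.1, mem0_infl hM f hf χ.2⟩ : {χ : IrrCharacter G // Mem0 p M χ})) ?_
  intro a b hab
  exact Subtype.ext (H684.BlockTools.infl_injective f hf
    (congrArg (fun z : {χ : IrrCharacter G // Mem0 p M χ} => z.1) hab))

/-- all the Sylow subgroups are cyclic if one is -/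
theorem isCyclic_sylow {G : Type u} [Group G] [Finite G] (P Q : Sylow p G) (h : IsCyclic (P : Subgroup G)) :
    IsCyclic (Q : Subgroup G) := (Sylow.equiv Q P).isCyclic.2 h

/-- **R1**, strict form -/
theorem reduce_lt (hM : IsPModular p M)
    (hcyc : ∀ (G : Type u) [Group G] [Finite G], p ∣ Nat.card G → ∀ P : Sylow p G, IsCyclic (P : Subgroup G) →
      4 * (p - 1) ≤ x0 p M G ^ 2)
    (hext : ∀ (G : Type u) [Group G] [Finite G] (K : Subgroup G) [K.Normal] (P : Sylow p G), ¬ IsCyclic (P : Subgroup G) →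
      (∀ Q : Sylow p (G ⧸ K), IsCyclic (Q : Subgroup (G ⧸ K))) →
      ∃ χ : IrrCharacter G, Mem0 p M χ ∧ ∃ k ∈ K, (χ : G → ℂ) k ≠ (χ : G → ℂ) 1)
    (haff : ∀ (G : Type u) [Group G] [Finite G] (N : Subgroup G) [N.Normal],
      (∀ K : Subgroup G, K.Normal → K ≤ N → K = ⊥ ∨ K = N) → N ≠ ⊥ → (∀ x ∈ N, ∀ y ∈ N, x * y = y * x) → IsPGroup p N →
      centralizer (N : Set G) = N → ¬ p ∣ N.index → (∀ P : Sylow p G, ¬ IsCyclic (P : Subgroup G)) →
      4 * (p - 1) < x0 p M G ^ 2)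
    (hnon : ∀ (G : Type u) [Group G] [Finite G] (N : Subgroup G) [N.Normal],
      (∀ K : Subgroup G, K.Normal → K ≤ N → K = ⊥ ∨ K = N) → N ≠ ⊥ → (¬ ∀ x ∈ N, ∀ y ∈ N, x * y = y * x) →
      centralizer (N : Set G) = ⊥ → ¬ p ∣ N.index → p ∣ Nat.card N → (∀ P : Sylow p G, ¬ IsCyclic (P : Subgroup G)) →
      4 * (p - 1) < x0 p M G ^ 2)
    (G : Type u) [Group G] [Finite G] (hpG : p ∣ Nat.card G) (hP : ∀ P : Sylow p G, ¬ IsCyclic (P : Subgroup G)) :
    4 * (p - 1) < x0 p M G ^ 2 := by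
  obtain ⟨n, hn⟩ : ∃ n, Nat.card G = n := ⟨_, rfl⟩
  induction n using Nat.strong_induction_on generalizing G with
  | _ n ih =>
  subst hn
  -- a proper quotient of order divisible by `p`
  by_cases hq : ∃ K : Subgroup G, K.Normal ∧ K ≠ ⊥ ∧ p ∣ K.index
  · obtain ⟨K, hKn, hK, hKi⟩ := hq
    have h1 : Nat.card (G ⧸ K) < Nat.card G := by
      rw [← index_eq_card, ← K.card_mul_index]
      have h2 : 1 < Nat.card K := (one_lt_card_iff_ne_bot K).2 hK
      have h3 : 0 < K.index := Nat.pos_of_ne_zero K.index_ne_zero_of_finite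
      nlinarith
    have hKi' : p ∣ Nat.card (G ⧸ K) := by rw [← index_eq_card]; exact hKi
    have h3 : x0 p M (G ⧸ K) ≤ x0 p M G :=
      x0_le_of_surjective hM (QuotientGroup.mk' K) (QuotientGroup.mk'_surjective K)
    by_cases hc : ∀ Q : Sylow p (G ⧸ K), ¬ IsCyclic (Q : Subgroup (G ⧸ K))
    · have h2 := ih _ h1 (G ⧸ K) hKi' hc rfl
      exact h2.trans_le (Nat.pow_le_pow_left h3 2)
    · push Not at hc
      obtain ⟨Q, hQ⟩ := hc
      have hQ' : ∀ Q' : Sylow p (G ⧸ K), IsCyclic (Q' : Subgroup (G ⧸ K)) := fun Q' => isCyclic_sylow Q Q' hQ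
      have h2 := hcyc (G ⧸ K) hKi' Q hQ
      obtain ⟨P⟩ : Nonempty (Sylow p G) := inferInstance
      obtain ⟨χ, hχ, k, hk, hne⟩ := hext G K P (hP P) hQ'
      -- one more character
      have h4 : x0 p M (G ⧸ K) + 1 ≤ x0 p M G := by
        have := finite_mem0' (p := p) (M := M) (G := G)
        let f : Option {χ : IrrCharacter (G ⧸ K) // Mem0 p M χ} → {χ : IrrCharacter G // Mem0 p M χ} := fun x =>
          x.elim ⟨χ, hχ⟩ fun ψ => ⟨H684.BlockTools.infl (QuotientGroup.mk' K) (QuotientGroup.mk'_surjective K) ψ.1,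
            mem0_infl hM _ _ ψ.2⟩
        have hker : ∀ ψ : IrrCharacter (G ⧸ K),
            H684.BlockTools.infl (QuotientGroup.mk' K) (QuotientGroup.mk'_surjective K) ψ ≠ χ := by
          intro ψ hψ
          apply hne
          rw [← hψ]
          show (ψ : G ⧸ K → ℂ) (QuotientGroup.mk' K k) = (ψ : G ⧸ K → ℂ) (QuotientGroup.mk' K 1)
          rw [(QuotientGroup.mk'_apply K k).trans ((QuotientGroup.eq_one_iff k).2 hk), map_one]
        have hf : Function.Injective f := by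
          rintro (_ | a) (_ | b) hab
          · rfl
          · exact absurd (congrArg (fun z : {χ : IrrCharacter G // Mem0 p M χ} => z.1) hab).symm (hker b.1)
          · exact absurd (congrArg (fun z : {χ : IrrCharacter G // Mem0 p M χ} => z.1) hab) (hker a.1)
          · have h5 : a.1 = b.1 := H684.BlockTools.infl_injective _ (QuotientGroup.mk'_surjective K)
              (congrArg (fun z : {χ : IrrCharacter G // Mem0 p M χ} => z.1) hab)
            rw [Subtype.ext h5]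
        have hfin : Finite {χ : IrrCharacter (G ⧸ K) // Mem0 p M χ} := finite_mem0'
        have h6 := Nat.card_le_card_of_injective f hf
        rw [Finite.card_option] at h6
        exact h6
      have h5 : (x0 p M (G ⧸ K) + 1) ^ 2 ≤ x0 p M G ^ 2 := Nat.pow_le_pow_left h4 2
      have h6 : x0 p M (G ⧸ K) ^ 2 < (x0 p M (G ⧸ K) + 1) ^ 2 := Nat.pow_lt_pow_left (Nat.lt_succ_self _) (by norm_num)
      exact h2.trans_lt (h6.trans_le h5)
  push Not at hq
  have hnt : Nontrivial G := by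
    rw [← Finite.one_lt_card_iff_nontrivial]
    exact hp.out.one_lt.trans_le (Nat.le_of_dvd Nat.card_pos hpG)
  obtain ⟨N, hNn, hN, hmin⟩ := Lib.SubnormalJoin.exists_minimal_normal G
  have hcop : ¬ p ∣ N.index := hq N hNn hN
  have hdN : p ∣ Nat.card N := by
    rw [← N.card_mul_index] at hpG
    exact (hp.out.dvd_mul.1 hpG).resolve_right hcop
  have hall : ∀ K : Subgroup G, K.Normal → ¬ p ∣ Nat.card K → K = ⊥ := by
    intro K hK hKc
    by_contra h0
    have h1 := hq K hK h0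
    rw [← K.card_mul_index] at hpG
    rcases hp.out.dvd_mul.1 hpG with h | h
    · exact hKc h
    · exact h1 h
  by_cases hab : ∀ x ∈ N, ∀ y ∈ N, x * y = y * x
  · -- the elements of `p`-power order of `N` form a normal subgroup
    have hNp : IsPGroup p N := by
      set T : Subgroup G :=
        { carrier := {x | x ∈ N ∧ ∃ k : ℕ, x ^ p ^ k = 1}
          one_mem' := ⟨one_mem _, 0, by simp⟩
          mul_mem' := by
            rintro x y ⟨hx, k, hk⟩ ⟨hy, l, hl⟩
            refine ⟨mul_mem hx hy, k + l, ?_⟩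
            have hc : Commute x y := hab x hx y hy
            rw [hc.mul_pow, pow_add, pow_mul, hk, one_pow, mul_comm, pow_mul, hl, one_pow, one_mul]
          inv_mem' := by
            rintro x ⟨hx, k, hk⟩
            exact ⟨inv_mem hx, k, by rw [inv_pow, hk, inv_one]⟩ } with hT
      have hTn : T.Normal := by
        constructor
        rintro x ⟨hx, k, hk⟩ g
        exact ⟨hNn.conj_mem x hx g, k, by rw [conj_pow, hk, mul_one, mul_inv_cancel]⟩
      have hTN : T ≤ N := fun x hx => hx.1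
      have hTb : T ≠ ⊥ := by
        obtain ⟨x, hx⟩ := exists_prime_orderOf_dvd_card' (G := N) p hdN
        intro hb
        have h1 : (x : G) ∈ T := ⟨x.2, 1, by
          rw [pow_one, ← hx, ← orderOf_coe]
          exact pow_orderOf_eq_one _⟩
        rw [hb, mem_bot] at h1
        have h2 : x = 1 := Subtype.ext h1
        rw [h2, orderOf_one] at hx
        exact hp.out.ne_one hx.symm
      have hTe : T = N := (hmin T hTn hTN).resolve_left hTb
      intro x
      have hx : (x : G) ∈ T := by rw [hTe]; exact x.2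
      obtain ⟨k, hk⟩ := hx.2
      exact ⟨k, Subtype.ext hk⟩
    exact haff G N hmin hN hab hNp (Cfsg.Agent.H774.KB.cent_eq N hNp hab hcop hall) hcop hP
  · have hdis : centralizer (N : Set G) ⊓ N = ⊥ := by
      rcases hmin (centralizer (N : Set G) ⊓ N) inferInstance inf_le_right with h | h
      · exact h
      · exfalso
        apply hab
        intro x hx y hy
        have hy' : y ∈ centralizer (N : Set G) := by
          rw [← h] at hy
          exact hy.1
        exact mem_centralizer_iff.1 hy' x hx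
    have hC : centralizer (N : Set G) = ⊥ := by
      by_contra h0
      have h1 := hq _ inferInstance h0
      apply h1
      refine hdN.trans ?_
      -- `N` embeds in `G / C`
      set f : N →* G ⧸ centralizer (N : Set G) := (QuotientGroup.mk' _).comp N.subtype with hf
      have hinj : Function.Injective f := by
        rw [injective_iff_map_eq_one]
        intro x hx
        have h2 : (x : G) ∈ centralizer (N : Set G) := (QuotientGroup.eq_one_iff _).1 hx
        have h3 : (x : G) ∈ centralizer (N : Set G) ⊓ N := ⟨h2, x.2⟩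
        rw [hdis, mem_bot] at h3
        exact Subtype.ext h3
      rw [index_eq_card]
      exact card_dvd_of_injective f hinj
    exact hnon G N hmin hN hab hC hcop hdN hP

end Cfsg.Agent.H668.XZ
end

-- part: H914/XR/Lt
section
/-!
# S4791 + S4927, R0a, R0b: one more member of `X0(G)` (helper914)

* `mem0_hom` : the linear characters of order `p` of a `p`-group lie in `X0`;
* `exists_of_hom` : a homomorphism of a Sylow subgroup to `ℤ/p` which is not trivial on `K ⊓ P`: a member of `X0(G)`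
  without `K` in its kernel;
* `hext` : for `P` noncyclic and `P K / K` cyclic (any normal subgroup `K`);
* `exists_hom` (Tate) for a nonabelian minimal normal subgroup of order divisible by `p`;
* `lt_of_pgroup`, `lt_of_nonab` : the stubs R0a, R0b.
-/

set_option autoImplicit false
set_option maxHeartbeats 400000
set_option linter.unusedSectionVars false

namespace Cfsg.Agent.H914.XR

open Cfsg Subgroup
open Cfsg.Agent.H674.XZ
open Cfsg.Agent.Blocks.Blau Cfsg.Agent.Blocks.Local Cfsg.Agent.Characters Cfsg.Agent.Characters.Core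
open scoped ComplexConjugate

universe u

variable {p : ℕ} [hp : Fact p.Prime] {M : Ideal AlgInt}

/-- linear characters of order `p` of `p`-groups -/
theorem mem0_hom (hM : IsPModular p M) {P : Type u} [Group P] [Finite P] (hP : IsPGroup p P) (f : P →* ℂˣ)
    (hf : ∀ x, f x ^ p = 1) : Mem0 p M (⟨fun g => (f g : ℂ), Linear.isIrrCharacter_hom f⟩ : IrrCharacter P) := by
  have := Fintype.ofFinite P
  refine ⟨(H893.Sd.mem_iff hM _).2 ?_, ?_, ?_⟩
  · rw [Finset.sum_eq_single (1 : P)]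
    · rw [regPart_of_not_dvd (by rw [orderOf_one]; exact hp.out.one_lt.ne' ∘ Nat.dvd_one.1)]
      change ((f 1 : ℂˣ) : ℂ) ≠ 0
      exact Units.ne_zero _
    · intro b _ hb
      apply regPart_of_dvd
      obtain ⟨k, hk⟩ := (IsPGroup.iff_orderOf.1 hP) b
      rw [hk]
      refine dvd_pow_self p ?_
      rintro rfl
      rw [pow_zero, orderOf_eq_one_iff] at hk
      exact hb hk
    · intro h
      exact absurd (Finset.mem_univ _) h
  · have h1 : charDegree ((⟨fun g => (f g : ℂ), Linear.isIrrCharacter_hom f⟩ : IrrCharacter P) : P → ℂ) = 1 := by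
      apply Cfsg.Agent.Blocks.Basic.charDegree_of_eq
      change ((f 1 : ℂˣ) : ℂ) = _
      rw [map_one, Units.val_one, Nat.cast_one]
    rw [h1]
    exact hp.out.one_lt.ne' ∘ Nat.dvd_one.1
  · refine ⟨p, hp.out.pos, fun h => ?_, fun g => ?_⟩
    · have h1 := Nat.le_of_dvd hp.out.pos h
      have h2 := hp.out.two_le
      nlinarith
    · have hprim := Complex.isPrimitiveRoot_exp p hp.out.ne_zero
      have h1 : (f g : ℂ) ^ p = 1 := by
        rw [← Units.val_pow_eq_pow_val, hf, Units.val_one]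
      obtain ⟨i, -, hi⟩ := hprim.eq_pow_of_pow_eq_one h1
      change (f g : ℂ) ∈ _
      rw [← hi]
      exact pow_mem (IntermediateField.subset_adjoin ℚ _ (Set.mem_singleton _)) i

section

variable {G : Type u} [Group G] [Finite G]

/-- a member of `X0(G)` without `K` in its kernel -/
theorem exists_of_hom (hM : IsPModular p M) (P : Sylow p G) (K : Subgroup G)
    (δ : P →* Multiplicative (ZMod p)) (y : P) (hy : (y : G) ∈ K) (hδ : δ y ≠ 1) :
    ∃ χ : IrrCharacter G, Mem0 p M χ ∧ ∃ k ∈ K, (χ : G → ℂ) k ≠ (χ : G → ℂ) 1 := by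
  classical
  have hFin : Finite (Multiplicative (ZMod p)) := inferInstanceAs (Finite (ZMod p))
  obtain ⟨φ, hφ⟩ := CommGroup.exists_apply_ne_one_of_hasEnoughRootsOfUnity (Multiplicative (ZMod p)) ℂ hδ
  set f : P →* ℂˣ := φ.comp δ with hf
  have hfp : ∀ x, f x ^ p = 1 := by
    intro x
    rw [hf, MonoidHom.comp_apply, ← map_pow]
    have h1 : (δ x) ^ p = 1 := by
      apply Multiplicative.toAdd.injective
      rw [toAdd_pow, toAdd_one, nsmul_eq_mul, CharP.cast_eq_zero, zero_mul]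
    rw [h1, map_one]
  have hη := mem0_hom hM P.isPGroup' f hfp
  set η : IrrCharacter (P : Subgroup G) := ⟨fun g => (f g : ℂ), Linear.isIrrCharacter_hom f⟩ with hηd
  obtain ⟨χ, hχ, m, hm, hsum⟩ := exists_over_H hM (P : Subgroup G) P.not_dvd_index η hη
  refine ⟨χ, hχ, ?_⟩
  by_contra hcon
  push Not at hcon
  have := Fintype.ofFinite (P : Subgroup G)
  rw [finsum_eq_sum_of_fintype] at hsum
  have h1 : ∑ h : (P : Subgroup G), (χ : G → ℂ) h * conj ((η : ↥(P : Subgroup G) → ℂ) h) =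
      conj (f y : ℂ) * ∑ h : (P : Subgroup G), (χ : G → ℂ) h * conj ((η : ↥(P : Subgroup G) → ℂ) h) := by
    rw [Finset.mul_sum]
    refine Fintype.sum_equiv (Equiv.mulLeft y⁻¹) _ _ fun x => ?_
    change (χ : G → ℂ) (x : G) * conj (f x : ℂ) = conj (f y : ℂ) * ((χ : G → ℂ) (((y⁻¹ * x : (P : Subgroup G))) : G) *
      conj (f (y⁻¹ * x) : ℂ))
    have h2 : (χ : G → ℂ) (((y⁻¹ * x : (P : Subgroup G))) : G) = (χ : G → ℂ) (x : G) := by
      rw [Subgroup.coe_mul]
      refine H628.PPrimeKer.apply_mul_eq χ.2 ?_ _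
      rw [Subgroup.coe_inv]
      exact hcon _ (K.inv_mem hy)
    rw [h2, map_mul, Units.val_mul, map_mul, map_inv]
    have h3 : conj (f y : ℂ) * conj (((f y)⁻¹ : ℂˣ) : ℂ) = 1 := by
      rw [← map_mul, ← Units.val_mul, mul_inv_cancel, Units.val_one, map_one]
    linear_combination (-(χ : G → ℂ) (x : G) * conj (f x : ℂ)) * h3
  rw [hsum] at h1
  have hm0 : (m : ℂ) * Nat.card (P : Subgroup G) ≠ 0 := by
    refine mul_ne_zero (Nat.cast_ne_zero.2 ?_) (Nat.cast_ne_zero.2 Nat.card_pos.ne')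
    rintro rfl
    exact hm (dvd_zero p)
  have h4 : conj (f y : ℂ) = 1 := by
    have h5 : (conj (f y : ℂ) - 1) * ((m : ℂ) * Nat.card (P : Subgroup G)) = 0 := by
      linear_combination -h1
    exact sub_eq_zero.1 ((mul_eq_zero.1 h5).resolve_right hm0)
  have h6 : (f y : ℂ) = 1 := by
    have := congrArg conj h4
    rwa [Complex.conj_conj, map_one] at this
  exact hφ (Units.ext h6)

/-- a noncyclic `p`-group with a cyclic quotient -/
theorem exists_hom_of_quot (P : Sylow p G) (K : Subgroup G) [K.Normal] (hP : ¬ IsCyclic (P : Subgroup G))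
    (hQ : ∀ Q : Sylow p (G ⧸ K), IsCyclic (Q : Subgroup (G ⧸ K))) :
    ∃ (δ : P →* Multiplicative (ZMod p)) (y : P), (y : G) ∈ K ∧ δ y ≠ 1 := by
  have hPp : IsPGroup p P := P.isPGroup'
  obtain ⟨y, hy, hyF⟩ : ∃ y : P, (y : G) ∈ K ∧ y ∉ frattini P := by
    by_contra hcon
    push Not at hcon
    apply hP
    let g : P →* G ⧸ K := (QuotientGroup.mk' K).comp (P : Subgroup G).subtype
    have h1 : IsPGroup p g.range := hPp.of_surjective g.rangeRestrict g.rangeRestrict_surjective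
    obtain ⟨Q, hQ'⟩ := h1.exists_le_sylow
    have hc := hQ Q
    have h2 : IsCyclic g.range := by
      have := isCyclic_of_injective (Subgroup.inclusion hQ') (Subgroup.inclusion_injective hQ')
      exact this
    obtain ⟨⟨_, x, rfl⟩, hx⟩ := h2.exists_generator
    have h3 : zpowers x = ⊤ := by
      apply frattini_nongenerating
      rw [eq_top_iff]
      intro z _
      obtain ⟨n, hn⟩ := mem_zpowers_iff.1 (hx ⟨g z, z, rfl⟩)
      have h4 : g (x ^ n) = g z := by
        have := congrArg Subtype.val hn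
        rw [map_zpow]
        simpa using this
      have h5 : g ((x ^ n)⁻¹ * z) = 1 := by
        rw [map_mul, map_inv, h4, inv_mul_cancel]
      have h6 : (((x ^ n)⁻¹ * z : P) : G) ∈ K := (QuotientGroup.eq_one_iff _).1 h5
      have h7 : z = x ^ n * ((x ^ n)⁻¹ * z) := by group
      rw [h7]
      exact mul_mem (mem_sup_left (zpow_mem (mem_zpowers x) n)) (mem_sup_right (hcon _ h6))
    exact ⟨x, fun z => by
      show z ∈ zpowers x
      rw [h3]
      exact mem_top z⟩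
  obtain ⟨θ, -, hθ⟩ := H747.exists_hom_zmod hPp le_rfl hyF
  exact ⟨θ, y, hy, hθ⟩

/-- **`hext` of `H668.XZ.reduce_lt`** -/
theorem hext (hM : IsPModular p M) (K : Subgroup G) [K.Normal] (P : Sylow p G) (hP : ¬ IsCyclic (P : Subgroup G))
    (hQ : ∀ Q : Sylow p (G ⧸ K), IsCyclic (Q : Subgroup (G ⧸ K))) :
    ∃ χ : IrrCharacter G, Mem0 p M χ ∧ ∃ k ∈ K, (χ : G → ℂ) k ≠ (χ : G → ℂ) 1 := by
  obtain ⟨δ, y, h1, h2⟩ := exists_hom_of_quot P K hP hQ
  exact exists_of_hom hM P K δ y h1 h2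

end

end Cfsg.Agent.H914.XR
end

-- part: H674/XZ/CycC
section
/-!
# S4791, cyclic Sylow subgroups, part C: the structure of `N_G(P)` in the case of equality (helper674)
-/

set_option autoImplicit false

open scoped ComplexConjugate

namespace Cfsg.Agent.H674.XZ

open Cfsg Cfsg.Agent.Characters Cfsg.Agent.Characters.Core Subgroup Cfsg.Agent.Blocks.Local Cfsg.Agent.H145.BR
  Cfsg.Agent.H667.BR

universe u v

variable {p : ℕ} [hp : Fact p.Prime] {M : Ideal AlgInt} {G : Type u} [Group G] [Finite G]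

omit [Finite G] in
theorem le_centralizer_of_cyclic {P : Subgroup G} (hc : IsCyclic P) : P ≤ centralizer (P : Set G) := fun x hx =>
  mem_centralizer_iff.2 fun y hy =>
    congrArg Subtype.val ((IsCyclic.commGroup (α := P)).mul_comm ⟨y, hy⟩ ⟨x, hx⟩)

omit hp [Finite G] in
theorem normal_centralizer (P : Subgroup G) :
    ((centralizer (P : Set G)).subgroupOf (normalizer (P : Set G))).Normal := by
  refine ⟨fun a ha t => ?_⟩
  rw [mem_subgroupOf] at ha ⊢
  exact conj_mem_centralizer _ t.2 _ ha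

theorem card_normalizer_of_self (P : Sylow p G) (hs : centralizer ((P : Subgroup G) : Set G) = (P : Subgroup G)) :
    Nat.card (normalizer ((P : Subgroup G) : Set G)) = Nat.card (P : Subgroup G) * ee (P : Subgroup G) := by
  unfold ee
  rw [hs, ← ((P : Subgroup G).subgroupOf (normalizer ((P : Subgroup G) : Set G))).card_mul_index,
    Nat.card_congr (subgroupOfEquivOfLe (le_normalizer (H := (P : Subgroup G)))).toEquiv]
  rfl

theorem not_dvd_ee (P : Sylow p G) (hc : IsCyclic (P : Subgroup G)) : ¬ p ∣ ee (P : Subgroup G) := by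
  intro h
  refine P.not_dvd_index (h.trans ?_)
  unfold ee
  exact (relIndex_dvd_of_le_left _ (le_centralizer_of_cyclic hc)).trans (relIndex_dvd_index_of_le le_normalizer)

/-- the complement -/
theorem exists_compl (P : Sylow p G) (hc : IsCyclic (P : Subgroup G)) (hd : p ∣ Nat.card G)
    (hs : centralizer ((P : Subgroup G) : Set G) = (P : Subgroup G)) :
    ∃ C : Subgroup G, C ≤ normalizer ((P : Subgroup G) : Set G) ∧ IsCyclic C ∧ Nat.card C = ee (P : Subgroup G) ∧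
      C ⊓ (P : Subgroup G) = ⊥ ∧ (∀ h ∈ C, h ≠ 1 → ∀ x ∈ (P : Subgroup G), x ≠ 1 → h * x * h⁻¹ ≠ x) := by
  set N := normalizer ((P : Subgroup G) : Set G) with hN
  set Q : Subgroup N := (P : Subgroup G).subgroupOf N with hQ
  have hPN : (P : Subgroup G) ≤ N := le_normalizer
  have hQn : Q.Normal := by
    have := normal_centralizer (P : Subgroup G)
    rwa [hs] at this
  have hcard : Nat.card Q = Nat.card (P : Subgroup G) := Nat.card_congr (subgroupOfEquivOfLe hPN).toEquiv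
  have hidx : Q.index = ee (P : Subgroup G) := by
    unfold ee
    rw [hs]
    rfl
  have hcop : Nat.Coprime (Nat.card Q) Q.index := by
    rw [hcard, hidx]
    obtain ⟨a, ha⟩ := IsPGroup.iff_card.1 P.2
    rw [ha]
    exact Nat.Coprime.pow_left _ ((Nat.Prime.coprime_iff_not_dvd hp.out).2 (not_dvd_ee P hc))
  obtain ⟨K, hK⟩ := exists_right_complement'_of_coprime hcop
  have hdis : Disjoint Q K := hK.disjoint
  have hcK : Nat.card K = ee (P : Subgroup G) := by
    have h1 := hK.card_mul_card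
    have h2 := card_normalizer_of_self P hs
    rw [← hN, ← hcard] at h2
    rw [h2] at h1
    exact Nat.eq_of_mul_eq_mul_left Nat.card_pos h1
  have hP1 : (P : Subgroup G) ≠ ⊥ := by
    obtain ⟨a, ha, h⟩ := exists_pow_card P hd
    intro h1
    rw [h1, card_bot] at h
    exact (Nat.one_lt_pow (by omega) hp.out.one_lt).ne h
  have hm : ¬ p ∣ (centralizer ((P : Subgroup G) : Set G)).relIndex N := not_dvd_ee P hc
  have hcn := normal_centralizer (P : Subgroup G)
  obtain ⟨h1, -⟩ := Cfsg.Agent.H641.isCyclic_quotient_and_dvd hp.out P.2 hP1 hc le_rfl (centralizer_le_normalizer _) hm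
  refine ⟨K.map N.subtype, map_subtype_le K, ?_, ?_, ?_, ?_⟩
  · have h2 : IsCyclic K := by
      refine isCyclic_of_injective
        ((QuotientGroup.mk' ((centralizer ((P : Subgroup G) : Set G)).subgroupOf N)).comp K.subtype) ?_
      rw [injective_iff_map_eq_one]
      intro k hk
      have h3 : (k : N) ∈ Q := by
        have h4 := (QuotientGroup.eq_one_iff (k : N)).1 hk
        rw [mem_subgroupOf, hs] at h4
        exact h4
      exact Subtype.ext (disjoint_def.1 hdis h3 k.2)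
    exact isCyclic_of_surjective (K.equivMapOfInjective N.subtype N.subtype_injective).toMonoidHom
      (K.equivMapOfInjective N.subtype N.subtype_injective).surjective
  · rw [← hcK]
    exact (Nat.card_congr (K.equivMapOfInjective N.subtype N.subtype_injective).toEquiv).symm
  · rw [eq_bot_iff]
    rintro x ⟨⟨k, hk, rfl⟩, hx⟩
    have h3 : k ∈ Q := mem_subgroupOf.2 hx
    rw [mem_bot, disjoint_def.1 hdis h3 hk, map_one]
  · rintro h ⟨k, hk, rfl⟩ hk1 x hx hx1 hfix
    apply hk1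
    have h3 := Cfsg.Agent.H641.mem_centralizer_of_relIndex hp.out P.2 hc (T := N) le_rfl (centralizer_le_normalizer _) hm
      k.2 hx hx1 hfix
    rw [hs] at h3
    rw [disjoint_def.1 hdis (mem_subgroupOf.2 h3) hk, map_one]

/-- **The case of equality.** -/
theorem struct_of_eq (hM : IsPModular p M) (P : Sylow p G) (hc : IsCyclic (P : Subgroup G)) (hd : p ∣ Nat.card G)
    (h : xx p G ^ 2 = 4 * (p - 1)) :
    ∃ s : ℕ, s ^ 2 = p - 1 ∧
      Nat.card (normalizer ((P : Subgroup G) : Set G)) = Nat.card (P : Subgroup G) * s ∧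
      ∃ C : Subgroup G, C ≤ normalizer ((P : Subgroup G) : Set G) ∧ IsCyclic C ∧ Nat.card C = s ∧
        C ⊓ (P : Subgroup G) = ⊥ ∧ ∀ h ∈ C, h ≠ 1 → ∀ x ∈ (P : Subgroup G), x ≠ 1 → h * x * h⁻¹ ≠ x := by
  obtain ⟨x, hx⟩ := exists_x hM P hc hd
  have h1 := le_x0_cyclic hM P hc hd hx
  have h2 := x0_le_xx (p := p) (M := M) (G := G)
  have h3 := amgm (ee (P : Subgroup G)) x
  rw [hx] at h
  have h4 : (ee (P : Subgroup G) + x) ^ 2 = xx p G ^ 2 :=
    le_antisymm (Nat.pow_le_pow_left (h1.trans h2) 2) (by rw [h]; exact h3)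
  have h5 : ee (P : Subgroup G) + x = xx p G := Nat.pow_left_injective (n := 2) (by norm_num) h4
  have h6 : ee (P : Subgroup G) = x := by
    rw [h] at h4
    have h7 : ((ee (P : Subgroup G) : ℤ) - x) ^ 2 = 0 := by
      have h8 : ((ee (P : Subgroup G) : ℤ) + x) ^ 2 = 4 * (ee (P : Subgroup G) * x) := by exact_mod_cast h4
      linear_combination h8
    have h8 := pow_eq_zero_iff (two_ne_zero) |>.1 h7
    omega
  have h7 : IsPGroup p (centralizer ((P : Subgroup G) : Set G)) := centralizer_le_of_subset hM P fun χ hχ1 hχ2 =>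
    (Cfsg.Agent.H563.XZ.mem0_of_eq (by omega) hχ1 hχ2).1
  have hs : centralizer ((P : Subgroup G) : Set G) = (P : Subgroup G) :=
    P.is_maximal' h7 (le_centralizer_of_cyclic hc)
  obtain ⟨C, hC1, hC2, hC3, hC4, hC5⟩ := exists_compl P hc hd hs
  refine ⟨ee (P : Subgroup G), ?_, card_normalizer_of_self P hs, C, hC1, hC2, hC3, hC4, hC5⟩
  rw [hx, ← h6, sq]

end Cfsg.Agent.H674.XZ
end

-- part: H674/XZ/CycD
section
/-!
# S4791, cyclic Sylow subgroups, part D: the other direction (helper674)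

* `mem_principal` : `C_G(P)` a `p`-group: all irreducible characters of degree prime to `p` are in the principal block;
* `card_JJ` : the order of the group of exponents;
* `sum_sq_le`, `xx_le` : `P` cyclic and self-centralizing: at most `p` almost `p`-rational characters of degree prime to `p`;
* `cyclic_iff` : S4791 for cyclic Sylow subgroups.
-/

set_option autoImplicit false

open scoped ComplexConjugate

namespace Cfsg.Agent.H674.XZ

open Cfsg Cfsg.Agent.Characters Cfsg.Agent.Characters.Core Subgroup Cfsg.Agent.Blocks.Local Cfsg.Agent.H145.BR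
  Cfsg.Agent.H667.BR

universe u v

variable {p : ℕ} [hp : Fact p.Prime] {M : Ideal AlgInt} {G : Type u} [Group G] [Finite G]

/-- all the irreducible characters of degree prime to `p` are in the principal block if the centralizer of a Sylow subgroup is a
`p`-group -/
theorem mem_principal (hM : IsPModular p M) (P : Sylow p G) (hC : IsPGroup p (centralizer ((P : Subgroup G) : Set G)))
    {χ : IrrCharacter G} (hχ : ¬ p ∣ charDegree (χ : G → ℂ)) : χ ∈ principalBlock M G := by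
  have hMp := isPrime_of_isPModular hM
  have hB : IsPBlock M (blockOf M (χ : G → ℂ)) := ⟨χ, rfl⟩
  have hχB : χ ∈ blockOf M (χ : G → ℂ) := Blocks.Basic.mem_blockOf_self χ
  obtain ⟨D, hD⟩ := Cfsg.Agent.H729.CharTwoBlock.exists_isDefectGroup hM hB
  have hcard := S0908.result p M hM _ hB D hD
  have h0 : (charDegree (χ : G → ℂ)).factorization p = 0 := Nat.factorization_eq_zero_of_not_dvd hχ
  have h1 : sInf ((fun χ : IrrCharacter G => (charDegree (χ : G → ℂ)).factorization p) '' blockOf M (χ : G → ℂ)) = 0 :=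
    Nat.le_zero.1 (Nat.sInf_le ⟨χ, hχB, h0⟩)
  unfold blockDefect at hcard
  rw [h1, Nat.sub_zero] at hcard
  let Q : Sylow p G := Sylow.ofCard D hcard
  obtain ⟨g, hg⟩ := MulAction.exists_smul_eq G P Q
  have hDC : IsPGroup p (centralizer (D : Set G)) := by
    intro c
    have h2 : g⁻¹ * c * g ∈ centralizer ((P : Subgroup G) : Set G) := by
      rw [mem_centralizer_iff]
      intro x hx
      have h3 : g * x * g⁻¹ ∈ D := by
        have h4 : g * x * g⁻¹ ∈ ((g • P : Sylow p G) : Subgroup G) := by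
          rw [Sylow.coe_subgroup_smul]
          exact Subgroup.smul_mem_pointwise_smul x (MulAut.conj g) _ hx
        rw [hg] at h4
        exact h4
      have h5 := mem_centralizer_iff.1 c.2 _ h3
      calc x * (g⁻¹ * c * g) = g⁻¹ * ((g * x * g⁻¹) * c) * g := by group
        _ = g⁻¹ * (c * (g * x * g⁻¹)) * g := by rw [h5]
        _ = g⁻¹ * c * g * x := by group
    obtain ⟨k, hk⟩ := hC ⟨_, h2⟩
    refine ⟨k, Subtype.ext ?_⟩
    have h3 : (g⁻¹ * (c : G) * g) ^ p ^ k = 1 := congrArg Subtype.val hk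
    have h4 : (g⁻¹ * (c : G) * (g⁻¹)⁻¹) ^ p ^ k = 1 := by rwa [inv_inv]
    rw [conj_pow] at h4
    rw [Subgroup.coe_pow, Subgroup.coe_one]
    calc (c : G) ^ p ^ k = g * (g⁻¹ * (c : G) ^ p ^ k * (g⁻¹)⁻¹) * g⁻¹ := by group
      _ = 1 := by rw [h4]; group
  rw [← Cfsg.Agent.H729.CharTwoBlock.eq_principal_of_centralizer hM hB hD hDC]
  exact hχB

/-- `x0 = xx` -/
theorem xx_eq_x0 (hM : IsPModular p M) (P : Sylow p G) (hC : IsPGroup p (centralizer ((P : Subgroup G) : Set G))) :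
    xx p G = x0 p M G := by
  unfold xx x0
  refine Nat.card_congr (Equiv.subtypeEquivRight fun χ => ?_)
  exact ⟨fun h => ⟨mem_principal hM P hC h.1, h⟩, fun h => h.2⟩

/-! ### the group of exponents -/

theorem dd_eq (hd : p ∣ Nat.card G) : dd p G = p * mp p G := by
  unfold dd
  have h1 := Nat.ordProj_mul_ordCompl_eq_self (Nat.card G) p
  have h2 : 1 ≤ (Nat.card G).factorization p := (hp.out.dvd_iff_one_le_factorization Nat.card_pos.ne').1 hd
  refine Nat.gcd_eq_right ?_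
  conv_rhs => rw [← h1]
  exact mul_dvd_mul (dvd_pow_self p (by omega)) dvd_rfl

theorem le_card_JJ (hd : p ∣ Nat.card G) : p ^ ((Nat.card G).factorization p - 1) ≤ Nat.card (JJ p G) := by
  have : NeZero (Nat.card G) := ⟨(Nat.card_pos (α := G)).ne'⟩
  have hdd0 : dd p G ≠ 0 := fun h0 => (Nat.card_pos (α := G)).ne' (Nat.eq_zero_of_gcd_eq_zero_left h0)
  have : NeZero (dd p G) := ⟨hdd0⟩
  set a := (Nat.card G).factorization p with ha
  have ha1 : 1 ≤ a := (hp.out.dvd_iff_one_le_factorization Nat.card_pos.ne').1 hd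
  have h1 : Nat.card (ZMod (Nat.card G))ˣ ≤ Nat.card (JJ p G) * Nat.card (ZMod (dd p G))ˣ := by
    have h2 := (JJ p G).card_mul_index
    rw [← h2]
    refine Nat.mul_le_mul_left _ ?_
    unfold JJ
    rw [Subgroup.index_ker]
    exact Nat.card_le_card_of_injective (fun x => (x : (ZMod (dd p G))ˣ)) Subtype.val_injective
  rw [Nat.card_eq_fintype_card, ZMod.card_units_eq_totient, Nat.card_eq_fintype_card (α := (ZMod (dd p G))ˣ),
    ZMod.card_units_eq_totient, dd_eq hd] at h1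
  have hcop : (p ^ a).Coprime (mp p G) :=
    Nat.Coprime.pow_left _ ((Nat.Prime.coprime_iff_not_dvd hp.out).2 (not_dvd_mp hp.out G))
  have h3 : Nat.card G = p ^ a * mp p G := (Nat.ordProj_mul_ordCompl_eq_self (Nat.card G) p).symm
  have h5 : (Nat.card G).totient = p ^ (a - 1) * (p - 1) * (mp p G).totient := by
    have h6 := congrArg Nat.totient h3
    rwa [Nat.totient_mul hcop, Nat.totient_prime_pow hp.out ha1] at h6
  rw [h5, Nat.totient_mul ((Nat.Prime.coprime_iff_not_dvd hp.out).2 (not_dvd_mp hp.out G)), Nat.totient_prime hp.out] at h1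
  have h4 : 0 < (p - 1) * (mp p G).totient := by
    refine Nat.mul_pos ?_ (Nat.totient_pos.2 (Nat.pos_of_ne_zero fun h0 => not_dvd_mp hp.out G (h0 ▸ dvd_zero p)))
    have := hp.out.two_le
    omega
  refine Nat.le_of_mul_le_mul_right ?_ h4
  calc p ^ (a - 1) * ((p - 1) * (mp p G).totient) = p ^ (a - 1) * (p - 1) * (mp p G).totient := by ring
    _ ≤ _ := h1

/-! ### generators of the Sylow subgroup -/

theorem zpowers_pow_ex {t : G} (u : (ZMod (Nat.card G))ˣ) : zpowers (t ^ ex u) = zpowers t := by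
  refine le_antisymm (by rw [zpowers_le]; exact pow_mem (mem_zpowers t) _) ?_
  rw [zpowers_le]
  obtain ⟨j, hj⟩ := exists_pow_eq_self_of_coprime (x := t) (n := ex u)
    (Nat.Coprime.coprime_dvd_right (_root_.orderOf_dvd_natCard t) (ex_coprime u))
  have h1 : (t ^ ex u) ^ j ∈ zpowers (t ^ ex u) := pow_mem (mem_zpowers _) _
  rwa [hj] at h1

/-- the conjugates of a generator under the group of exponents are not conjugate in `G` -/
theorem eq_of_isConj (hd : p ∣ Nat.card G) (P : Sylow p G) {t : G} (ht : zpowers t = (P : Subgroup G))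
    {u v : (ZMod (Nat.card G))ˣ} (hu : u ∈ JJ p G) (hv : v ∈ JJ p G) (h : IsConj (t ^ ex u) (t ^ ex v)) : u = v := by
  have hc : IsCyclic (P : Subgroup G) := by
    rw [← ht]
    infer_instance
  obtain ⟨g, hg⟩ := isConj_iff.1 h
  have hPp : IsPGroup p (P : Subgroup G) := P.isPGroup'
  obtain ⟨a, ha1, ha⟩ := exists_pow_card P hd
  have hot : orderOf t = p ^ a := by rw [← ha, ← ht, Nat.card_zpowers]
  -- `g` normalizes `P`
  have hgN : g ∈ normalizer ((P : Subgroup G) : Set G) := by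
    have h1 : ∀ g' : G, ∀ u v : (ZMod (Nat.card G))ˣ, g' * t ^ ex u * g'⁻¹ = t ^ ex v → ∀ x ∈ (P : Subgroup G),
        g' * x * g'⁻¹ ∈ (P : Subgroup G) := by
      intro g' u v h' x hx
      rw [← ht, ← zpowers_pow_ex u, mem_zpowers_iff] at hx
      obtain ⟨k, rfl⟩ := hx
      rw [← conj_zpow, h', ← ht]
      exact zpow_mem (pow_mem (mem_zpowers t) _) _
    rw [mem_normalizer_iff]
    intro x
    refine ⟨h1 g u v hg x, fun hx => ?_⟩
    have h2 := h1 g⁻¹ v u (by rw [← hg]; group) _ hx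
    have h3 : g⁻¹ * (g * x * g⁻¹) * g⁻¹⁻¹ = x := by group
    rwa [h3] at h2
  -- the element of order `p`
  have hx0 : t ^ p ^ (a - 1) ≠ 1 := by
    intro h1
    have h2 := orderOf_dvd_of_pow_eq_one h1
    rw [hot] at h2
    have h3 := (Nat.pow_dvd_pow_iff_le_right hp.out.one_lt).1 h2
    omega
  have hxp : (t ^ p ^ (a - 1)) ^ p = 1 := by
    rw [← pow_mul, ← pow_succ, Nat.sub_add_cancel ha1, ← hot, pow_orderOf_eq_one]
  have hpdd : p ∣ dd p G := by
    rw [dd_eq hd]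
    exact dvd_mul_right _ _
  have hex : ∀ w ∈ JJ p G, (t ^ p ^ (a - 1)) ^ ex w = t ^ p ^ (a - 1) := by
    intro w hw
    have h1 : ex w ≡ 1 [MOD p] := ((mem_JJ (p := p) w).1 hw).of_dvd hpdd
    have h2 : ex w ≡ 1 [MOD orderOf (t ^ p ^ (a - 1))] := h1.of_dvd (orderOf_dvd_of_pow_eq_one hxp)
    have h3 := pow_eq_pow_iff_modEq.2 h2
    rwa [pow_one] at h3
  have hgx : g * t ^ p ^ (a - 1) * g⁻¹ = t ^ p ^ (a - 1) := by
    have h1 : (g * t ^ ex u * g⁻¹) ^ p ^ (a - 1) = (t ^ ex v) ^ p ^ (a - 1) := by rw [hg]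
    rw [conj_pow, ← pow_mul, mul_comm, pow_mul, ← pow_mul t (ex v), mul_comm (ex v), pow_mul, hex u hu, hex v hv] at h1
    exact h1
  have htP : t ∈ (P : Subgroup G) := by
    rw [← ht]
    exact mem_zpowers t
  have hgC := Cfsg.Agent.H641.mem_centralizer_of_relIndex hp.out P.2 hc (T := normalizer ((P : Subgroup G) : Set G)) le_rfl
    (centralizer_le_normalizer _) (not_dvd_ee P hc) hgN (pow_mem htP _) hx0 hgx
  have h1 : t ^ ex u = t ^ ex v := by
    rw [← hg]
    have h2 := mem_centralizer_iff.1 hgC _ (pow_mem htP (ex u))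
    rw [← h2]
    group
  -- hence `u = v`
  have h2 : ex u ≡ ex v [MOD p ^ a] := by
    rw [← hot]
    exact pow_eq_pow_iff_modEq.1 h1
  have h3 : ex u ≡ ex v [MOD mp p G] :=
    (((mem_JJ (p := p) u).1 hu).of_dvd (mp_dvd_dd p G)).trans (((mem_JJ (p := p) v).1 hv).of_dvd (mp_dvd_dd p G)).symm
  have h4 : ex u ≡ ex v [MOD Nat.card G] := by
    have h5 : p ^ a = p ^ (Nat.card G).factorization p := by
      rw [← ha]
      exact P.card_eq_multiplicity
    have h6 : Nat.card G = p ^ a * mp p G := by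
      rw [h5]
      exact (Nat.ordProj_mul_ordCompl_eq_self (Nat.card G) p).symm
    rw [h6]
    refine (Nat.modEq_and_modEq_iff_modEq_mul ?_).1 ⟨h2, h3⟩
    exact Nat.Coprime.pow_left _ ((Nat.Prime.coprime_iff_not_dvd hp.out).2 (not_dvd_mp hp.out G))
  apply Units.ext
  rw [← ex_cast, ← ex_cast]
  exact (ZMod.natCast_eq_natCast_iff _ _ _).2 h4

/-- **The key inequality.** -/
theorem sum_sq_le (hd : p ∣ Nat.card G) (P : Sylow p G) (hs : centralizer ((P : Subgroup G) : Set G) = (P : Subgroup G))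
    {t : G} (ht : zpowers t = (P : Subgroup G)) (S : Finset (IrrCharacter G)) (hS : ∀ χ ∈ S, Alm p (χ : G → ℂ)) :
    ∑ χ ∈ S, ‖(χ : G → ℂ) t‖ ^ 2 ≤ p := by
  classical
  have hfin : Finite (IrrCharacter G) := finite_irr
  let : Fintype (IrrCharacter G) := Fintype.ofFinite _
  let : Fintype G := Fintype.ofFinite G
  have : NeZero (Nat.card G) := ⟨(Nat.card_pos (α := G)).ne'⟩
  let : Fintype (JJ p G) := Fintype.ofFinite _
  let w : IrrCharacter G → ℂ := fun χ => ∑ u : JJ p G, (χ : G → ℂ) (t ^ ex u.1)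
  have hcen : ∀ u : (ZMod (Nat.card G))ˣ, Nat.card (centralizer ({t ^ ex u} : Set G)) = Nat.card (P : Subgroup G) := by
    intro u
    rw [← Subgroup.centralizer_closure, ← zpowers_eq_closure, zpowers_pow_ex, ht, hs]
  have h1 : ∑ χ : IrrCharacter G, w χ * conj (w χ) = ((Nat.card (JJ p G) * Nat.card (P : Subgroup G) : ℕ) : ℂ) := by
    calc ∑ χ : IrrCharacter G, w χ * conj (w χ)
        = ∑ χ : IrrCharacter G, ∑ u : JJ p G, ∑ v : JJ p G, (χ : G → ℂ) (t ^ ex u.1) * conj ((χ : G → ℂ) (t ^ ex v.1)) := by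
          refine Finset.sum_congr rfl fun χ _ => ?_
          change (∑ u : JJ p G, (χ : G → ℂ) (t ^ ex u.1)) * conj (∑ u : JJ p G, (χ : G → ℂ) (t ^ ex u.1)) = _
          rw [map_sum, Finset.sum_mul_sum]
      _ = ∑ u : JJ p G, ∑ v : JJ p G, ∑ χ : IrrCharacter G, (χ : G → ℂ) (t ^ ex u.1) * conj ((χ : G → ℂ) (t ^ ex v.1)) := by
          rw [Finset.sum_comm]
          exact Finset.sum_congr rfl fun u _ => Finset.sum_comm
      _ = ∑ u : JJ p G, ∑ v : JJ p G, if u = v then ((Nat.card (P : Subgroup G) : ℕ) : ℂ) else 0 := by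
          refine Finset.sum_congr rfl fun u _ => Finset.sum_congr rfl fun v _ => ?_
          rw [S0145.sum_irr_mul_conj]
          by_cases huv : u = v
          · subst huv
            rw [if_pos (IsConj.refl _), if_pos rfl, hcen]
          · rw [if_neg fun h => huv (Subtype.ext (eq_of_isConj hd P ht u.2 v.2 h)), if_neg huv]
      _ = _ := by
          simp only [Finset.sum_ite_eq, Finset.mem_univ, if_true, Finset.sum_const, Finset.card_univ, nsmul_eq_mul,
            Nat.card_eq_fintype_card (α := JJ p G)]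
          push_cast
          ring
  have h2 : ∀ χ : IrrCharacter G, w χ * conj (w χ) = ((‖w χ‖ ^ 2 : ℝ) : ℂ) := fun χ => by
    rw [Complex.mul_conj, Complex.normSq_eq_norm_sq]
  rw [Finset.sum_congr rfl fun χ _ => h2 χ, ← Complex.ofReal_sum] at h1
  have h3 : ∑ χ : IrrCharacter G, ‖w χ‖ ^ 2 = ((Nat.card (JJ p G) * Nat.card (P : Subgroup G) : ℕ) : ℝ) := by
    exact_mod_cast h1
  have h4 : ∀ χ ∈ S, ‖w χ‖ ^ 2 = (Nat.card (JJ p G) : ℝ) ^ 2 * ‖(χ : G → ℂ) t‖ ^ 2 := by
    intro χ hχ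
    have h5 : w χ = (Nat.card (JJ p G) : ℂ) * (χ : G → ℂ) t := by
      change (∑ u : JJ p G, (χ : G → ℂ) (t ^ ex u.1)) = _
      rw [Finset.sum_congr rfl fun u _ => (alm_iff_fun (isIrr_isCharacter χ.2)).1 (hS χ hχ) u.1 u.2 t]
      rw [Finset.sum_const, Finset.card_univ, nsmul_eq_mul, Nat.card_eq_fintype_card (α := JJ p G)]
    rw [h5, norm_mul, mul_pow, Complex.norm_natCast]
  have h5 : (Nat.card (JJ p G) : ℝ) ^ 2 * ∑ χ ∈ S, ‖(χ : G → ℂ) t‖ ^ 2 ≤
      ((Nat.card (JJ p G) * Nat.card (P : Subgroup G) : ℕ) : ℝ) := by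
    rw [Finset.mul_sum, ← Finset.sum_congr rfl h4, ← h3]
    exact Finset.sum_le_sum_of_subset_of_nonneg (Finset.subset_univ _) fun _ _ _ => by positivity
  obtain ⟨a, ha1, ha⟩ := exists_pow_card P hd
  have h6 : (p : ℝ) ^ (a - 1) ≤ Nat.card (JJ p G) := by
    have h7 := le_card_JJ (p := p) (G := G) hd
    have h8 : p ^ a = p ^ (Nat.card G).factorization p := by
      rw [← ha]
      exact P.card_eq_multiplicity
    have h9 := Nat.pow_right_injective hp.out.two_le h8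
    rw [← h9] at h7
    exact_mod_cast h7
  have hJ : (0 : ℝ) < Nat.card (JJ p G) := by exact_mod_cast Nat.card_pos
  have h7 : (Nat.card (JJ p G) : ℝ) * ∑ χ ∈ S, ‖(χ : G → ℂ) t‖ ^ 2 ≤ (p : ℝ) ^ (a - 1) * p := by
    rw [← pow_succ, Nat.sub_add_cancel ha1]
    rw [ha] at h5
    push_cast at h5
    rw [sq, mul_assoc] at h5
    exact le_of_mul_le_mul_left h5 hJ
  have h8 : (p : ℝ) ^ (a - 1) * ∑ χ ∈ S, ‖(χ : G → ℂ) t‖ ^ 2 ≤ (p : ℝ) ^ (a - 1) * p :=
    (mul_le_mul_of_nonneg_right h6 (Finset.sum_nonneg fun _ _ => by (clear * -; positivity))).trans h7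
  exact le_of_mul_le_mul_left h8 (pow_pos (by exact_mod_cast hp.out.pos) _)

/-- **The upper bound.** -/
theorem xx_le (hd : p ∣ Nat.card G) (P : Sylow p G) (hc : IsCyclic (P : Subgroup G))
    (hs : centralizer ((P : Subgroup G) : Set G) = (P : Subgroup G)) : xx p G ≤ p := by
  classical
  have hfin : Finite (IrrCharacter G) := finite_irr
  let : Fintype (IrrCharacter G) := Fintype.ofFinite _
  let : Fintype G := Fintype.ofFinite G
  let S : Finset (IrrCharacter G) := Finset.univ.filter fun χ => ¬ p ∣ charDegree (χ : G → ℂ) ∧ Alm p (χ : G → ℂ)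
  have hxx : xx p G = S.card := by
    unfold xx
    rw [Nat.card_eq_fintype_card, Fintype.card_subtype]
  let X : Finset G := Finset.univ.filter fun t => zpowers t = (P : Subgroup G)
  have hXmem : ∀ t, t ∈ X ↔ zpowers t = (P : Subgroup G) := fun t => by
    change t ∈ Finset.univ.filter _ ↔ _
    rw [Finset.mem_filter]
    exact ⟨fun h => h.2, fun h => ⟨Finset.mem_univ _, h⟩⟩
  obtain ⟨⟨t₀, ht₀⟩, h0⟩ := hc.exists_generator
  have ht0 : t₀ ∈ X := by
    rw [hXmem]
    refine le_antisymm (by rw [zpowers_le]; exact ht₀) fun x hx => ?_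
    obtain ⟨k, hk⟩ := mem_zpowers_iff.1 (h0 ⟨x, hx⟩)
    exact mem_zpowers_iff.2 ⟨k, congrArg Subtype.val hk⟩
  have hXpos : (0 : ℝ) < X.card := by exact_mod_cast Finset.card_pos.2 ⟨_, ht0⟩
  have hXclosed : ∀ t ∈ X, ∀ m : ℕ, m.Coprime (Nat.card G) → t ^ m ∈ X := by
    intro t ht m hm
    rw [hXmem] at ht ⊢
    rw [← ht]
    refine le_antisymm (by rw [zpowers_le]; exact pow_mem (mem_zpowers t) _) ?_
    rw [zpowers_le]
    obtain ⟨j, hj⟩ := exists_pow_eq_self_of_coprime (x := t) (n := m)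
      (Nat.Coprime.coprime_dvd_right (_root_.orderOf_dvd_natCard t) hm)
    have h1 : (t ^ m) ^ j ∈ zpowers (t ^ m) := pow_mem (mem_zpowers _) _
    rwa [hj] at h1
  have hlow : ∀ χ ∈ S, (X.card : ℝ) ≤ ∑ t ∈ X, ‖(χ : G → ℂ) t‖ ^ 2 := by
    intro χ hχ
    have hdeg : ¬ p ∣ charDegree (χ : G → ℂ) := (Finset.mem_filter.1 hχ).2.1
    have h1 := Cfsg.Agent.OddOrderCharacters.PF13.SumBound.card_le_sum_sq (G := G)
      (Finset.univ : Finset Unit) (fun _ => (χ : G → ℂ)) (fun _ _ => OddOrderCharacters.VChar.gen_of_irr χ.2) X hXclosed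
      (fun t ht => ⟨(), Finset.mem_univ _, ?_⟩)
    · simpa only [_root_.ge_iff_le, _root_.Finset.univ_unique, _root_.PUnit.default_eq_unit, _root_.Finset.sum_const, _root_.Finset.card_singleton, _root_.one_smul] using h1
    · refine H867.KBound.apply_ne_zero (isIrr_isCharacter χ.2) (S0914.degree_spec χ).1 hdeg t ?_
      rw [hXmem] at ht
      obtain ⟨k, hk⟩ := IsPGroup.iff_card.1 P.2
      exact ⟨k, by rw [← hk, ← ht, Nat.card_zpowers]⟩
  have h1 : (S.card : ℝ) * X.card ≤ p * X.card := by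
    calc (S.card : ℝ) * X.card = ∑ χ ∈ S, (X.card : ℝ) := by rw [Finset.sum_const, nsmul_eq_mul]
      _ ≤ ∑ χ ∈ S, ∑ t ∈ X, ‖(χ : G → ℂ) t‖ ^ 2 := Finset.sum_le_sum hlow
      _ = ∑ t ∈ X, ∑ χ ∈ S, ‖(χ : G → ℂ) t‖ ^ 2 := Finset.sum_comm
      _ ≤ ∑ t ∈ X, (p : ℝ) := Finset.sum_le_sum fun t ht =>
          sum_sq_le hd P hs ((hXmem t).1 ht) S fun χ hχ => (Finset.mem_filter.1 hχ).2.2
      _ = p * X.card := by rw [Finset.sum_const, nsmul_eq_mul, mul_comm]
  rw [hxx]
  have h2 := le_of_mul_le_mul_right h1 hXpos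
  exact_mod_cast h2

/-- the structure gives `C_G(P) = P` -/
theorem self_of_struct (hd : p ∣ Nat.card G) (P : Sylow p G) (hc : IsCyclic (P : Subgroup G)) {s : ℕ}
    (hN : Nat.card (normalizer ((P : Subgroup G) : Set G)) = Nat.card (P : Subgroup G) * s) {C : Subgroup G}
    (hCN : C ≤ normalizer ((P : Subgroup G) : Set G)) (hCs : Nat.card C = s) (hCP : C ⊓ (P : Subgroup G) = ⊥)
    (hfix : ∀ h ∈ C, h ≠ 1 → ∀ x ∈ (P : Subgroup G), x ≠ 1 → h * x * h⁻¹ ≠ x) :
    centralizer ((P : Subgroup G) : Set G) = (P : Subgroup G) := by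
  refine le_antisymm ?_ (le_centralizer_of_cyclic hc)
  intro c hcC
  set N := normalizer ((P : Subgroup G) : Set G) with hNdef
  have hPN : (P : Subgroup G) ≤ N := le_normalizer
  have hcompl : IsComplement' ((P : Subgroup G).subgroupOf N) (C.subgroupOf N) := by
    refine isComplement'_of_card_mul_and_disjoint ?_ ?_
    · rw [Nat.card_congr (subgroupOfEquivOfLe hPN).toEquiv, Nat.card_congr (subgroupOfEquivOfLe hCN).toEquiv, hCs, ← hN]
    · rw [disjoint_iff_inf_le]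
      rintro x ⟨hx1, hx2⟩
      have h1 : (x : G) ∈ C ⊓ (P : Subgroup G) := ⟨mem_subgroupOf.1 hx2, mem_subgroupOf.1 hx1⟩
      rw [hCP, mem_bot] at h1
      exact mem_bot.2 (Subtype.ext h1)
  have hcN : c ∈ N := centralizer_le_normalizer _ hcC
  obtain ⟨⟨⟨x, hx⟩, ⟨h, hh⟩⟩, hxh⟩ := hcompl.2 ⟨c, hcN⟩
  have hxh' : (x : G) * (h : G) = c := congrArg Subtype.val hxh
  have hxP : (x : G) ∈ (P : Subgroup G) := mem_subgroupOf.1 hx
  have hhC : (h : G) ∈ C := mem_subgroupOf.1 hh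
  have hh' : (h : G) ∈ centralizer ((P : Subgroup G) : Set G) := by
    have h1 : (h : G) = (x : G)⁻¹ * c := by rw [← hxh']; group
    rw [h1]
    exact mul_mem (inv_mem (le_centralizer_of_cyclic hc hxP)) hcC
  have hh1 : (h : G) = 1 := by
    by_contra hne
    obtain ⟨a, ha1, ha⟩ := exists_pow_card P hd
    have hnt : Nontrivial (P : Subgroup G) := by
      rw [← Finite.one_lt_card_iff_nontrivial, ha]
      exact Nat.one_lt_pow (by omega) hp.out.one_lt
    obtain ⟨⟨y, hy⟩, hy1⟩ := exists_ne (1 : (P : Subgroup G))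
    refine hfix h hhC hne y hy (fun h1 => hy1 (Subtype.ext h1)) ?_
    rw [← mem_centralizer_iff.1 hh' y hy]
    group
  rw [hh1, mul_one] at hxh'
  rw [← hxh']
  exact hxP

/-- **S4791 for cyclic Sylow subgroups, the other direction.** -/
theorem eq_of_struct (hM : IsPModular p M) (hd : p ∣ Nat.card G) (P : Sylow p G) (hc : IsCyclic (P : Subgroup G)) {s : ℕ}
    (hs2 : s ^ 2 = p - 1)
    (hN : Nat.card (normalizer ((P : Subgroup G) : Set G)) = Nat.card (P : Subgroup G) * s) {C : Subgroup G}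
    (hCN : C ≤ normalizer ((P : Subgroup G) : Set G)) (hCs : Nat.card C = s) (hCP : C ⊓ (P : Subgroup G) = ⊥)
    (hfix : ∀ h ∈ C, h ≠ 1 → ∀ x ∈ (P : Subgroup G), x ≠ 1 → h * x * h⁻¹ ≠ x) :
    xx p G ^ 2 = 4 * (p - 1) := by
  have hs := self_of_struct hd P hc hN hCN hCs hCP hfix
  have hee : ee (P : Subgroup G) = s := by
    have h1 := card_normalizer_of_self P hs
    rw [hN] at h1
    exact (Nat.eq_of_mul_eq_mul_left Nat.card_pos h1).symm
  have hpC : IsPGroup p (centralizer ((P : Subgroup G) : Set G)) := by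
    rw [hs]
    exact P.2
  have h1 := xx_eq_x0 hM P hpC
  have hx : p - 1 = ee (P : Subgroup G) * s := by rw [hee, ← hs2, sq]
  have h2 := x0_modEq_cyclic hM P hc hd hx
  have h3 := le_x0_cyclic hM P hc hd hx
  have h4 := xx_le hd P hc hs
  rw [h1] at h4 ⊢
  rw [hee] at h2 h3
  have h5 : x0 p M G = s + s := by
    have h6 : 0 < s + s := by
      have := ee_pos (P : Subgroup G)
      omega
    by_contra hne
    have h7 : p ∣ x0 p M G - (s + s) := (Nat.modEq_iff_dvd' h3).1 h2.symm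
    have h8 := Nat.le_of_dvd (by omega) h7
    omega
  rw [h5, ← hs2]
  ring

/-- **S4791 for cyclic Sylow subgroups.** -/
theorem cyclic_iff (hM : IsPModular p M) (hd : p ∣ Nat.card G) (P : Sylow p G) (hc : IsCyclic (P : Subgroup G)) :
    4 * (p - 1) ≤ xx p G ^ 2 ∧
    (xx p G ^ 2 = 4 * (p - 1) ↔
      (IsCyclic P ∧ ∃ s : ℕ, s ^ 2 = p - 1 ∧
        Nat.card (Subgroup.normalizer ((P : Subgroup G) : Set G)) = Nat.card P * s ∧
        ∃ C : Subgroup G, C ≤ Subgroup.normalizer ((P : Subgroup G) : Set G) ∧ IsCyclic C ∧ Nat.card C = s ∧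
          C ⊓ (P : Subgroup G) = ⊥ ∧ ∀ h ∈ C, h ≠ 1 → ∀ x ∈ (P : Subgroup G), x ≠ 1 → h * x * h⁻¹ ≠ x)) := by
  refine ⟨(four_le_cyclic hM P hc hd).trans (Nat.pow_le_pow_left x0_le_xx 2), fun h => ⟨hc, struct_of_eq hM P hc hd h⟩, ?_⟩
  rintro ⟨-, s, hs, hN, C, hCN, -, hCs, hCP, hfix⟩
  exact eq_of_struct hM hd P hc hs hN hCN hCs hCP hfix

end Cfsg.Agent.H674.XZ
end

-- part: H563/XZ/Idem0
section
/-!
# S4791 + S4927: the case of equality in the principal block (helper563)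

* `not_dvd_cnt` : `p` does not divide `cnt P (G ⧸ P)`.
* `key0` : the key congruence inside the principal block.
* `cyclic_of_latX0` : equality in a lattice inequality for `X0` forces a cyclic Sylow subgroup (no hypothesis on the other blocks).
* `seven_x0` : `5 ≤ |X0|` for `p = 7`, if this is so for cyclic Sylow subgroups.
-/

set_option autoImplicit false

open scoped ComplexConjugate

namespace Cfsg.Agent.H563.XZ

open Cfsg Cfsg.Agent.Characters Cfsg.Agent.Characters.Core Cfsg.Agent.H674.XZ Cfsg.Agent.H703.Lat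
open Cfsg.Agent.Blocks Cfsg.Agent.Blocks.Basic Cfsg.Agent.Blocks.LocalRing
open Cfsg.Agent.H145.BR (cnt permC)
open Cfsg.Agent.H667.BR (mult bdeg mult_eq)

universe u

variable {p : ℕ} [hp : Fact p.Prime] {M : Ideal AlgInt} {G : Type u} [Group G] [Finite G]

theorem not_dvd_cnt (P : Sylow p G) : ¬ p ∣ cnt (P : Subgroup G) (G ⧸ (P : Subgroup G)) := by
  rw [H687.BR.cnt_eq_index P le_rfl]
  intro h
  have h1 : (H687.BR.DD (P : Subgroup G) (P : Subgroup G)).index ∣
      (P : Subgroup G).relIndex (Subgroup.normalizer ((P : Subgroup G) : Set G)) :=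
    Subgroup.index_dvd_of_le le_sup_left
  have h2 : (P : Subgroup G).relIndex (Subgroup.normalizer ((P : Subgroup G) : Set G)) ∣ (P : Subgroup G).index :=
    ⟨_, (Subgroup.relIndex_mul_index Subgroup.le_normalizer).symm⟩
  exact P.not_dvd_index ((h.trans h1).trans h2)

/-- column orthogonality in the principal block -/
theorem sum_B0_eq_zero (hM : IsPModular p M) {x : G} (hx : p ∣ orderOf x) :
    ∑ χ ∈ B0 M G, (charDegree (χ : G → ℂ) : ℂ) * (χ : G → ℂ) x = 0 := by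
  have h1 := Orthogonality.weak_block_orthogonality hM (principalBlock M G)
    (fun g => Osima.memLocalRing_blockCoeff hM isPBlock_principal g) (x := 1) (y := x)
    (by rw [orderOf_one]; exact hp.out.one_lt.ne' ∘ Nat.dvd_one.1) hx
  have hfin : Finite (IrrCharacter G) := finite_irr
  rw [finsum_mem_eq_finite_toFinset_sum _ (Set.toFinite (principalBlock M G))] at h1
  have h2 : ∑ χ ∈ B0 M G, (charDegree (χ : G → ℂ) : ℂ) * conj ((χ : G → ℂ) x) = 0 := by
    rw [← h1]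
    refine Finset.sum_congr rfl fun χ _ => ?_
    rw [irr_one_eq_charDegree χ.2]
  have h3 := congrArg conj h2
  rw [map_sum, map_zero] at h3
  rw [← h3]
  refine Finset.sum_congr rfl fun χ _ => ?_
  rw [map_mul, map_natCast, Complex.conj_conj]

theorem bsum_eq (n : IrrCharacter G → ℤ) : bsum M n = ∑ χ ∈ B0 M G, n χ * charDegree (χ : G → ℂ) := by
  classical
  have hfin : Finite (IrrCharacter G) := finite_irr
  let : Fintype (IrrCharacter G) := Fintype.ofFinite _
  have h5 : B0 M G = Finset.univ.filter (fun χ : IrrCharacter G => χ ∈ principalBlock M G) := by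
    ext χ
    rw [mem_B0, Finset.mem_filter]
    exact ⟨fun h => ⟨Finset.mem_univ _, h⟩, fun h => h.2⟩
  unfold bsum
  rw [h5, Finset.sum_filter]

theorem sum_nl0 (hM : IsPModular p M) (P : Sylow p G) [Fintype (P : Subgroup G)] {l : (P : Subgroup G) →* ℂˣ}
    {n : IrrCharacter G → ℤ} (hn : ∀ χ : IrrCharacter G, (n χ : ℂ) * Nat.card (P : Subgroup G) =
      ∑ x : (P : Subgroup G), (χ : G → ℂ) x * conj (l x : ℂ)) :
    (bsum M n : ℂ) * Nat.card (P : Subgroup G) = ∑ χ ∈ B0 M G, (charDegree (χ : G → ℂ) : ℂ) * charDegree (χ : G → ℂ) := by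
  classical
  rw [bsum_eq]
  push_cast
  rw [Finset.sum_mul]
  calc ∑ χ ∈ B0 M G, (n χ : ℂ) * charDegree (χ : G → ℂ) * Nat.card (P : Subgroup G)
      = ∑ χ ∈ B0 M G, ∑ x : (P : Subgroup G), conj (l x : ℂ) * ((charDegree (χ : G → ℂ) : ℂ) * (χ : G → ℂ) x) := by
        refine Finset.sum_congr rfl fun χ _ => ?_
        rw [mul_right_comm, hn, Finset.sum_mul]
        exact Finset.sum_congr rfl fun x _ => by ring
    _ = ∑ x : (P : Subgroup G), conj (l x : ℂ) * ∑ χ ∈ B0 M G, (charDegree (χ : G → ℂ) : ℂ) * (χ : G → ℂ) x := by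
        rw [Finset.sum_comm]
        exact Finset.sum_congr rfl fun x _ => by rw [Finset.mul_sum]
    _ = ∑ x : (P : Subgroup G), (if x = 1 then
          ∑ χ ∈ B0 M G, (charDegree (χ : G → ℂ) : ℂ) * charDegree (χ : G → ℂ) else 0) := by
        refine Finset.sum_congr rfl fun x _ => ?_
        split_ifs with hx
        · subst hx
          rw [map_one, Units.val_one, map_one, one_mul]
          refine Finset.sum_congr rfl fun χ _ => ?_
          rw [Subgroup.coe_one, irr_one_eq_charDegree χ.2]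
        · rw [sum_B0_eq_zero hM, mul_zero]
          have h1 : orderOf x ≠ 1 := fun h => hx (orderOf_eq_one_iff.1 h)
          have h2 : orderOf x ∣ Nat.card (P : Subgroup G) := orderOf_dvd_natCard x
          obtain ⟨k, hk⟩ := IsPGroup.iff_card.1 P.isPGroup'
          rw [hk] at h2
          obtain ⟨j, -, hj⟩ := (Nat.dvd_prime_pow hp.out).1 h2
          rw [Subgroup.orderOf_coe, hj]
          refine dvd_pow_self p fun h3 => h1 ?_
          rw [hj, h3, pow_zero]
    _ = _ := by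
        rw [Finset.sum_ite_eq' Finset.univ (1 : (P : Subgroup G))]
        simp only [_root_.Finset.mem_univ, ↓ _root_.reduceIte]

theorem bsum_nl (hM : IsPModular p M) (P : Sylow p G) [Fintype (P : Subgroup G)] {l : (P : Subgroup G) →* ℂˣ}
    {n : IrrCharacter G → ℤ} (hn : ∀ χ : IrrCharacter G, (n χ : ℂ) * Nat.card (P : Subgroup G) =
      ∑ x : (P : Subgroup G), (χ : G → ℂ) x * conj (l x : ℂ)) :
    bsum M n ≡ cnt (P : Subgroup G) (G ⧸ (P : Subgroup G)) [ZMOD p] := by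
  classical
  have : Fintype G := Fintype.ofFinite G
  have hc : (Nat.card (P : Subgroup G) : ℂ) ≠ 0 := card_ne_zero_complex
  have h1 := sum_nl0 hM P hn
  have h2 : ∀ χ : IrrCharacter G, (((mult (G ⧸ (P : Subgroup G)) χ : ℤ)) : ℂ) * Nat.card (P : Subgroup G) =
      ∑ x : (P : Subgroup G), (χ : G → ℂ) x * conj (((1 : (P : Subgroup G) →* ℂˣ) x : ℂˣ) : ℂ) := by
    intro χ
    have h3 := mult_eq (G ⧸ (P : Subgroup G)) χ
    have h4 : classInner (permC G (G ⧸ (P : Subgroup G))) (χ : G → ℂ) =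
        (Nat.card (P : Subgroup G) : ℂ)⁻¹ * ∑ h : (P : Subgroup G), conj ((χ : G → ℂ) h) :=
      H139.RealB0.Crit.classInner_fixedPointCharacter (P : Subgroup G) χ
    rw [h3] at h4
    have h5 : (mult (G ⧸ (P : Subgroup G)) χ : ℂ) * Nat.card (P : Subgroup G) =
        ∑ h : (P : Subgroup G), conj ((χ : G → ℂ) h) := by
      rw [h4]
      field_simp
    have h6 := congrArg conj h5
    rw [map_mul, map_natCast, map_natCast, map_sum] at h6
    rw [Int.cast_natCast, h6]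
    refine Finset.sum_congr rfl fun x _ => ?_
    rw [Complex.conj_conj]
    simp
  have h3 := sum_nl0 hM P h2
  rw [← h3] at h1
  have h4 : bsum M n = bsum M (fun χ : IrrCharacter G => (mult (G ⧸ (P : Subgroup G)) χ : ℤ)) := by
    have h5 := mul_right_cancel₀ hc h1
    exact_mod_cast h5
  rw [h4, bsum_mult, Int.natCast_modEq_iff]
  exact H667.BR.count _ hM P

/-- the key congruence in the principal block -/
theorem key0 (hM : IsPModular p M) (hpG : p ∣ Nat.card G) (P : Sylow p G) [Fintype (P : Subgroup G)]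
    [Fintype (IrrCharacter G)] {l : (P : Subgroup G) →* ℂˣ} (hl : ∀ x, (l x : ℂ) ^ p = 1)
    {c : IrrCharacter G → ℤ} {m : ℤ} (hc0 : ∀ χ : IrrCharacter G, ¬ Mem0 p M χ → c χ = 0)
    (hcm : ∀ χ : IrrCharacter G, Mem0 p M χ → (p : ℤ) ∣ c χ - m * charDegree (χ : G → ℂ)) :
    ∃ b : ℤ, b ≡ m * cnt (P : Subgroup G) (G ⧸ (P : Subgroup G)) [ZMOD p] ∧
      (b : ℂ) * Nat.card (P : Subgroup G) =
        ∑ x : (P : Subgroup G), (∑ χ : IrrCharacter G, (c χ : ℂ) * (χ : G → ℂ) x) * conj (l x : ℂ) := by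
  classical
  obtain ⟨n, hn⟩ := exists_nl (P : Subgroup G) l
  refine ⟨∑ χ : IrrCharacter G, c χ * n χ, ?_, ?_⟩
  · have h1 := bsum_modEq_xsum (p := p) (M := M) n (fun u hu χ => nl_pw hpG hl hn hu χ)
    have h2 := ((h1.symm.trans (bsum_nl hM P hn)).mul_left m)
    refine Int.ModEq.trans ?_ h2
    unfold xsum
    have h3 : (∑ χ : IrrCharacter G, if Mem0 p M χ then n χ * (charDegree (χ : G → ℂ) : ℤ) else 0) =
        @Finset.sum _ _ _ (@Finset.univ _ (Fintype.ofFinite (IrrCharacter G)))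
          (fun χ : IrrCharacter G => if Mem0 p M χ then n χ * (charDegree (χ : G → ℂ) : ℤ) else 0) := by
      congr 1
      exact congrArg (fun i => @Finset.univ _ i) (Subsingleton.elim _ _)
    rw [← h3, Finset.mul_sum, Int.modEq_iff_dvd, ← Finset.sum_sub_distrib]
    refine Finset.dvd_sum fun χ _ => ?_
    by_cases h4 : Mem0 p M χ
    · rw [if_pos h4]
      have h5 := (hcm χ h4).mul_right (n χ)
      rw [← dvd_neg] at h5
      convert h5 using 1
      ring
    · rw [if_neg h4, hc0 χ h4, zero_mul, mul_zero, sub_zero]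
      exact dvd_zero _
  · push_cast
    rw [Finset.sum_mul]
    calc ∑ χ : IrrCharacter G, (c χ : ℂ) * n χ * Nat.card (P : Subgroup G)
        = ∑ χ : IrrCharacter G, ∑ x : (P : Subgroup G), (c χ : ℂ) * (χ : G → ℂ) x * conj (l x : ℂ) := by
          refine Finset.sum_congr rfl fun χ _ => ?_
          rw [mul_assoc, hn, Finset.mul_sum]
          exact Finset.sum_congr rfl fun x _ => by ring
      _ = _ := by
          rw [Finset.sum_comm]
          exact Finset.sum_congr rfl fun x _ => by rw [Finset.sum_mul]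

/-- the case of equality, abstract form -/
theorem cyclic_of_key (P : Sylow p G) [Fintype (P : Subgroup G)] {F : G → ℤ} (hFF : ∀ g, F g * F g = F g) {j0 : ℤ}
    (hj0 : ¬ (p : ℤ) ∣ j0)
    (hkey : ∀ l : (P : Subgroup G) →* ℂˣ, (∀ x, (l x : ℂ) ^ p = 1) → ∃ b : ℤ, b ≡ j0 [ZMOD p] ∧
      (b : ℂ) * Nat.card (P : Subgroup G) = p * ∑ x : (P : Subgroup G), (F x : ℂ) * conj (l x : ℂ)) :
    IsCyclic (P : Subgroup G) := by
  classical
  obtain ⟨j, hj1, hj2⟩ := hkey 1 (fun x => by simp)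
  have hj3 : (j : ℂ) * Nat.card (P : Subgroup G) = p * ∑ x : (P : Subgroup G), (F x : ℂ) := by
    rw [hj2]
    congr 1
    refine Finset.sum_congr rfl fun x _ => ?_
    simp
  have hj0' : ¬ (p : ℤ) ∣ j := fun h1 => hj0 ((Int.ModEq.dvd_iff hj1).1 h1)
  have h1 : ∀ K : Subgroup (P : Subgroup G), IsCoatom K → ∀ x, x ∈ K ↔ F (x : G) = F 1 := by
    intro K hK x
    obtain ⟨h2, h3⟩ := Cfsg.Agent.S0014.coatom_normal_index P.isPGroup' hK
    have h4 := ker_eq (p := p) (K := K) h3 (F := fun x : (P : Subgroup G) => F (x : G)) (fun x => hFF _) hj0' hj3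
      (fun l hl => by
        obtain ⟨b, hb1, hb2⟩ := hkey l hl
        exact ⟨b, hb1.trans hj1.symm, hb2⟩) x
    exact h4
  refine isCyclic_of_unique fun K L hK hL => ?_
  ext x
  rw [h1 K hK, h1 L hL]

/-- **Equality in a lattice inequality for `X0`: the Sylow subgroup is cyclic.** -/
theorem cyclic_of_latX0 (hM : IsPModular p M) (hpG : p ∣ Nat.card G) (P : Sylow p G) {x : ℕ}
    (hx0 : 0 < x) (hx : x ≤ p / 2) (heq : ∑ χ ∈ XF p M G, cx p x χ ^ 2 = (p : ℤ) * x) : IsCyclic (P : Subgroup G) := by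
  classical
  have hfin : Finite (IrrCharacter G) := finite_irr
  let : Fintype (IrrCharacter G) := Fintype.ofFinite _
  have : Fintype (P : Subgroup G) := Fintype.ofFinite _
  obtain ⟨F, hF⟩ := exists_F_cX (G := G) hM hpG x
  have h2 : cX p M x (⟨fun _ => 1, isIrrCharacter_one⟩ : IrrCharacter G) = x := cX_one hM hx
  have hFF := lattice_eq hp.1.ne_zero (one_mem_B0 hM) hF (by rw [sum_XF, heq, h2])
  have hF' : ∀ g, ∑ χ : IrrCharacter G, (cX p M x χ : ℂ) * (χ : G → ℂ) g = p * F g := by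
    intro g
    rw [← hF g]
    symm
    refine Finset.sum_subset (Finset.subset_univ _) fun χ _ h3 => ?_
    have h4 : ¬ Mem0 p M χ := fun h5 => h3 (mem_B0.2 h5.1)
    unfold cX
    rw [if_neg h4, Int.cast_zero, zero_mul]
  refine cyclic_of_key P hFF (j0 := x * cnt (P : Subgroup G) (G ⧸ (P : Subgroup G))) ?_ fun l hl => ?_
  · intro h3
    rcases (Nat.prime_iff_prime_int.1 hp.out).dvd_or_dvd h3 with h4 | h4
    · have h4 : p ∣ x := by exact_mod_cast h4
      have h5 := Nat.le_of_dvd hx0 h4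
      have h6 := Nat.div_lt_self hp.out.pos (le_refl 2)
      omega
    · exact not_dvd_cnt P (by exact_mod_cast h4)
  · obtain ⟨b, hb1, hb2⟩ := key0 hM hpG P hl (c := cX p M x) (m := x) (fun χ h => if_neg h) (fun χ h => by
      unfold cX
      rw [if_pos h]
      have h1 := dvd_cx (p := p) x χ
      rwa [pow_one] at h1)
    refine ⟨b, hb1, ?_⟩
    rw [hb2, Finset.mul_sum]
    refine Finset.sum_congr rfl fun y _ => ?_
    rw [hF']
    ring

/-! ### `p = 7` -/

instance fact_seven : Fact (Nat.Prime 7) := ⟨by norm_num⟩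

theorem seven_aux : ∀ d : ZMod 7, d ≠ 0 →
    ((d * ((1 : ℕ) : ZMod 7)).valMinAbs ^ 2 = 1 ∧ (d * ((2 : ℕ) : ZMod 7)).valMinAbs ^ 2 = 4 ∧
      (d * ((3 : ℕ) : ZMod 7)).valMinAbs ^ 2 = 9) ∨
    ((d * ((1 : ℕ) : ZMod 7)).valMinAbs ^ 2 = 4 ∧ (d * ((2 : ℕ) : ZMod 7)).valMinAbs ^ 2 = 9 ∧
      (d * ((3 : ℕ) : ZMod 7)).valMinAbs ^ 2 = 1) ∨
    ((d * ((1 : ℕ) : ZMod 7)).valMinAbs ^ 2 = 9 ∧ (d * ((2 : ℕ) : ZMod 7)).valMinAbs ^ 2 = 1 ∧
      (d * ((3 : ℕ) : ZMod 7)).valMinAbs ^ 2 = 4) := by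
  decide

open Classical in
/-- the numbers of the members of `X0` with degree `± 1`, `± 2`, `± 3` modulo `7` -/
theorem seven_counts : ∃ a b c : ℕ, a + b + c = x0 7 M G ∧ ∑ χ ∈ XF 7 M G, cx 7 1 χ ^ 2 = ((a + 4 * b + 9 * c : ℕ) : ℤ) ∧
    ∑ χ ∈ XF 7 M G, cx 7 2 χ ^ 2 = ((4 * a + 9 * b + c : ℕ) : ℤ) ∧
    ∑ χ ∈ XF 7 M G, cx 7 3 χ ^ 2 = ((9 * a + b + 4 * c : ℕ) : ℤ) := by
  rw [← card_XF]
  have h : ∀ s : Finset (IrrCharacter G), s ⊆ XF 7 M G → ∃ a b c : ℕ, a + b + c = s.card ∧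
      ∑ χ ∈ s, cx 7 1 χ ^ 2 = ((a + 4 * b + 9 * c : ℕ) : ℤ) ∧
      ∑ χ ∈ s, cx 7 2 χ ^ 2 = ((4 * a + 9 * b + c : ℕ) : ℤ) ∧
      ∑ χ ∈ s, cx 7 3 χ ^ 2 = ((9 * a + b + 4 * c : ℕ) : ℤ) := by
    intro s
    induction s using Finset.induction_on with
    | empty => exact fun _ => ⟨0, 0, 0, by simp⟩
    | insert χ s hχ ih =>
      intro hs
      obtain ⟨a, b, c, h1, h2, h3, h4⟩ := ih ((Finset.subset_insert _ _).trans hs)
      have h5 := seven_aux _ fun h1 => (mem_XF.1 (hs (Finset.mem_insert_self _ _))).2.1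
        ((ZMod.natCast_eq_zero_iff (charDegree (χ : G → ℂ)) _).1 h1)
      rw [Finset.sum_insert hχ, Finset.sum_insert hχ, Finset.sum_insert hχ, Finset.card_insert_of_notMem hχ, h2, h3, h4]
      unfold cx
      rcases h5 with ⟨h6, h7, h8⟩ | ⟨h6, h7, h8⟩ | ⟨h6, h7, h8⟩
      · refine ⟨a + 1, b, c, by omega, ?_, ?_, ?_⟩
        · rw [h6]; push_cast; ring
        · rw [h7]; push_cast; ring
        · rw [h8]; push_cast; ring
      · refine ⟨a, b + 1, c, by omega, ?_, ?_, ?_⟩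
        · rw [h6]; push_cast; ring
        · rw [h7]; push_cast; ring
        · rw [h8]; push_cast; ring
      · refine ⟨a, b, c + 1, by omega, ?_, ?_, ?_⟩
        · rw [h6]; push_cast; ring
        · rw [h7]; push_cast; ring
        · rw [h8]; push_cast; ring
  exact h _ (Finset.Subset.refl _)

/-- **`p = 7`**: at least five members of `X0` if `P` is not cyclic -/
theorem seven_x0 (hM : IsPModular 7 M) (hpG : 7 ∣ Nat.card G) (P : Sylow 7 G) (hP : ¬ IsCyclic (P : Subgroup G)) :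
    5 ≤ x0 7 M G := by
  have h1 := latX (G := G) hM hpG (x := 1) (by norm_num)
  have h2 := latX (G := G) hM hpG (x := 2) (by norm_num)
  have h3 := latX (G := G) hM hpG (x := 3) (by norm_num)
  rw [sum_XF] at h1 h2 h3
  have h4 := dvd_sum_XF (G := G) hM hpG
  obtain ⟨a, b, c, h5, h6, h7, h8⟩ := seven_counts (M := M) (G := G)
  have h9 : ∑ χ ∈ XF 7 M G, cx 7 1 χ ^ 2 ≠ 7 * 1 := fun h => hP (cyclic_of_latX0 hM hpG P (x := 1) (by norm_num) (by norm_num)
    (by rw [h]; norm_num))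
  rw [h6] at h1 h4 h9
  rw [h7] at h2
  rw [h8] at h3
  by_contra hcon
  have h10 : (7 : ℕ) ∣ a + 4 * b + 9 * c := by exact_mod_cast h4
  rw [← h5] at hcon
  clear h4 h5 h6 h7 h8
  push_cast at h1 h2 h3 h9
  have ha : a ≤ 4 := by (clear * - hcon; omega)
  have hb : b ≤ 4 := by (clear * - hcon; omega)
  have hc : c ≤ 4 := by (clear * - hcon; omega)
  interval_cases a <;> interval_cases b <;> interval_cases c <;> (clear * - h1 h10 hcon h3 h2 h9; omega)

end Cfsg.Agent.H563.XZ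
end

-- part: H674/XZ/Final
section
/-!
# S4791 + S4927 from the strict inequality for noncyclic Sylow subgroups, `p ≥ 11` (helper674)
-/

set_option autoImplicit false

namespace Cfsg.Agent.H674.XZ

open Cfsg Subgroup

universe u

/-- **The remaining statement:** `p ≥ 11`, noncyclic Sylow subgroups. -/
def Strict : Prop :=
  ∀ (p : ℕ) [Fact p.Prime], 11 ≤ p → ∀ (M : Ideal AlgInt), IsPModular p M → ∀ (G : Type u) [Group G] [Finite G],
    p ∣ Nat.card G → (∀ P : Sylow p G, ¬ IsCyclic (P : Subgroup G)) → 4 * (p - 1) < x0 p M G ^ 2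

theorem cyclic_all {p : ℕ} [Fact p.Prime] {G : Type u} [Group G] [Finite G] {P : Sylow p G}
    (hP : ¬ IsCyclic (P : Subgroup G)) (Q : Sylow p G) : ¬ IsCyclic (Q : Subgroup G) := by
  intro h
  exact hP ((P.equiv Q).isCyclic.2 h)

/-- the strict inequality for `xx`, all primes -/
theorem strict_xx (H : Strict.{u}) {p : ℕ} [hp : Fact p.Prime] {G : Type u} [Group G] [Finite G] (hd : p ∣ Nat.card G)
    (P : Sylow p G) (hP : ¬ IsCyclic (P : Subgroup G)) : 4 * (p - 1) < xx p G ^ 2 := by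
  rcases le_or_gt p 5 with h5 | h5
  · exact Cfsg.Agent.H563.XZ.small_strict h5 hd P hP
  obtain ⟨M, hM⟩ := Cfsg.Agent.Blocks.ExistsModular.exists_isPModular hp.out
  rcases le_or_gt 11 p with h11 | h11
  · exact (H p h11 M hM G hd (cyclic_all hP)).trans_le (Nat.pow_le_pow_left x0_le_xx 2)
  · have h7 : p = 7 := by
      have := hp.out
      interval_cases p
      · exact absurd this (by norm_num)
      · rfl
      · exact absurd this (by norm_num)
      · exact absurd this (by norm_num)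
      · exact absurd this (by norm_num)
    subst h7
    have h1 := Cfsg.Agent.H563.XZ.seven_x0 hM hd P hP
    have h2 := x0_le_xx (p := 7) (M := M) (G := G)
    nlinarith

/-- **S4791** -/
theorem S4791_of (H : Strict.{u}) {G : Type u} [Group G] [Finite G] (p : ℕ) [hp : Fact p.Prime] (hdvd : p ∣ Nat.card G)
    (P : Sylow p G) : 4 * (p - 1) ≤ xx p G ^ 2 ∧ (xx p G ^ 2 = 4 * (p - 1) ↔
      (IsCyclic P ∧ ∃ s : ℕ, s ^ 2 = p - 1 ∧
        Nat.card (Subgroup.normalizer ((P : Subgroup G) : Set G)) = Nat.card P * s ∧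
        ∃ C : Subgroup G, C ≤ Subgroup.normalizer ((P : Subgroup G) : Set G) ∧ IsCyclic C ∧ Nat.card C = s ∧
          C ⊓ (P : Subgroup G) = ⊥ ∧ ∀ h ∈ C, h ≠ 1 → ∀ x ∈ (P : Subgroup G), x ≠ 1 → h * x * h⁻¹ ≠ x)) := by
  obtain ⟨M, hM⟩ := Cfsg.Agent.Blocks.ExistsModular.exists_isPModular hp.out
  by_cases hP : IsCyclic (P : Subgroup G)
  · exact cyclic_iff hM hdvd P hP
  · have h := strict_xx H hdvd P hP
    exact ⟨h.le, fun h1 => absurd h1 h.ne', fun h1 => absurd h1.1 hP⟩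

/-- **S4927** -/
theorem S4927_of (H : Strict.{u}) {G : Type u} [Group G] [Finite G] (p : ℕ) [hp : Fact p.Prime] (hdvd : p ∣ Nat.card G)
    (M : Ideal AlgInt) (hM : IsPModular p M) : 4 * (p - 1) ≤ x0 p M G ^ 2 := by
  obtain ⟨P⟩ : Nonempty (Sylow p G) := inferInstance
  by_cases hP : IsCyclic (P : Subgroup G)
  · exact four_le_cyclic hM P hP hdvd
  rcases le_or_gt p 5 with h5 | h5
  · exact Cfsg.Agent.H563.XZ.small_x0 hM h5 hdvd
  rcases le_or_gt 11 p with h11 | h11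
  · exact (H p h11 M hM G hdvd (cyclic_all hP)).le
  · have h7 : p = 7 := by
      have := hp.out
      interval_cases p
      · exact absurd this (by norm_num)
      · rfl
      · exact absurd this (by norm_num)
      · exact absurd this (by norm_num)
      · exact absurd this (by norm_num)
    subst h7
    have h1 := Cfsg.Agent.H563.XZ.seven_x0 hM hdvd P hP
    nlinarith

/-- the literal statement of S4791 -/
theorem S4791_literal (H : Strict.{u}) {G : Type u} [Group G] [Finite G] (p : ℕ) [Fact p.Prime] (hdvd : p ∣ Nat.card G) (P : Sylow p G) : 4 * (p - 1) ≤ Nat.card {χ : Cfsg.IrrCharacter G // ¬ p ∣ Cfsg.charDegree (χ : G → ℂ) ∧ (∃ n : ℕ, 0 < n ∧ ¬ p ^ 2 ∣ n ∧ ∀ g : G, (χ : G → ℂ) g ∈ IntermediateField.adjoin ℚ ({Complex.exp (2 * Real.pi * Complex.I / n)} : Set ℂ))} ^ 2 ∧ (Nat.card {χ : Cfsg.IrrCharacter G // ¬ p ∣ Cfsg.charDegree (χ : G → ℂ) ∧ (∃ n : ℕ, 0 < n ∧ ¬ p ^ 2 ∣ n ∧ ∀ g : G, (χ : G → ℂ) g ∈ IntermediateField.adjoin ℚ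 ({Complex.exp (2 * Real.pi * Complex.I / n)} : Set ℂ))} ^ 2 = 4 * (p - 1) ↔ (IsCyclic P ∧ ∃ s : ℕ, s ^ 2 = p - 1 ∧ Nat.card (Subgroup.normalizer ((P : Subgroup G) : Set G)) = Nat.card P * s ∧ ∃ C : Subgroup G, C ≤ Subgroup.normalizer ((P : Subgroup G) : Set G) ∧ IsCyclic C ∧ Nat.card C = s ∧ C ⊓ (P : Subgroup G) = ⊥ ∧ ∀ h ∈ C, h ≠ 1 → ∀ x ∈ (P : Subgroup G), x ≠ 1 → h * x * h⁻¹ ≠ x)) :=
  S4791_of H p hdvd P

/-- the literal statement of S4927 -/
theorem S4927_literal (H : Strict.{u}) {G : Type u} [Group G] [Finite G] (p : ℕ) [Fact p.Prime] (hdvd : p ∣ Nat.card G) (M : Ideal Cfsg.AlgInt) (hM : Cfsg.IsPModular p M) :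
    4 * (p - 1) ≤ Nat.card {χ : Cfsg.IrrCharacter G // χ ∈ Cfsg.principalBlock M G ∧ ¬ p ∣ Cfsg.charDegree (χ : G → ℂ) ∧ (∃ n : ℕ, 0 < n ∧ ¬ p ^ 2 ∣ n ∧ ∀ g : G, (χ : G → ℂ) g ∈ IntermediateField.adjoin ℚ ({Complex.exp (2 * Real.pi * Complex.I / n)} : Set ℂ))} ^ 2 :=
  S4927_of H p hdvd M hM

end Cfsg.Agent.H674.XZ
end

-- part: H508/XR/Asm
section
/-!
# S4791 + S4927: assembly

`RowsZ p M` : all rows for simple groups with noncyclic Sylow `p`-subgroups, `p ≥ 11`, and the cyclic case for `t ≥ 2`;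
`strict_of` : `H674.XZ.Strict` from the rows and the affine case.
-/

set_option autoImplicit false

open Cfsg Subgroup
open Cfsg.Agent.H674.XZ
open Cfsg.Agent.H668.XZ (Row0 Cnt)

namespace Cfsg.Agent.H508.XR

universe u

/-- all rows, `p ≥ 11` -/
structure RowsZ (p : ℕ) (M : Ideal AlgInt) : Prop where
  cyc : ∀ (A : Type u) [Group A] [Finite A] (S : Subgroup A) [S.Normal], centralizer (S : Set A) = ⊥ → ¬ p ∣ S.index →
    IsSimpleGroup S → ¬ IsMulCommutative S → p ∣ Nat.card S → ∀ P : Sylow p S, IsCyclic (P : Subgroup S) →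
    ∀ t n : ℕ, 2 ≤ t → Cnt p M S t n → 4 * (p - 1) < n ^ 2
  alt : ∀ (S : Type u) [Group S] [Finite S] [IsSimpleGroup S] (m : ℕ), 5 ≤ m → Nonempty (S ≃* alternatingGroup (Fin m)) →
    NC p S → Row0 p M S
  spor : ∀ (S : Type u) [Group S] [Finite S] [IsSimpleGroup S], IsSporadicGroup S → NC p S → Row0 p M S
  tits : ∀ (S : Type u) [Group S] [Finite S] [IsSimpleGroup S], Lie.IsoTits S → NC p S → Row0 p M S
  own : ∀ (S : Type u) [Group S] [Finite S] [IsSimpleGroup S], IsLieTypeChar p S → NC p S → Row0 p M S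
  psl : ∀ (r : ℕ) [Fact r.Prime], r ≠ p → ∀ (S : Type u) [Group S] [Finite S] [IsSimpleGroup S], IsPSLChar r S → NC p S →
    Row0 p M S
  psp : ∀ (r : ℕ) [Fact r.Prime], r ≠ p → ∀ (S : Type u) [Group S] [Finite S] [IsSimpleGroup S], IsPSpChar r S → NC p S →
    Row0 p M S
  psu : ∀ (r : ℕ) [Fact r.Prime], r ≠ p → ∀ (S : Type u) [Group S] [Finite S] [IsSimpleGroup S], IsPSUChar r S → NC p S →
    Row0 p M S
  oOdd : ∀ (r : ℕ) [Fact r.Prime], r ≠ p → ∀ (S : Type u) [Group S] [Finite S] [IsSimpleGroup S], IsPOmegaOddChar r S →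
    NC p S → Row0 p M S
  oPlus : ∀ (r : ℕ) [Fact r.Prime], r ≠ p → ∀ (S : Type u) [Group S] [Finite S] [IsSimpleGroup S] (F : Type) [Field F]
    [Fintype F] [CharP F r] (m : ℕ), 5 ≤ m → Nonempty (S ≃* POmega F (quadFormPlus m F)) → NC p S → Row0 p M S
  oPlus4 : ∀ (r : ℕ) [Fact r.Prime], r ≠ p → ∀ (S : Type u) [Group S] [Finite S] [IsSimpleGroup S] (F : Type) [Field F]
    [Fintype F] [CharP F r], Nonempty (S ≃* POmega F (quadFormPlus 4 F)) → NC p S → Row0 p M S
  oMinus : ∀ (r : ℕ) [Fact r.Prime], r ≠ p → ∀ (S : Type u) [Group S] [Finite S] [IsSimpleGroup S], IsPOmegaMinusChar r S →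
    NC p S → Row0 p M S
  g2 : ∀ (r : ℕ) [Fact r.Prime], r ≠ p → ∀ (S : Type u) [Group S] [Finite S] [IsSimpleGroup S] (F : Type) [Field F]
    [Fintype F] [CharP F r], 3 ≤ Fintype.card F → Nonempty (S ≃* Lie.chevG2.group F) → NC p S → Row0 p M S
  f4 : ∀ (r : ℕ) [Fact r.Prime], r ≠ p → ∀ (S : Type u) [Group S] [Finite S] [IsSimpleGroup S] (F : Type) [Field F]
    [Fintype F] [CharP F r], Nonempty (S ≃* Lie.chevF4.group F) → NC p S → Row0 p M S
  e6 : ∀ (r : ℕ) [Fact r.Prime], r ≠ p → ∀ (S : Type u) [Group S] [Finite S] [IsSimpleGroup S] (F : Type) [Field F]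
    [Fintype F] [CharP F r], Nonempty (S ≃* Lie.chevE6.group F) → NC p S → Row0 p M S
  e7 : ∀ (r : ℕ) [Fact r.Prime], r ≠ p → ∀ (S : Type u) [Group S] [Finite S] [IsSimpleGroup S] (F : Type) [Field F]
    [Fintype F] [CharP F r], Nonempty (S ≃* Lie.chevE7.group F) → NC p S → Row0 p M S
  e8 : ∀ (r : ℕ) [Fact r.Prime], r ≠ p → ∀ (S : Type u) [Group S] [Finite S] [IsSimpleGroup S] (F : Type) [Field F]
    [Fintype F] [CharP F r], Nonempty (S ≃* Lie.chevE8.group F) → NC p S → Row0 p M S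
  te6 : ∀ (r : ℕ) [Fact r.Prime], r ≠ p → ∀ (S : Type u) [Group S] [Finite S] [IsSimpleGroup S] (F : Type) [Field F]
    [Fintype F] [CharP F r] (q : ℕ), IsPrimePow q → Fintype.card F = q ^ 2 → Nonempty (S ≃* Lie.twistedE6 F q) → NC p S →
    Row0 p M S
  td4 : ∀ (r : ℕ) [Fact r.Prime], r ≠ p → ∀ (S : Type u) [Group S] [Finite S] [IsSimpleGroup S] (F : Type) [Field F]
    [Fintype F] [CharP F r] (q : ℕ), IsPrimePow q → Fintype.card F = q ^ 3 → Nonempty (S ≃* Lie.twistedD4 F q) → NC p S →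
    Row0 p M S
  sz : ∀ (S : Type u) [Group S] [Finite S] [IsSimpleGroup S], Lie.IsoSuzuki S → NC p S → Row0 p M S
  ree : ∀ (S : Type u) [Group S] [Finite S] [IsSimpleGroup S], Lie.IsoRee S → NC p S → Row0 p M S
  tf4 : ∀ (S : Type u) [Group S] [Finite S] [IsSimpleGroup S], Lie.Iso2F4 S → NC p S → Row0 p M S

theorem RowsZ.row {p : ℕ} [Fact p.Prime] {M : Ideal AlgInt} (R : RowsZ.{u} p M) (S : Type u) [Group S]
    [Finite S] [IsSimpleGroup S] (hna : ¬ IsMulCommutative S) (hk : IsKnownSimple' S) (hP : NC p S) : Row0 p M S := by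
  have lie : ∀ r : ℕ, r.Prime → IsLieTypeChar r S → Row0 p M S := by
    intro r hr h
    have hrF : Fact r.Prime := ⟨hr⟩
    by_cases hrp : r = p
    · subst hrp
      exact R.own S h hP
    rcases h with h | h | h | h | h | h | h | h | ⟨-, h⟩ | ⟨-, h⟩ | ⟨-, h⟩
    · exact R.psl r hrp S h hP
    · exact R.psp r hrp S h hP
    · exact R.psu r hrp S h hP
    · exact R.oOdd r hrp S h hP
    · obtain ⟨F, i1, i2, i3, m, hm, e⟩ := h
      rcases Nat.lt_or_ge m 5 with h5 | h5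
      · obtain rfl : m = 4 := by omega
        exact R.oPlus4 r hrp S F e hP
      · exact R.oPlus r hrp S F m h5 e hP
    · exact R.oMinus r hrp S h hP
    · obtain ⟨F, i1, i2, i3, h⟩ := h
      rcases h with ⟨h3, e⟩ | e | e | e | e
      · exact R.g2 r hrp S F h3 e hP
      · exact R.f4 r hrp S F e hP
      · exact R.e6 r hrp S F e hP
      · exact R.e7 r hrp S F e hP
      · exact R.e8 r hrp S F e hP
    · obtain ⟨F, i1, i2, i3, q, hq, ⟨hF, e⟩ | ⟨hF, e⟩⟩ := h
      · exact R.te6 r hrp S F q hq hF e hP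
      · exact R.td4 r hrp S F q hq hF e hP
    · exact R.sz S h hP
    · exact R.tf4 S h hP
    · exact R.ree S h hP
  rcases Cfsg.Agent.OddHalf.Known.classify' hna hk with h | ⟨r, hr, h⟩ | h | h
  · obtain ⟨m, hm, e⟩ := h
    exact R.alt S m hm e hP
  · exact lie r hr h
  · exact R.tits S h hP
  · exact R.spor S h hP

/-- the affine case -/
def Affine (p : ℕ) (M : Ideal AlgInt) : Prop :=
  ∀ (G : Type u) [Group G] [Finite G] (N : Subgroup G) [N.Normal],
    (∀ K : Subgroup G, K.Normal → K ≤ N → K = ⊥ ∨ K = N) → N ≠ ⊥ → (∀ x ∈ N, ∀ y ∈ N, x * y = y * x) → IsPGroup p N →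
    centralizer (N : Set G) = N → ¬ p ∣ N.index → (∀ P : Sylow p G, ¬ IsCyclic (P : Subgroup G)) →
    4 * (p - 1) < x0 p M G ^ 2

/-- **The assembly.** -/
theorem strict_one {p : ℕ} [Fact p.Prime] {M : Ideal AlgInt} (hM : IsPModular p M) (haff : Affine.{u} p M)
    (R : RowsZ.{u} p M)
    (hk : ∀ (S : Type u) [Group S] [Finite S] [IsSimpleGroup S], IsKnownSimple' S)
    (G : Type u) [Group G] [Finite G] (hpG : p ∣ Nat.card G) (hP : ∀ P : Sylow p G, ¬ IsCyclic (P : Subgroup G)) :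
    4 * (p - 1) < x0 p M G ^ 2 := by
  refine H668.XZ.reduce_lt hM (fun G _ _ hd P hc => four_le_cyclic hM P hc hd)
    (fun G _ _ K _ P h1 h2 => H914.XR.hext hM K P h1 h2) haff ?_ G hpG hP
  intro G _ _ N _ hmin hN1 hna hcen hcop hdN hnc
  obtain ⟨A, iA, iF, S, iS, h1, h2, h3, h4, h5, t, h6, h7, h8⟩ :=
    H668.XZ.exists_cnt hM G N hmin hna hcen hcop hdN
  have := h1
  by_cases hS : NC p ↥S
  · exact R.row ↥S h2 (hk ↥S) hS A S ⟨MulEquiv.refl _⟩ h3 h4 t _ h6 h7
  · unfold NC at hS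
    push Not at hS
    obtain ⟨Q, hQ⟩ := hS
    rcases Nat.lt_or_ge t 2 with h9 | h9
    · obtain rfl : t = 1 := by omega
      obtain ⟨P⟩ : Nonempty (Sylow p G) := inferInstance
      exact absurd (h8 rfl ⟨Q, hQ⟩ P) (hnc P)
    · exact R.cyc A S h3 h4 h1 h2 h5 Q hQ t _ h9 h7

theorem strict_of (haff : ∀ (p : ℕ) [Fact p.Prime], 11 ≤ p → ∀ (M : Ideal AlgInt), IsPModular p M → Affine.{u} p M)
    (R : ∀ (p : ℕ) [Fact p.Prime], 11 ≤ p → ∀ (M : Ideal AlgInt), IsPModular p M → RowsZ.{u} p M)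
    (hk : ∀ (S : Type u) [Group S] [Finite S] [IsSimpleGroup S], IsKnownSimple' S) : Strict.{u} :=
  fun p _ h11 M hM G _ _ hd hP => strict_one hM (haff p h11 M hM) (R p h11 M hM) hk G hd hP

end Cfsg.Agent.H508.XR
end

-- part: H963/XZ/Alt
section
/-!
# S4791 + S4927: the alternating groups (helper963)

* `FV_ch` : `F(χ_k) = 1` for the `k`-th family member, restricted to the alternating group;
* `ip_ch_eq_zero` : the restrictions are orthogonal;
* `le_kap0_alt`, `row0_alt`.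
-/

set_option autoImplicit false

open scoped ComplexConjugate

namespace Cfsg.Agent.H963.XZ

open Finset Cfsg Cfsg.Agent.H614 Cfsg.Agent.H615.AltRefl Cfsg.Agent.H615.AltConj Cfsg.Agent.Characters.Core
  Cfsg.Agent.H674.XZ

universe u v

variable {p : ℕ} [hp : Fact p.Prime] {M : Ideal AlgInt} {T : Type u} [Group T] [Finite T]
  {α : Type v} [Fintype α] [DecidableEq α]

omit [Finite T] in
theorem gen_comp {f : T →* Equiv.Perm α} {n : ℕ} (β : Fin n → ℕ) : IsGeneralizedCharacter T (fun t => ch α β (f t)) := by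
  obtain ⟨χ₁, χ₂, h₁, h₂, h⟩ := isGeneralizedCharacter_ch (α := α) β
  refine ⟨_, _, isCharacter_comp f h₁, isCharacter_comp f h₂, ?_⟩
  rw [h]
  rfl

/-- **the functional** -/
theorem FV_ch (hM : IsPModular p M) (hp2 : p ≠ 2) {f : T →* Equiv.Perm α} (hf : Function.Injective f)
    (hr : f.range = alternatingGroup α) {s m k n : ℕ} (hn : n = s + m * p) (hα : Fintype.card α = n) (hs : s < p)
    (hk : k < p) (hsk : s + k ≠ p) (hm : 1 ≤ m) (hkn : k < n) :
    _root_.Cfsg.Agent.H674.XZ.FV p M (fun t => ch α (bt n s (m * p) k hkn) (f t)) 1 := by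
  classical
  have hpos := hp.out.pos
  obtain ⟨z, hz⟩ := exists_cycleType (α := α) (p := p) (w := m) (by rw [hα, hn, mul_comm]; omega)
  have hzp := pow_eq_one_of_cycleType hz
  have hcyc : IsPGroup p (cyc z) := isPGroup_cyc hzp
  have hle : cyc z ≤ alternatingGroup α := le_alternating hp2 hcyc
  have hzc : z ∈ cyc z := ⟨rfl, fun y => ⟨1, rfl⟩⟩
  obtain ⟨z', hz'⟩ : z ∈ f.range := by
    rw [hr]
    exact hle hzc
  refine FV_of_int hM (Q := (cyc z).comap f) (hcyc.comap_of_injective f hf) (gen_comp _)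
    (fun t => ⟨FM (ty (f t)) _, rfl⟩) (c := 1) (z := z') (by rw [Subgroup.mem_comap, hz']; exact hzc) ?_
  intro g hg hgQ
  have h1 : f g ∈ fixS z := by
    refine mem_fixS_of_pRegular hp.out hzp (by rwa [orderOf_injective f hf]) fun e he => ?_
    obtain ⟨e', rfl⟩ : e ∈ f.range := by
      rw [hr]
      exact hle he
    rw [← map_mul, ← map_mul, hgQ e' he]
  rw [map_mul, hz']
  let y : (fixS z).subgroupOf (Subgroup.centralizer ({z} : Set (Equiv.Perm α))) :=
    ⟨⟨f g, fixS_le_centralizer z h1⟩, h1⟩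
  have h2 := ty_mul z y
  change ty (z * f g) = _ at h2
  rw [ch_apply, h2, hz, FM_bt hs hk (by
    rw [hn]
    nlinarith only [hm]) hsk hkn]
  have h3 : (ty (toFix z y)).sum = s := by
    rw [ty_sum, card_fix, hz, hα, Multiset.sum_replicate, smul_eq_mul]
    omega
  have h4 := FM_kp (n := n) (by omega) (ty (toFix z y)) (ty_pos _)
  rw [h3] at h4
  rw [h4]

/-- the inner product on the alternating group -/
theorem ip_alt [Nontrivial α] {f : T →* Equiv.Perm α} (hf : Function.Injective f) (hr : f.range = alternatingGroup α)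
    (φ ψ : Equiv.Perm α → ℂ) :
    ip (fun t => φ (f t)) (fun t => ψ (f t)) = classInner φ ψ + classInner φ (fun g => sgn g * ψ g) := by
  classical
  have := Fintype.ofFinite T
  have hc : (Nat.card (Equiv.Perm α) : ℂ) = 2 * Nat.card T := by
    have e : T ≃ alternatingGroup α := ((MonoidHom.ofInjective hf).trans (MulEquiv.subgroupCongr hr)).toEquiv
    rw [Nat.card_congr e, ← two_mul_nat_card_alternatingGroup]
    push_cast
    rfl
  have hT : (Nat.card T : ℂ) ≠ 0 := card_ne_zero_complex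
  rw [ip_eq, classInner_def, classInner_def, classInner_def, hc, ← mul_add, ← Finset.sum_add_distrib]
  have h1 : ∑ g : Equiv.Perm α, (φ g * conj (ψ g) + φ g * conj (sgn g * ψ g)) =
      2 * ∑ t : T, φ (f t) * conj (ψ (f t)) := by
    have h2 : ∀ g : Equiv.Perm α, (φ g * conj (ψ g) + φ g * conj (sgn g * ψ g)) =
        if g ∈ alternatingGroup α then 2 * (φ g * conj (ψ g)) else 0 := by
      intro g
      rcases Int.units_eq_one_or (Equiv.Perm.sign g) with h | h
      · rw [if_pos (Equiv.Perm.mem_alternatingGroup.2 h)]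
        unfold sgn
        rw [h]
        simp
        ring
      · rw [if_neg (by rw [Equiv.Perm.mem_alternatingGroup, h]; decide)]
        unfold sgn
        rw [h]
        simp only [_root_.Units.val_neg, _root_.Units.val_one, _root_.Int.reduceNeg, _root_.Int.cast_neg, _root_.Int.cast_one, _root_.neg_mul, _root_.one_mul, _root_.map_neg, _root_.mul_neg, _root_.add_neg_cancel]
    rw [Finset.sum_congr rfl fun g _ => h2 g, ← Finset.sum_filter, Finset.mul_sum,
      Finset.sum_subtype (univ.filter (fun g : Equiv.Perm α => g ∈ alternatingGroup α))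
        (p := fun g => g ∈ alternatingGroup α) (by simp)]
    symm
    refine Fintype.sum_equiv ((MonoidHom.ofInjective hf).trans (MulEquiv.subgroupCongr hr)).toEquiv _ _ fun t => ?_
    rfl
  rw [h1]
  field_simp

/-- **orthogonality** -/
theorem ip_ch_eq_zero [Nontrivial α] {f : T →* Equiv.Perm α} (hf : Function.Injective f)
    (hr : f.range = alternatingGroup α) {n : ℕ} (hα : Fintype.card α = n) {β γ : Fin n → ℕ}
    (hβ : ∑ i, β i = Fintype.card α + ∑ i : Fin n, (i : ℕ)) (hinj : Function.Injective γ)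
    (hγ : ∑ i, γ i = Fintype.card α + ∑ i : Fin n, (i : ℕ)) (hne : Set.range β ≠ Set.range γ)
    (hne' : ∀ γ₀ γ' : Fin n → ℕ, Set.range γ₀ = Set.range γ → _root_.Cfsg.Agent.H615.AltRefl.IsRefl γ₀ γ' → Set.range β ≠ Set.range γ') :
    ip (fun t => ch α β (f t)) (fun t => ch α γ (f t)) = 0 := by
  classical
  rw [ip_alt hf hr, classInner_ch hβ, pair_eq_zero_of_range hne, Int.cast_zero, zero_add]
  set σ := Tuple.sort γ with hσ
  have hst : StrictMono (γ ∘ σ) := (Tuple.monotone_sort γ).strictMono_of_injective (hinj.comp σ.injective)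
  have hsσ : ∑ i, (γ ∘ σ) i = Fintype.card α + ∑ i : Fin n, (i : ℕ) := by
    rw [← hγ]
    exact Equiv.sum_comp σ γ
  have hlt : ∀ i, (γ ∘ σ) i < n + n := lt_of_strictMono hst hsσ (by rw [hα])
  obtain ⟨γ', hst', href⟩ := exists_refl hst hlt
  have h1 : (fun g : Equiv.Perm α => sgn g * ch α γ g) = fun g => (sg σ : ℂ) * ch α γ' g := by
    funext g
    have h2 : ch α (γ ∘ σ) g = (sg σ : ℂ) * ch α γ g := by
      rw [ch_apply, ch_apply, FM_alt, smul_eq_mul]
      push_cast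
      rfl
    have h3 := ch_refl (α := α) href hst hst' hsσ g
    have h4 : (sg σ : ℂ) * (sg σ : ℂ) = 1 := by exact_mod_cast sg_mul_self σ
    have h5 := sgn_mul_self g
    have h6 : ch α γ g = (sg σ : ℂ) * (sgn g * ch α γ' g) := by
      rw [← h3, h2, ← mul_assoc, h4, one_mul]
    rw [h6]
    linear_combination ((sg σ : ℂ) * ch α γ' g) * h5
  have h7 : classInner (ch α β) (fun g => (sg σ : ℂ) * ch α γ' g) =
      (sg σ : ℂ) * classInner (ch α β) (ch α γ') := by
    rw [classInner_def, classInner_def, Finset.mul_sum, Finset.mul_sum, Finset.mul_sum]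
    refine Finset.sum_congr rfl fun g _ => ?_
    rw [map_mul, map_intCast]
    ring
  have hrange : Set.range (γ ∘ σ) = Set.range γ := by
    rw [Set.range_comp]
    simp
  rw [h1, h7, classInner_ch hβ, pair_eq_zero_of_range (hne' _ _ hrange href), Int.cast_zero, mul_zero]

omit [Finite T] in
/-- the members are characters up to sign -/
theorem exists_char {f : T →* Equiv.Perm α} {n : ℕ} {β : Fin n → ℕ} (hinj : Function.Injective β)
    (hβ : ∑ i, β i = Fintype.card α + ∑ i : Fin n, (i : ℕ)) :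
    ∃ β' : Fin n → ℕ, Set.range β' = Set.range β ∧ Function.Injective β' ∧
      ∑ i, β' i = Fintype.card α + ∑ i : Fin n, (i : ℕ) ∧ IsCharacter T (fun t => ch α β' (f t)) ∧
      ∃ ε : ℤ, (fun t => ch α β (f t)) = ε • (fun t => ch α β' (f t)) := by
  classical
  set σ := Tuple.sort β with hσ
  have hst : StrictMono (β ∘ σ) := (Tuple.monotone_sort β).strictMono_of_injective (hinj.comp σ.injective)
  have hsσ : ∑ i, (β ∘ σ) i = Fintype.card α + ∑ i : Fin n, (i : ℕ) := by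
    rw [← hβ]
    exact Equiv.sum_comp σ β
  refine ⟨β ∘ σ, by rw [Set.range_comp]; simp, hst.injective, hsσ, isCharacter_comp f (isIrr_isCharacter (isIrr_ch hst hsσ)),
    sg σ, ?_⟩
  funext t
  rw [Pi.smul_apply, zsmul_eq_mul, ch_apply, ch_apply, FM_alt, smul_eq_mul]
  have h4 : (sg σ : ℂ) * (sg σ : ℂ) = 1 := by exact_mod_cast sg_mul_self σ
  push_cast
  rw [← mul_assoc, h4, one_mul]

/-- **The alternating groups**: at least `p - 1` orbits. -/
theorem le_kap0_alt (hM : IsPModular p M) (hp2 : p ≠ 2) {m : ℕ} (h7 : 7 ≤ m) (hm : 2 * p ≤ m) {A : Type u} [Group A]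
    [Finite A] (T : Subgroup A) [T.Normal] (e : T ≃* alternatingGroup (Fin m)) :
    p - 1 ≤ H668.XZ.kap0 p M T := by
  classical
  have hpos := hp.out.pos
  have hnt : Nontrivial (Fin m) := Fin.nontrivial_iff_two_le.2 (by omega)
  obtain ⟨s, w, hs, hmw, hw⟩ : ∃ s w, s < p ∧ m = s + w * p ∧ 2 ≤ w := by
    refine ⟨m % p, m / p, Nat.mod_lt _ hpos, ?_, (Nat.le_div_iff_mul_le hpos).2 hm⟩
    have := Nat.div_add_mod m p
    rw [mul_comm] at this
    omega
  have hN : 2 * p ≤ w * p := Nat.mul_le_mul_right p hw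
  let f : T →* Equiv.Perm (Fin m) := (alternatingGroup (Fin m)).subtype.comp e.toMonoidHom
  have hf : Function.Injective f := (Subgroup.subtype_injective _).comp e.injective
  have hr : f.range = alternatingGroup (Fin m) := by
    rw [MonoidHom.range_comp, MonoidHom.range_eq_top.2 e.surjective, ← MonoidHom.range_eq_map, Subgroup.range_subtype]
  have hα : Fintype.card (Fin m) = m := Fintype.card_fin m
  let ι := {k : Fin p // s + k ≠ p}
  have hkn : ∀ k : ι, (k.1 : ℕ) < m := fun k => by have := k.1.2; omega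
  let ψ : ι → T → ℂ := fun k t => ch (Fin m) (bt m s (w * p) k.1 (hkn k)) (f t)
  have hsum : ∀ k : ι, ∑ i, bt m s (w * p) k.1 (hkn k) i = Fintype.card (Fin m) + ∑ i : Fin m, (i : ℕ) := by
    intro k
    rw [sum_bt, hα, ← hmw]
  have hinj : ∀ k : ι, Function.Injective (bt m s (w * p) k.1 (hkn k)) := fun k => bt_injective hmw hs hN k.1.2 (hkn k)
  have h1 : Nat.card ι ≤ H668.XZ.kap0 p M T := by
    refine le_kap0 T (ψ := ψ) (c := fun _ => 1) (fun k => FV_ch hM hp2 hf hr hmw hα hs k.1.2 k.2 (by omega) (hkn k))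
      (fun _ h => ?_) (fun k a t => ?_) fun k l hkl χ => ?_
    · have h2 : (p : ℤ) ≤ 1 := Int.le_of_dvd one_pos h
      have h3 := hp.out.one_lt
      omega
    · have hbij := S2119.result m (by omega) (by omega)
      obtain ⟨g, hg⟩ := hbij.2 ((e.symm.trans (MulAut.conjNormal a : MulAut T)).trans e)
      have h3 : f (MulAut.conjNormal a t) = g * f t * g⁻¹ := by
        have h4 := congrArg (fun x : MulAut (alternatingGroup (Fin m)) => ((x (e t) : alternatingGroup (Fin m)) : Equiv.Perm (Fin m))) hg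
        simp only [MulAut.conjNormal_apply] at h4
        change g * (e t : Equiv.Perm (Fin m)) * g⁻¹ = (e (MulAut.conjNormal a (e.symm (e t))) : Equiv.Perm (Fin m)) at h4
        rw [e.symm_apply_apply] at h4
        exact h4.symm
      change ch _ _ (f (MulAut.conjNormal a t)) = ch _ _ (f t)
      rw [h3]
      exact class_gen (isGeneralizedCharacter_ch (α := Fin m) _) (f t) g
    · obtain ⟨β, hβr, hβi, hβs, hβc, ε, hε⟩ := exists_char (f := f) (hinj k) (hsum k)
      obtain ⟨γ, hγr, hγi, hγs, hγc, δ, hδ⟩ := exists_char (f := f) (hinj l) (hsum l)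
      have hkl' : (k.1 : ℕ) ≠ l.1 := fun h => hkl (Subtype.ext (Fin.ext h))
      have h4 : ip (fun t => ch (Fin m) β (f t)) (fun t => ch (Fin m) γ (f t)) = 0 := by
        refine ip_ch_eq_zero hf hr hα hβs hγi hγs ?_ ?_
        · rw [hβr, hγr]
          exact range_bt_ne (by omega) (hkn k) (hkn l) hkl'
        · intro γ₀ γ' h5 h6
          rw [hβr]
          rw [hγr] at h5
          exact range_bt_ne_refl hmw hs hN k.1.2 l.1.2 (hkn k) (hkn l) h5 h6
      change ip (fun t => ch (Fin m) (bt m s (w * p) k.1 (hkn k)) (f t)) _ = 0 ∨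
        ip (fun t => ch (Fin m) (bt m s (w * p) l.1 (hkn l)) (f t)) _ = 0
      rw [hε, hδ, ip_zsmul, ip_zsmul]
      rcases disj_of_orth hβc hγc h4 χ with h5 | h5
      · left
        rw [h5, mul_zero]
      · right
        rw [h5, mul_zero]
  refine le_trans ?_ h1
  -- the number of the indices
  have h2 : p - 1 ≤ Nat.card ι := by
    have h3 : Nat.card {k : Fin p // ¬ (s + k ≠ p)} ≤ 1 := by
      rw [Finite.card_le_one_iff_subsingleton]
      refine ⟨fun a b => Subtype.ext (Fin.ext ?_)⟩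
      have ha := not_not.1 a.2
      have hb := not_not.1 b.2
      omega
    have h4 := Nat.card_congr (Equiv.sumCompl (fun k : Fin p => s + k ≠ p))
    rw [Nat.card_sum, Nat.card_fin] at h4
    change Nat.card ι + _ = p at h4
    omega
  exact h2

/-- **The row.** -/
theorem row0_alt (hM : IsPModular p M) (h7 : 7 ≤ p) {S : Type u} [Group S] [Finite S] {m : ℕ} (h5 : 5 ≤ m)
    (e : S ≃* alternatingGroup (Fin m)) (hP : ∀ P : Sylow p S, ¬ IsCyclic (P : Subgroup S)) : H668.XZ.Row0 p M S := by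
  have hm := H328.KB.two_mul_le h5 e hP
  have hpS : p ∣ Nat.card S := by
    by_contra h
    obtain ⟨P⟩ : Nonempty (Sylow p S) := inferInstance
    refine hP P ?_
    have h1 : Nat.card P = 1 := by
      obtain ⟨k, hk⟩ := IsPGroup.iff_card.1 P.isPGroup'
      rcases Nat.eq_zero_or_pos k with h0 | h0
      · rw [hk, h0, pow_zero]
      · exact absurd ((dvd_pow_self p h0.ne').trans (hk ▸ Subgroup.card_subgroup_dvd_card (P : Subgroup S))) h
    have : Subsingleton P := (Nat.card_eq_one_iff_unique.1 h1).1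
    infer_instance
  refine H668.XZ.row0_of hM hpS fun A _ _ T _ e' _ hcop => ?_
  have h1 := le_kap0_alt hM (by omega) (by omega) hm T (e'.symm.trans e)
  have h2 := H668.XZ.ker_add_kap_le0 T hM hcop
  have h3 := H668.XZ.one_le_ker0 T hM
  refine ⟨p - 2, by omega, ?_, ?_⟩
  · have h4 : p - 2 + 2 = p := by omega
    rw [h4]
    have h5 : 4 * (p - 1) < 4 * p := by omega
    nlinarith only [h7, h5]
  · obtain ⟨q, hq⟩ : ∃ q, p = q + 1 := ⟨p - 1, by omega⟩
    have h4 : q ≤ H674.XZ.x0 p M A := by omega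
    have h5 : q ^ 2 ≤ H674.XZ.x0 p M A ^ 2 := Nat.pow_le_pow_left h4 2
    have h6 : 4 * (p - 1) < q ^ 2 := by
      have h8 : p - 1 = q := by omega
      have h9 : 6 ≤ q := by omega
      rw [h8]
      nlinarith only [h7, hq]
    omega

end Cfsg.Agent.H963.XZ
end

-- part: H508/XR/FinA
section
/-!
# S4791 + S4927: the rows, part A (alternating groups, `J₄`, Suzuki, Ree, Tits)
-/

set_option autoImplicit false

open Cfsg Subgroup
open Cfsg.Agent.H674.XZ
open Cfsg.Agent.H668.XZ (Row0 Cnt)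

namespace Cfsg.Agent.H508.XR

universe u

variable {p : ℕ} [Fact p.Prime] {M : Ideal AlgInt}

theorem dvd_of_nc {S : Type u} [Group S] [Finite S] (hP : NC p S) : p ∣ Nat.card S := by
  by_contra hd
  obtain ⟨P⟩ : Nonempty (Sylow p S) := inferInstance
  refine hP P ?_
  have h1 : Nat.card (P : Subgroup S) = 1 := by
    rw [P.card_eq_multiplicity, Nat.factorization_eq_zero_of_not_dvd hd, pow_zero]
  have h2 : Subsingleton (P : Subgroup S) := (Nat.card_eq_one_iff_unique.1 h1).1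
  infer_instance

/-- the row of `J₄` -/
theorem row_J4 (h11 : p = 11) (hM : IsPModular p M) (S : Type u) [Group S] [Finite S] [IsSimpleGroup S]
    (e : Spor.IsoJ4 S) (hP : NC p S) : Row0 p M S := by
  have hlt := H608.J4.lt_x0 h11 hM e
  have hpS : p ∣ Nat.card S := dvd_of_nc hP
  obtain ⟨e⟩ := e
  obtain ⟨hfin, hsim, ⟨F⟩⟩ := KFacts.J4.Base.exists_full ⟨e⟩
  have hidx : (MulAut.conj : S →* MulAut S).range.index ≤ 1 := by
    have : (MulAut.conj : S →* MulAut S).range = ⊤ := by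
      rw [eq_top_iff]
      intro α _
      obtain ⟨g, hg⟩ := KFacts.J4.SheetJ4.inner F α
      exact ⟨g, hg.symm⟩
    rw [this, index_top]
  have h7 : 7 ≤ x0 p M S := by
    by_contra h
    have : x0 p M S ≤ 6 := by omega
    have : x0 p M S ^ 2 ≤ 36 := by nlinarith only [h]
    omega
  exact H668.XZ.row0_of_inn hM hpS 1 6 hidx (by omega) (by subst h11; norm_num)

/-- the open rows -/
structure RestZ (p : ℕ) (M : Ideal AlgInt) : Prop where
  cyc : ∀ (A : Type u) [Group A] [Finite A] (S : Subgroup A) [S.Normal], centralizer (S : Set A) = ⊥ → ¬ p ∣ S.index →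
    IsSimpleGroup S → ¬ IsMulCommutative S → p ∣ Nat.card S → ∀ P : Sylow p S, IsCyclic (P : Subgroup S) →
    ∀ t n : ℕ, 2 ≤ t → Cnt p M S t n → 4 * (p - 1) < n ^ 2
  mon : ∀ (S : Type u) [Group S] [Finite S] [IsSimpleGroup S], Spor.IsoM S → (p = 11 ∨ p = 13) → NC p S → Row0 p M S
  own : ∀ (S : Type u) [Group S] [Finite S] [IsSimpleGroup S], IsLieTypeChar p S → NC p S → Row0 p M S
  psl : ∀ (r : ℕ) [Fact r.Prime], r ≠ p → ∀ (S : Type u) [Group S] [Finite S] [IsSimpleGroup S], IsPSLChar r S → NC p S →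
    Row0 p M S
  psp : ∀ (r : ℕ) [Fact r.Prime], r ≠ p → ∀ (S : Type u) [Group S] [Finite S] [IsSimpleGroup S], IsPSpChar r S → NC p S →
    Row0 p M S
  psu : ∀ (r : ℕ) [Fact r.Prime], r ≠ p → ∀ (S : Type u) [Group S] [Finite S] [IsSimpleGroup S], IsPSUChar r S → NC p S →
    Row0 p M S
  oOdd : ∀ (r : ℕ) [Fact r.Prime], r ≠ p → ∀ (S : Type u) [Group S] [Finite S] [IsSimpleGroup S], IsPOmegaOddChar r S →
    NC p S → Row0 p M S
  oPlus : ∀ (r : ℕ) [Fact r.Prime], r ≠ p → ∀ (S : Type u) [Group S] [Finite S] [IsSimpleGroup S] (F : Type) [Field F]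
    [Fintype F] [CharP F r] (m : ℕ), 5 ≤ m → Nonempty (S ≃* POmega F (quadFormPlus m F)) → NC p S → Row0 p M S
  oPlus4 : ∀ (r : ℕ) [Fact r.Prime], r ≠ p → ∀ (S : Type u) [Group S] [Finite S] [IsSimpleGroup S] (F : Type) [Field F]
    [Fintype F] [CharP F r], Nonempty (S ≃* POmega F (quadFormPlus 4 F)) → NC p S → Row0 p M S
  oMinus : ∀ (r : ℕ) [Fact r.Prime], r ≠ p → ∀ (S : Type u) [Group S] [Finite S] [IsSimpleGroup S], IsPOmegaMinusChar r S →
    NC p S → Row0 p M S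
  g2 : ∀ (r : ℕ) [Fact r.Prime], r ≠ p → ∀ (S : Type u) [Group S] [Finite S] [IsSimpleGroup S] (F : Type) [Field F]
    [Fintype F] [CharP F r], 3 ≤ Fintype.card F → Nonempty (S ≃* Lie.chevG2.group F) → NC p S → Row0 p M S
  f4 : ∀ (r : ℕ) [Fact r.Prime], r ≠ p → ∀ (S : Type u) [Group S] [Finite S] [IsSimpleGroup S] (F : Type) [Field F]
    [Fintype F] [CharP F r], Nonempty (S ≃* Lie.chevF4.group F) → NC p S → Row0 p M S
  e6 : ∀ (r : ℕ) [Fact r.Prime], r ≠ p → ∀ (S : Type u) [Group S] [Finite S] [IsSimpleGroup S] (F : Type) [Field F]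
    [Fintype F] [CharP F r], Nonempty (S ≃* Lie.chevE6.group F) → NC p S → Row0 p M S
  e7 : ∀ (r : ℕ) [Fact r.Prime], r ≠ p → ∀ (S : Type u) [Group S] [Finite S] [IsSimpleGroup S] (F : Type) [Field F]
    [Fintype F] [CharP F r], Nonempty (S ≃* Lie.chevE7.group F) → NC p S → Row0 p M S
  e8 : ∀ (r : ℕ) [Fact r.Prime], r ≠ p → ∀ (S : Type u) [Group S] [Finite S] [IsSimpleGroup S] (F : Type) [Field F]
    [Fintype F] [CharP F r], Nonempty (S ≃* Lie.chevE8.group F) → NC p S → Row0 p M S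
  te6 : ∀ (r : ℕ) [Fact r.Prime], r ≠ p → ∀ (S : Type u) [Group S] [Finite S] [IsSimpleGroup S] (F : Type) [Field F]
    [Fintype F] [CharP F r] (q : ℕ), IsPrimePow q → Fintype.card F = q ^ 2 → Nonempty (S ≃* Lie.twistedE6 F q) → NC p S →
    Row0 p M S
  td4 : ∀ (r : ℕ) [Fact r.Prime], r ≠ p → ∀ (S : Type u) [Group S] [Finite S] [IsSimpleGroup S] (F : Type) [Field F]
    [Fintype F] [CharP F r] (q : ℕ), IsPrimePow q → Fintype.card F = q ^ 3 → Nonempty (S ≃* Lie.twistedD4 F q) → NC p S →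
    Row0 p M S
  tf4 : ∀ (S : Type u) [Group S] [Finite S] [IsSimpleGroup S], Lie.Iso2F4 S → NC p S → Row0 p M S

/-- all rows from the open ones -/
theorem rows_of (h11 : 11 ≤ p) (hM : IsPModular p M) (R : RestZ.{u} p M) : RowsZ.{u} p M where
  cyc := R.cyc
  alt S _ _ _ m h5 e hP := H963.XZ.row0_alt hM (by omega) h5 e.some hP
  spor S _ _ _ h hP := by
    rcases H248.KBW.spor_cases S h11 h hP with ⟨h0, h1⟩ | ⟨h1, h2⟩
    · exact row_J4 h0 hM S h1 hP
    · exact R.mon S h2 h1 hP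
  tits S _ _ _ h hP := (H560.KBCyc.cyc_tits h11 h hP).elim
  own := R.own
  psl := R.psl
  psp := R.psp
  psu := R.psu
  oOdd := R.oOdd
  oPlus := R.oPlus
  oPlus4 := R.oPlus4
  oMinus := R.oMinus
  g2 := R.g2
  f4 := R.f4
  e6 := R.e6
  e7 := R.e7
  e8 := R.e8
  te6 := R.te6
  td4 := R.td4
  sz S _ _ _ h hP := (H560.KBCyc.cyc_sz h11 h hP).elim
  ree S _ _ _ h hP := (H560.KBCyc.cyc_ree h11 h hP).elim
  tf4 := R.tf4

end Cfsg.Agent.H508.XR
end

private theorem dce_f374ce396ff9 : _root_.True := by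
  try have : _root_.True := by simp only [_root_.Cfsg.Agent.H703.Lat.B0.congr_simp]
  try have : _root_.True := by simp only [_root_.Cfsg.Agent.H668.XZ.kap0.congr_simp]
  exact _root_.True.intro
end

-- part: H703/XZ/AsmE8_mg
section
prune_inst 0x260107004140012000000001240005e02b2000400000880008060030207800c200902a020090000094008000400350040021000a00040000000000000011c018008000000d1890000820098000000410000000000000000000000000000000000004010000
set_option linter.all false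
open scoped Cfsg.Agent.FastGrp

-- part: H703/XZ/Mul
section
/-!
# S4791 + S4927: a criterion with `R` extendible members (helper703)

* `row_of_mul` : `2 ≤ R`, `ExtY p M S R`, `p - 1 < R * (x₀ - R)` give the row;
* `row_of_add` : the same with a lower bound for `x₀`.
-/

set_option autoImplicit false

namespace Cfsg.Agent.H703.XZ

open Cfsg Subgroup Cfsg.Agent.H508.KB Cfsg.Agent.H674.XZ Cfsg.Agent.H668.XZ
open Cfsg.Agent.H508.XR (ExtY)

universe u

variable {p : ℕ} [hp : Fact p.Prime] {M : Ideal AlgInt} {S : Type u} [Group S] [Finite S]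

/-- **The criterion**: `R ≥ 2` extendible members of `X₀(S)` and `p - 1 < R (x₀(S) - R)`. -/
theorem row_of_mul (hM : IsPModular p M) (hab : AbOut p S) {R : ℕ} (hR : 2 ≤ R) (hext : ExtY p M S R)
    (hk : p - 1 < R * (x0 p M S - R)) : Row0 p M S := by
  refine H364.XR.row0_of_num hM hab (by omega) hext le_rfl (fun f u hf hx => ?_) fun f u C hf hx hC => ?_
  · have h1 : R * (x0 p M S - R) ≤ R * (f * u) := Nat.mul_le_mul_left _ (by omega)
    have h2 := H364.XR.four_mul_le_sq_add (f * R) u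
    have h3 : f * R * u = R * (f * u) := by ring
    rw [h3] at h2
    omega
  · obtain ⟨r, rfl⟩ : ∃ r, R = r + 2 := ⟨R - 2, by omega⟩
    have h1 : (r + 2) * (x0 p M S - (r + 2)) ≤ (r + 2) * (f * u) := Nat.mul_le_mul_left _ (by omega)
    obtain ⟨D, hD⟩ : ∃ D, f * (r + 2 - 1) + C + 1 - (r + 2) = D := ⟨_, rfl⟩
    rw [hD]
    have e1 : (u + (r + 2)) * (u + (r + 2) + 1) = u * u + 2 * u * r + 5 * u + r * r + 5 * r + 6 := by ring
    rw [e1] at hC
    have e2 : f * (r + 2 - 1) = f * r + f := by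
      rw [show r + 2 - 1 = r + 1 by omega]
      ring
    rw [e2] at hD
    have h2 : 2 * (f * r + f) + (u * u + 2 * u * r + 5 * u) ≤ 2 * D := by
      have := Nat.zero_le (r * r)
      (clear * - hC hD; omega)
    have h3 := Nat.pow_le_pow_left h2 2
    have h4 := H364.XR.four_mul_le_sq_add (2 * (f * r + f)) (u * u + 2 * u * r + 5 * u)
    have h5 : 4 * ((r + 2) * (f * u)) ≤ 2 * (f * r + f) * (u * u + 2 * u * r + 5 * u) :=
      Nat.le.intro (k := 2 * f * r * u * u + 4 * f * r * r * u + 2 * f * u * u + 10 * f * r * u + 2 * f * u) (by ring)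
    have h6 : (2 * D) ^ 2 = 4 * D ^ 2 := by ring
    rw [h6] at h3
    omega

/-- two sorts of members: `N` and `n` -/
theorem row_of_add (hM : IsPModular p M) (hab : AbOut p S) {R x : ℕ} (hR : 2 ≤ R) (hext : ExtY p M S R)
    (hx : x ≤ x0 p M S) (hk : p - 1 < R * (x - R)) : Row0 p M S :=
  row_of_mul hM hab hR hext (lt_of_lt_of_le hk (Nat.mul_le_mul_left _ (by omega)))

end Cfsg.Agent.H703.XZ
end

-- part: H230/XZ/ExtC
section
/-!
# Extension of the constituents of a permutation character  (helper230; S4791, S4927)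

`H` a subgroup of `S` with `Stable H` (for example a Borel subgroup). Every irreducible constituent of `1_H^S` extends to
every overgroup `A` in which `S` is normal.

* `exists_ext_irr` : the extension of one constituent;
* `extY_of_constituents` : `ExtY p M S R` from `R` different members of `X₀(S)` which are constituents of `1_H^S` and the
  commutativity of `Out(S)`;
* `extY_E8_of` : the same for `E₈(q)`.
-/

set_option autoImplicit false
set_option linter.unusedSectionVars false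

namespace Cfsg.Agent.H230.XZ

open Cfsg Subgroup Cfsg.Lie
open Cfsg.Agent.Characters.Core Cfsg.Agent.H674.XZ Cfsg.Agent.H508.XR Cfsg.Agent.H626.ExtB.Perm
open Cfsg.Agent.H145.BR (permC cnt)
open scoped ComplexConjugate

universe u

section ext

variable {S : Type u} [Group S] [Finite S]

/-- the normalizer in `A` of the image of a stable subgroup -/
theorem exists_Y {H : Subgroup S} (hst : Stable H) {A : Type u} [Group A] [Finite A] {f : S →* A}
    (hf : Function.Injective f) (hn : f.range.Normal) :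
    ∃ Y : Subgroup A, Y.comap f = H ∧ f.range ⊔ Y = ⊤ ∧
      ∀ s : S, ∀ y ∈ Y, ∃ x₁ ∈ H, ∃ x₂ ∈ H, ∃ s' : S, f s' = y * f s * y⁻¹ ∧ s' = x₁ * s * x₂ := by
  have hself : normalizer (H : Set S) = H := by
    refine le_antisymm (fun s hs => hst.self s fun x hx => ?_) le_normalizer
    exact (Subgroup.mem_normalizer_iff.1 hs x).1 hx
  have hcom := H605.XZ.comap_normalizer hf hself
  refine ⟨normalizer ((H.map f : Subgroup A) : Set A), hcom, ?_, ?_⟩
  · rw [eq_top_iff]
    intro a _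
    obtain ⟨α, hα⟩ := _root_.Cfsg.Agent.H626.ExtB.Perm.exists_aut f hf hn a
    obtain ⟨s, hs⟩ := hst.cls α
    have h1 : f s * a ∈ normalizer ((H.map f : Subgroup A) : Set A) := by
      refine mem_normalizer_fintype fun n hn => ?_
      obtain ⟨x, hx, rfl⟩ := hn
      refine ⟨s * α x * s⁻¹, hs x hx, ?_⟩
      rw [map_mul, map_mul, hα, map_inv]
      group
    have h2 : a = (f s)⁻¹ * (f s * a) := by group
    rw [h2]
    exact mul_mem (inv_mem (mem_sup_left ⟨s, rfl⟩)) (mem_sup_right h1)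
  · intro s y hy
    obtain ⟨α, hα⟩ := _root_.Cfsg.Agent.H626.ExtB.Perm.exists_aut f hf hn y
    have h1 : ∀ x ∈ H, α x ∈ H := by
      intro x hx
      have h2 : y * f x * y⁻¹ ∈ H.map f := (Subgroup.mem_normalizer_iff.1 hy _).1 ⟨x, hx, rfl⟩
      rw [← hα] at h2
      obtain ⟨t, ht, he⟩ := h2
      rwa [← hf he]
    obtain ⟨h, hh, h', hh', he⟩ := hst.double α h1 s
    exact ⟨h, hh, h', hh', α s, hα s, he⟩

/-- **Every constituent of the permutation character of a stable subgroup extends.** -/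
theorem exists_ext_irr {H : Subgroup S} (hst : Stable H) {A : Type u} [Group A] [Finite A] {f : S →* A}
    (hf : Function.Injective f) (hn : f.range.Normal) [Fintype S] (θ : IrrCharacter S)
    (hθ : classInner (fixedPointCharacter H) (θ : S → ℂ) ≠ 0) :
    ∃ ψ : IrrCharacter A, ∀ s : S, (ψ : A → ℂ) (f s) = (θ : S → ℂ) s := by
  classical
  obtain ⟨Y, hYX, hsup, hdc⟩ := exists_Y hst hf hn
  have hA : Fintype A := Fintype.ofFinite A
  have hpair : SamePairs f.range Y := H605.XZ.samePairs_of hn hsup hYX hdc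
  have hfin : Finite (IrrCharacter A) := finite_irr
  have hft : Fintype (IrrCharacter A) := Fintype.ofFinite _
  obtain ⟨m, hm⟩ := exists_nat_comb (isCharacter_fix Y)
  have hdec : fixedPointCharacter H = ∑ χ : IrrCharacter A, (m χ : ℂ) • fun s : S => (χ : A → ℂ) (f s) := by
    funext s
    have h1 : fixedPointCharacter H s = fixedPointCharacter Y (f s) := (H605.XZ.permC_comap hn hsup hYX s).symm
    rw [h1, hm, Finset.sum_apply, Finset.sum_apply]
    refine Finset.sum_congr rfl fun χ _ => ?_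
    rw [Pi.smul_apply, Pi.smul_apply, nsmul_eq_mul, smul_eq_mul]
  rw [hdec, classInner_sum_left] at hθ
  obtain ⟨ψ, -, hψ⟩ := Finset.exists_ne_zero_of_sum_ne_zero hθ
  rw [classInner_smul_left] at hψ
  have hmψ : (m ψ : ℂ) ≠ 0 := left_ne_zero_of_mul hψ
  have h2 : IsIrrCharacter f.range (fun s : f.range => (ψ : A → ℂ) (s : A)) := by
    refine irr_restrict f.range Y hpair ψ ?_
    rw [hm, classInner_sum_nsmul_irr]
    exact hmψ
  have h3 : IsIrrCharacter S (fun s : S => (ψ : A → ℂ) (f s)) := isIrr_comp f.rangeRestrict f.rangeRestrict_surjective h2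
  refine ⟨ψ, fun s => ?_⟩
  by_contra hne
  apply right_ne_zero_of_mul hψ
  exact classInner_irr_ne h3 θ.2 fun h => hne (congrFun h s)

/-- **`ExtY` from the constituents of the permutation character of a stable subgroup.** -/
theorem extY_of_constituents {p : ℕ} [hpp : Fact p.Prime] {M : Ideal AlgInt} (hM : IsPModular p M)
    (hout : H804.KB.CommOut S) {H : Subgroup S} (hst : Stable H) [Fintype S] {R : ℕ} (θ : Fin R → IrrCharacter S)
    (hinj : Function.Injective θ) (h0 : ∀ i, Mem0 p M (θ i))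
    (hθ : ∀ i, classInner (fixedPointCharacter H) (θ i : S → ℂ) ≠ 0) : ExtY p M S R := by
  refine H605.XZ.extY_of_comm hM hout ?_
  intro A _ _ f hf hn _ _
  choose ψ hψ using fun i => exists_ext_irr hst hf hn (θ i) (hθ i)
  exact ⟨ψ, θ, hinj, fun i => ⟨h0 i, hψ i⟩⟩

end ext

section chev

open Cfsg.Agent.H626.ExtB.Chev

/-- **`E₈(q)`: the members of `X₀(S)` in the principal series extend.** -/
theorem extY_E8_of {p : ℕ} [hpp : Fact p.Prime] {M : Ideal AlgInt} (hM : IsPModular p M) {F : Type} [Field F]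
    [Fintype F] {r : ℕ} [Fact r.Prime] [CharP F r] {S : Type u} [Group S] [Finite S] [Fintype S]
    (e : S ≃* chevE8.group F) {R : ℕ} (θ : Fin R → IrrCharacter S) (hinj : Function.Injective θ)
    (h0 : ∀ i, Mem0 p M (θ i))
    (hθ : ∀ i, classInner (fixedPointCharacter
      ((Cfsg.Agent.Schreier.ChevLocal.BB chevE8 F).comap e.toMonoidHom)) (θ i : S → ℂ) ≠ 0) : ExtY p M S R := by
  have hout : H804.KB.CommOut S := (H804.KB.commOut_of_cycOut H523.Chev.cycOut_E8).of_equiv e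
  exact extY_of_constituents hM hout (stable_comap e (stable_BB F (by simp) r 3 walk_e8)) θ hinj h0 hθ

end chev

end Cfsg.Agent.H230.XZ
end

-- part: H92/NE/E8Def
section
/-!
# E8, `q` of order 3 or 6 modulo `p`: the power sums (S4791 + S4927, helper92)

`S6 m x s = ∑_r (a_r(x) + s b_r(x)) ^ m` over the 240 roots, `a_r(x) = (2 x - w x, r)`, `b_r(x) = (2 w x - x, r)`, `w = w6`,
`w ^ 2 = w - 1`.
-/

set_option autoImplicit false
set_option linter.unusedSectionVars false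

namespace Cfsg.Agent.H92.NE.E8

open Cfsg Cfsg.Lie Cfsg.Lie.ChevalleyDatum
open Cfsg.Agent.Nodes.RGDChev Cfsg.Agent.H129.WData Cfsg.Agent.H994.KE.E8

/-- the form -/
def bq (x y : Fin 8 → ℤ) : ℤ := ∑ i, ∑ j, x i * Am i j * y j

/-- a matrix on the lattice -/
def ap (W : Mat 8) (x : Fin 8 → ℤ) : Fin 8 → ℤ := fun m => ∑ j, x j * W j m

def a6 (x : Fin 8 → ℤ) (r : Fin chevE8.nroots) : ℤ := bq (fun m => 2 * x m - ap W6 x m) (vec chevE8 8 r)

def b6 (x : Fin 8 → ℤ) (r : Fin chevE8.nroots) : ℤ := bq (fun m => 2 * ap W6 x m - x m) (vec chevE8 8 r)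

/-- the power sum -/
def S6 {R : Type*} [CommRing R] (m : ℕ) (x : Fin 8 → ℤ) (s : R) : R :=
  ∑ r : Fin chevE8.nroots, ((a6 x r : R) + s * (b6 x r : R)) ^ m

/-- the three points -/
def X0 : Fin 8 → ℤ := ![1, 0, 0, 0, 0, 0, 0, 0]
end Cfsg.Agent.H92.NE.E8
end

-- part: H92/NE/E8A
section
/-!
# E8, `q` of order 3 or 6 modulo `p`: the invariant forms (S4791 + S4927, helper92)

`forms6` : an abelian Sylow `p`-subgroup `P` and points `L x : LL p P`, an invariant form of every degree `m` with the value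
`S6 m x s` at `L x`, `s ^ 2 = s - 1`.
-/

set_option autoImplicit false
set_option linter.unusedSectionVars false
set_option maxRecDepth 10000

namespace Cfsg.Agent.H92.NE.E8

open CoxeterSystem Cfsg Cfsg.Lie Cfsg.Lie.ChevalleyDatum
open Cfsg.Agent.ChevalleyStructure Cfsg.Agent.ChevalleyStructure.Elts Cfsg.Agent.ChevalleyStructure.CoxeterGeom
  Cfsg.Agent.ChevalleyStructure.CoxeterGeomTypes Cfsg.Agent.ChevalleyStructure.NPerm
open Cfsg.Agent.Tits.Roots Cfsg.Agent.Tits.Core Cfsg.Agent.Nodes Cfsg.Agent.Nodes.Reps Cfsg.Agent.Nodes.BNOf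
  Cfsg.Agent.Nodes.RGDChev Cfsg.Agent.Nodes.Bruhat
open Cfsg.Agent.BpExc.Fr Cfsg.Agent.BpExc.LangFr Cfsg.Agent.BpExc
open Cfsg.Agent.H129.TorusChar Cfsg.Agent.H129.WData Cfsg.Agent.H210.EL
open Cfsg.Agent.H603.AP Cfsg.Agent.H92.NE Cfsg.Agent.H994.KE Cfsg.Agent.H994.KE.E8

universe u v

/-! ### the values of the projection -/

section pj

variable {l p : ℕ} {T : (Fin l → ℤ) → (Fin l → ℤ)}

theorem it2 (hT : ∀ x, T (T x) = T x - x) (x : Fin l → ℤ) : T^[2] x = T x - x := hT x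

theorem it3 (hT : ∀ x, T (T x) = T x - x) (x : Fin l → ℤ) : T^[3] x = -x := by
  have h1 : T^[3] x = T (T (T x)) := rfl
  rw [h1, hT (T x), hT]
  abel

theorem it6 (hT : ∀ x, T (T x) = T x - x) (x : Fin l → ℤ) : T^[6] x = x := by
  have h : T^[6] x = T^[3] (T^[3] x) := by rw [← Function.iterate_add_apply]
  rw [h, it3 hT, it3 hT, neg_neg]

theorem it3' (hT : ∀ x, T (T x) = T x - x) (x : Fin l → ℤ) : (fun x => T (T x))^[3] x = x := by
  have h : (fun x => T (T x))^[3] x = T^[6] x := rfl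
  rw [h, it6 hT]

theorem pj6 (hT : ∀ x, T (T x) = T x - x) {s : ZMod p} (hs : s ^ 2 = s - 1) (ψ : (Fin l → ℤ) →+ ℤ) (x : Fin l → ℤ) :
    pj p 6 s T ψ x = 2 * ((ψ (2 • x - T x) : ZMod p) + s * (ψ (2 • T x - x) : ZMod p)) := by
  have h2 := it2 hT x
  have h3 := it3 hT x
  have h4 : T^[4] x = -T x := by
    have h : T^[4] x = T^[3] (T x) := rfl
    rw [h, it3 hT]
  have h5 : T^[5] x = x - T x := by
    have h : T^[5] x = T^[3] (T^[2] x) := rfl
    rw [h, it3 hT, h2]
    abel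
  unfold pj
  simp only [Finset.sum_range_succ, Finset.sum_range_zero]
  rw [h2, h3, h4, h5]
  have e0 : T^[0] x = x := rfl
  have e1 : T^[1] x = T x := rfl
  rw [e0, e1]
  simp only [map_sub, map_neg, map_nsmul]
  push_cast
  simp only [nsmul_eq_mul]
  push_cast
  linear_combination ((ψ x : ZMod p) * (s ^ 3 + s ^ 2 - s - 3) + (ψ (T x) : ZMod p) * (-s ^ 3 - 2 * s ^ 2 - s + 2)) * hs

theorem pj3 (hT : ∀ x, T (T x) = T x - x) {s t : ZMod p} (hs : s ^ 2 = s - 1) (ht : t = s ^ 2) (ψ : (Fin l → ℤ) →+ ℤ)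
    (x : Fin l → ℤ) :
    pj p 3 t (fun x => T (T x)) ψ x = (ψ (2 • x - T x) : ZMod p) + s * (ψ (2 • T x - x) : ZMod p) := by
  have h4 : T (T (T (T x))) = -T x := by
    have h := it3 hT (T x)
    exact h
  unfold pj
  simp only [Finset.sum_range_succ, Finset.sum_range_zero]
  have e0 : (fun x => T (T x))^[0] x = x := rfl
  have e1 : (fun x => T (T x))^[1] x = T x - x := hT x
  have e2 : (fun x => T (T x))^[2] x = -T x := h4
  rw [e0, e1, e2, ht]
  simp only [map_sub, map_neg, map_nsmul]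
  push_cast
  simp only [nsmul_eq_mul]
  push_cast
  linear_combination (-(ψ x : ZMod p) + (ψ (T x) : ZMod p) * (-s ^ 2 - s + 1)) * hs

end pj

/-! ### the Weyl group element -/

theorem typeE8 : IsType chevE8 8 CoxeterMatrix.E₈ := by simp [IsType, typeList]

theorem not_dvd_W {p : ℕ} (hp : p.Prime) (h11 : 11 ≤ p) : ¬ p ∣ Nat.card CoxeterMatrix.E₈.Group := by
  have h1 : Nat.card CoxeterMatrix.E₈.Group = 696729600 :=
    Cfsg.Agent.S1093.result (⟨8, CoxeterMatrix.E₈⟩, 696729600) (by simp)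
  rw [h1, show 696729600 = 2 ^ 14 * 3 ^ 5 * 5 ^ 2 * 7 by norm_num]
  intro h
  rcases (Nat.Prime.dvd_mul hp).1 h with h | h
  · rcases (Nat.Prime.dvd_mul hp).1 h with h | h
    · rcases (Nat.Prime.dvd_mul hp).1 h with h | h
      · have := Nat.le_of_dvd (by norm_num) (hp.dvd_of_dvd_pow h)
        omega
      · have := Nat.le_of_dvd (by norm_num) (hp.dvd_of_dvd_pow h)
        omega
    · have := Nat.le_of_dvd (by norm_num) (hp.dvd_of_dvd_pow h)
      omega
  · have := Nat.le_of_dvd (by norm_num) h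
    omega

/-- the action of `w6` -/
noncomputable abbrev rp (x : Fin 8 → ℤ) : Fin 8 → ℤ :=
  rep CoxeterMatrix.E₈.toCoxeterSystem typeE8.isCartan (wd CoxeterMatrix.E₈ cw6) x

theorem rp_sr (j : Fin 8) : rp (sr j) = W6 j := chain_rep typeE8 CoxeterMatrix.E₈.toCoxeterSystem hA cw6_ok j

theorem rp_eq (x : Fin 8 → ℤ) : rp x = ap W6 x := by
  funext m
  have h1 := IsMC.eq_sum_sr x
  conv_lhs => rw [h1]
  rw [rp, map_sum, Finset.sum_apply]
  refine Finset.sum_congr rfl fun j _ => ?_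
  rw [map_zsmul, Pi.smul_apply, smul_eq_mul]
  have h2 := rp_sr j
  rw [rp] at h2
  rw [h2]

theorem W6_sq : ∀ j m, ∑ n, W6 j n * W6 n m = W6 j m - if j = m then 1 else 0 := by decide +kernel

theorem rp_sq (x : Fin 8 → ℤ) : rp (rp x) = rp x - x := by
  rw [rp_eq, rp_eq]
  funext m
  rw [Pi.sub_apply]
  unfold ap
  have h1 : ∀ n, (∑ j, x j * W6 j n) * W6 n m = ∑ j, x j * (W6 j n * W6 n m) := by
    intro n
    rw [Finset.sum_mul]
    exact Finset.sum_congr rfl fun j _ => by ring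
  rw [Finset.sum_congr rfl fun n _ => h1 n, Finset.sum_comm]
  have h2 : ∀ j, ∑ n, x j * (W6 j n * W6 n m) = x j * W6 j m - x j * (if j = m then 1 else 0) := by
    intro j
    rw [← Finset.mul_sum, W6_sq, mul_sub]
  rw [Finset.sum_congr rfl fun j _ => h2 j, Finset.sum_sub_distrib]
  congr 1
  simp

theorem formOK : FormOK chevE8 8 Am := by decide +kernel

theorem Am_diag : ∀ i, Am i i = 2 := by decide +kernel

/-- the product of a root and its image -/
theorem bl_rp {a : Fin 8 → ℤ} (ha : IsRoot CoxeterMatrix.E₈.toCoxeterSystem typeE8.isCartan a) :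
    bl Am a (rp a) = 1 := by
  have h1 : bl Am a a = 2 := bl_root typeE8 formOK Am_diag ha
  have h2 : bl Am (rp a) (rp a) = 2 := by rw [rp, bl_rep typeE8 formOK, h1]
  have h3 : bl Am (rp (rp a)) (rp (rp a)) = 2 := by rw [rp, bl_rep typeE8 formOK]; exact h2
  rw [rp_sq, map_sub, bl_sub_left formOK.1, bl_sub_left formOK.1, h2, h1, bl_comm formOK.1 a (rp a)] at h3
  omega

theorem two_smul_sub (x y : Fin 8 → ℤ) : (2 • x - y : Fin 8 → ℤ) = fun m => 2 * x m - y m := by
  funext m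
  rw [Pi.sub_apply, Pi.smul_apply, nsmul_eq_mul]
  rfl

/-- the values of the family of the roots -/
theorem fam_val {p : ℕ} (s : ZMod p) (x : Fin 8 → ℤ) (r : Fin chevE8.nroots) :
    (bl Am (vec chevE8 8 r) (2 • x - rp x) : ZMod p) + s * (bl Am (vec chevE8 8 r) (2 • rp x - x) : ZMod p) =
      (a6 x r : ZMod p) + s * (b6 x r : ZMod p) := by
  rw [rp_eq, two_smul_sub, two_smul_sub]
  rfl

/-- a form with the value `c ^ m S6` gives one with the value `S6` -/
theorem scale {p : ℕ} [Fact p.Prime] {G : Type v} [Group G] {P : Sylow p G} {L : (Fin 8 → ℤ) → LL p P} {s c : ZMod p}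
    (hc : c ≠ 0) {m : ℕ}
    (h : ∃ f ∈ Pol p P m, WInv P f ∧ ∀ x, f (L x) = ∑ r : Fin chevE8.nroots, (c * ((a6 x r : ZMod p) + s * (b6 x r : ZMod p))) ^ m) :
    ∃ f ∈ Pol p P m, WInv P f ∧ ∀ x, f (L x) = S6 m x s := by
  obtain ⟨f, hf, hW, hx⟩ := h
  refine ⟨(c ^ m)⁻¹ • f, Submodule.smul_mem _ _ hf, WInv.smul' hW _, fun x => ?_⟩
  rw [Pi.smul_apply, hx, smul_eq_mul]
  unfold S6
  rw [Finset.mul_sum]
  refine Finset.sum_congr rfl fun r _ => ?_
  rw [mul_pow, ← mul_assoc, inv_mul_cancel₀ (pow_ne_zero _ hc), one_mul]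

/-- **The forms, `q` of order 3 or 6.** -/
theorem forms6 {F : Type u} [Field F] [Fintype F] {S : Type v} [Group S] [Finite S] (i : S ≃* ↥(chevE8.group F))
    {p : ℕ} [hpp : Fact p.Prime] (h11 : 11 ≤ p) (hpF : (p : F) ≠ 0)
    (hord : orderOf (Fintype.card F : ZMod p) = 3 ∨ orderOf (Fintype.card F : ZMod p) = 6) :
    ∃ (P : Sylow p S) (L : (Fin 8 → ℤ) → LL p P) (s : ZMod p), s ^ 2 = s - 1 ∧ (∀ x ∈ P, ∀ y ∈ P, x * y = y * x) ∧
      p ∣ Nat.card S ∧ ∀ m, ∃ f ∈ Pol p P m, WInv P f ∧ ∀ x, f (L x) = S6 m x s := by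
  have hW := not_dvd_W hpp.out h11
  have h2p := natCast_ne (p := p) (n := 2) (by norm_num) (by omega)
  have h3p := natCast_ne (p := p) (n := 3) (by norm_num) (by omega)
  have h6p := natCast_ne (p := p) (n := 6) (by norm_num) (by omega)
  push_cast at h2p h3p h6p
  have hfam : ∀ v : CoxeterMatrix.E₈.Group, ∃ τ : Equiv.Perm (Fin chevE8.nroots), ∀ j x,
      bl Am (vec chevE8 8 (τ j)) (rep CoxeterMatrix.E₈.toCoxeterSystem typeE8.isCartan v x) =
        bl Am (vec chevE8 8 j) x := root_fam typeE8 formOK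
  rcases hord with hord | hord
  · -- order 3
    set q : ZMod p := (Fintype.card F : ZMod p) with hq
    obtain ⟨-, hq2⟩ := sq_of_order3 hord
    have hq3 : q ^ 3 = 1 := by rw [← hord]; exact pow_orderOf_eq_one q
    have hq1 : q ≠ 1 := fun h1 => by rw [h1, orderOf_one] at hord; omega
    have hqq : q ^ 2 + q + 1 = 0 := by
      have e1 : (q - 1) * (q ^ 2 + q + 1) = 0 := by linear_combination hq3
      exact (mul_eq_zero.1 e1).resolve_left (sub_ne_zero.2 hq1)
    have hs : (-q) ^ 2 = -q - 1 := by linear_combination hqq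
    have hqs : q * (-q) ^ 2 = 1 := by linear_combination hq3
    have hsd : ((-q) ^ 2) ^ 3 = 1 := by linear_combination (q ^ 3 + 1) * hq3
    have hw : ∀ x, (fun x => rep CoxeterMatrix.E₈.toCoxeterSystem typeE8.isCartan
        (wd CoxeterMatrix.E₈ cw6 * wd CoxeterMatrix.E₈ cw6) x)^[3] x = x := by
      intro x
      have h1 : (fun x => rep CoxeterMatrix.E₈.toCoxeterSystem typeE8.isCartan
        (wd CoxeterMatrix.E₈ cw6 * wd CoxeterMatrix.E₈ cw6) x) = fun x => rp (rp x) := by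
        funext x
        rw [rep_mul_apply]
      rw [h1]
      exact it3' rp_sq x
    have hfun : (fun x => rep CoxeterMatrix.E₈.toCoxeterSystem typeE8.isCartan
        (wd CoxeterMatrix.E₈ cw6 * wd CoxeterMatrix.E₈ cw6) x) = fun x => rp (rp x) := by
      funext x
      rw [rep_mul_apply]
    obtain ⟨P, L, h⟩ := forms_untw typeE8 (by norm_num) i hpF hW invC_E8 one_ne_zero (Or.inl rfl)
      (fun h => by have := Nat.le_of_dvd (by norm_num) h; omega) (wd CoxeterMatrix.E₈ cw6 * wd CoxeterMatrix.E₈ cw6)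
      (d := 3) (by norm_num) hw hq3 hqs (fun a ha => by
        obtain ⟨c, hc, hc'⟩ := exists_eig hqs hsd
          (θ := repAut CoxeterMatrix.E₈.toCoxeterSystem typeE8.isCartan (wd CoxeterMatrix.E₈ cw6 * wd CoxeterMatrix.E₈ cw6))
          hw (bl Am a)
        refine ⟨c, hc, ?_⟩
        rw [hc']
        have h1 : pj p 3 ((-q) ^ 2) (fun x => rep CoxeterMatrix.E₈.toCoxeterSystem typeE8.isCartan
          (wd CoxeterMatrix.E₈ cw6 * wd CoxeterMatrix.E₈ cw6) x) (bl Am a) a ≠ 0 := by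
          rw [hfun, pj3 rp_sq hs rfl, map_sub, map_sub, map_nsmul, map_nsmul, bl_rp ha, bl_root typeE8 formOK Am_diag ha]
          norm_num
          exact h3p
        exact h1)
    refine ⟨P, L, -q, hs, h.ab, h.dvd, fun m => scale (c := 1) one_ne_zero ?_⟩
    obtain ⟨f, hf, hfW, hfx⟩ := h.form (fun r : Fin chevE8.nroots => bl Am (vec chevE8 8 r)) (fun v _ => hfam v) m
    refine ⟨f, hf, hfW, fun x => ?_⟩
    rw [hfx, hfun]
    refine Finset.sum_congr rfl fun r _ => ?_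
    rw [pj3 rp_sq hs rfl, fam_val, one_mul]
  · -- order 6
    set q : ZMod p := (Fintype.card F : ZMod p) with hq
    have hq2 := sq_of_order6 hord
    have hq6 : q ^ 6 = 1 := by rw [← hord]; exact pow_orderOf_eq_one q
    have hq0 : q ≠ 0 := ne_zero_of6 hq2
    have hqs : q * q⁻¹ = 1 := mul_inv_cancel₀ hq0
    have hs : (q⁻¹) ^ 2 = q⁻¹ - 1 := by
      linear_combination ((q⁻¹) ^ 2) * hq2 - (q * q⁻¹ + 1 - q⁻¹) * hqs
    have hsd : (q⁻¹) ^ 6 = 1 := by rw [inv_pow, hq6, inv_one]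
    have hw : ∀ x, (fun x => rep CoxeterMatrix.E₈.toCoxeterSystem typeE8.isCartan (wd CoxeterMatrix.E₈ cw6) x)^[6] x = x := by
      intro x
      exact it6 (T := rp) rp_sq x
    obtain ⟨P, L, h⟩ := forms_untw typeE8 (by norm_num) i hpF hW invC_E8 one_ne_zero (Or.inl rfl)
      (fun h => by have := Nat.le_of_dvd (by norm_num) h; omega) (wd CoxeterMatrix.E₈ cw6)
      (d := 6) (by norm_num) hw hq6 hqs (fun a ha => by
        obtain ⟨c, hc, hc'⟩ := exists_eig hqs hsd
          (θ := repAut CoxeterMatrix.E₈.toCoxeterSystem typeE8.isCartan (wd CoxeterMatrix.E₈ cw6)) hw (bl Am a)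
        refine ⟨c, hc, ?_⟩
        rw [hc']
        have h1 : pj p 6 q⁻¹ rp (bl Am a) a ≠ 0 := by
          rw [pj6 rp_sq hs, map_sub, map_sub, map_nsmul, map_nsmul, bl_rp ha, bl_root typeE8 formOK Am_diag ha]
          norm_num only [_root_.Int.nsmul_eq_mul, _root_.Int.cast_ofNat, _root_.sub_self, _root_.Int.cast_zero, _root_.MulZeroClass.mul_zero, _root_.add_zero, _root_.ne_eq]
          exact h6p
        exact h1)
    refine ⟨P, L, q⁻¹, hs, h.ab, h.dvd, fun m => scale (c := 2) h2p ?_⟩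
    obtain ⟨f, hf, hfW, hfx⟩ := h.form (fun r : Fin chevE8.nroots => bl Am (vec chevE8 8 r)) (fun v _ => hfam v) m
    refine ⟨f, hf, hfW, fun x => ?_⟩
    rw [hfx]
    refine Finset.sum_congr rfl fun r _ => ?_
    have h1 : pj p 6 q⁻¹ (fun x => rep CoxeterMatrix.E₈.toCoxeterSystem typeE8.isCartan (wd CoxeterMatrix.E₈ cw6) x)
      (bl Am (vec chevE8 8 r)) x = 2 * ((a6 x r : ZMod p) + q⁻¹ * (b6 x r : ZMod p)) := by
      rw [← fam_val]
      exact pj6 rp_sq hs _ x
    rw [h1]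

end Cfsg.Agent.H92.NE.E8
end

-- part: H92/NE/E8Nr
section
/-!
# E8, `q` of order 3 or 6 modulo `p`: the number of the members of `X0` which are not rational (S4791 + S4927, helper92)

`nr36` : `(p - 1) / 6 ≤ nr p M S`, `p ≥ 19`.
-/

set_option autoImplicit false
set_option linter.unusedSectionVars false
set_option maxRecDepth 10000

namespace Cfsg.Agent.H92.NE.E8

open Cfsg Cfsg.Lie Cfsg.Lie.ChevalleyDatum
open Cfsg.Agent.Nodes.RGDChev Cfsg.Agent.H129.WData Cfsg.Agent.H994.KE.E8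
open Cfsg.Agent.H603.AP Cfsg.Agent.H92.NE Cfsg.Agent.H508.XR

universe u v

theorem Pol_cast {p : ℕ} {A : Type u} [Group A] {a b : ℕ} (h : a = b) {f : LL p A → ZMod p} (hf : f ∈ Pol p A a) :
    f ∈ Pol p A b := h ▸ hf

/-- the power sums of helper931 -/
theorem S6_eq {R : Type*} [CommRing R] (m : ℕ) (x : Fin 8 → ℤ) (s : R) : S6 m x s = Cfsg.Agent.H931.NE.S6 s m x := by
  unfold S6 Cfsg.Agent.H931.NE.S6
  refine Finset.sum_congr rfl fun r _ => ?_
  have h1 : (2 : ℤ) • x - Cfsg.Agent.H931.NE.ap W6 x = fun m => 2 * x m - ap W6 x m := by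
    funext m
    rw [Pi.sub_apply, Pi.smul_apply, smul_eq_mul]
    rfl
  have h2 : (2 : ℤ) • Cfsg.Agent.H931.NE.ap W6 x - x = fun m => 2 * ap W6 x m - x m := by
    funext m
    rw [Pi.sub_apply, Pi.smul_apply, smul_eq_mul]
    rfl
  rw [h1, h2]
  rfl

theorem intCast_ne {p : ℕ} {z : ℤ} (h : ¬ p ∣ z.natAbs) : (z : ZMod p) ≠ 0 := by
  intro h1
  rw [ZMod.intCast_zmod_eq_zero_iff_dvd] at h1
  exact h (Int.natCast_dvd.1 h1)

/-- `p` does not divide a product of powers of small numbers -/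
theorem not_dvd_prod {p : ℕ} (hp : p.Prime) (L : List (ℕ × ℕ)) (hL : ∀ x ∈ L, 0 < x.1 ∧ x.1 < p) :
    ¬ p ∣ (L.map fun x => x.1 ^ x.2).prod := by
  intro h
  obtain ⟨a, ha, hpa⟩ := (Prime.dvd_prod_iff hp.prime).1 h
  obtain ⟨x, hx, rfl⟩ := List.mem_map.1 ha
  have h1 := Nat.le_of_dvd (hL x hx).1 (hp.dvd_of_dvd_pow hpa)
  have h2 := (hL x hx).2
  omega

theorem f12_ne {p : ℕ} (hp : p.Prime) (h19 : 19 ≤ p) : ((3306744 : ℤ) : ZMod p) ≠ 0 := by
  refine intCast_ne ?_
  have h1 : (3306744 : ℤ).natAbs = (([(2, 3), (3, 10), (7, 1)] : List (ℕ × ℕ)).map fun x => x.1 ^ x.2).prod := by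
    decide +kernel
  rw [h1]
  refine not_dvd_prod hp _ fun x hx => ?_
  simp only [List.mem_cons, List.not_mem_nil, or_false] at hx
  rcases hx with rfl | rfl | rfl <;> constructor <;> simp <;> omega

theorem f18_ne {p : ℕ} (hp : p.Prime) (h19 : 19 ≤ p) : ((2321334288 : ℤ) : ZMod p) ≠ 0 := by
  refine intCast_ne ?_
  have h1 : (2321334288 : ℤ).natAbs =
      (([(2, 4), (3, 13), (7, 1), (13, 1)] : List (ℕ × ℕ)).map fun x => x.1 ^ x.2).prod := by
    decide +kernel
  rw [h1]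
  refine not_dvd_prod hp _ fun x hx => ?_
  simp only [List.mem_cons, List.not_mem_nil, or_false] at hx
  rcases hx with rfl | rfl | rfl | rfl <;> constructor <;> simp <;> omega

/-- **One orbit of length `(p - 1) / 6`.** -/
theorem nr36 {p : ℕ} [hpp : Fact p.Prime] {M : Ideal AlgInt} (hM : IsPModular p M) {F : Type u} [Field F] [Fintype F]
    {S : Type v} [Group S] [Finite S] (i : S ≃* ↥(chevE8.group F)) (h19 : 19 ≤ p) (hpF : (p : F) ≠ 0)
    (hord : orderOf (Fintype.card F : ZMod p) = 3 ∨ orderOf (Fintype.card F : ZMod p) = 6) :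
    (p - 1) / 6 ≤ nr p M S := by
  obtain ⟨P, L, s, hs, hab, hdvd, hform⟩ := forms6 i (by omega) hpF hord
  -- `p ≡ 1` modulo 6
  have h3 : 3 ∣ p - 1 := by
    have hF0 : (Fintype.card F : ZMod p) ≠ 0 := by
      intro h
      rw [h] at hord
      have h1 : orderOf (0 : ZMod p) = 0 := orderOf_zero (ZMod p)
      omega
    have h1 := ZMod.orderOf_dvd_card_sub_one hF0
    rcases hord with h | h
    · rw [h] at h1
      exact h1
    · rw [h] at h1
      exact (by norm_num : 3 ∣ 6).trans h1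
  have h2 : p % 2 = 1 := (hpp.out.eq_two_or_odd).resolve_left (by omega)
  obtain ⟨n, hn⟩ : ∃ n, p = 6 * n + 7 := ⟨(p - 7) / 6, by omega⟩
  obtain ⟨f12, h12, w12, v12⟩ := hform 12
  obtain ⟨f18, h18, w18, v18⟩ := hform 18
  have e12 : f12 (L X0) ≠ 0 := by
    rw [v12, S6_eq]
    exact fun h => f12_ne hpp.out h19 ((Cfsg.Agent.H931.NE.S6_12_x0 hs).symm.trans h)
  have e18 : f18 (L X0) ≠ 0 := by
    rw [v18, S6_eq]
    exact fun h => f18_ne hpp.out h19 ((Cfsg.Agent.H931.NE.S6_18_x0 hs).symm.trans h)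
  obtain ⟨a, b, hab'⟩ : ∃ a b : ℕ, 12 * a + 18 * b = p - 7 := by
    rcases Nat.even_or_odd n with ⟨m, hm⟩ | ⟨m, hm⟩
    · exact ⟨m, 0, by (clear * - hn hm; omega)⟩
    · exact ⟨m - 1, 1, by (clear * - h19 hn hm; omega)⟩
  have hgcd : Nat.gcd (p - 7) (p - 1) = 6 := by
    have h1 : p - 7 = 6 * n := by (clear * - hn; omega)
    have h4 : p - 1 = 6 * (n + 1) := by (clear * - hn; omega)
    rw [h1, h4, Nat.gcd_mul_left, Nat.gcd_self_add_right, Nat.gcd_one_right, mul_one]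
  have hPol : f12 ^ a * f18 ^ b ∈ Pol p P (p - 7) :=
    Pol_cast (by omega) (Pol_mul (Pol_pow h12 a) (Pol_pow h18 b))
  have h0 : f12 ^ a * f18 ^ b ≠ 0 := by
    intro h
    have h1 := congrFun h (L X0)
    rw [Pi.mul_apply, Pi.pow_apply, Pi.pow_apply, Pi.zero_apply] at h1
    rcases mul_eq_zero.1 h1 with h4 | h4
    · exact pow_ne_zero a e12 h4
    · exact pow_ne_zero b e18 h4
  have key := Cfsg.Agent.H26.XZ.gal_nr_one hM hdvd hab (D := p - 7) (by (clear * - h19; omega)) (by (clear * - hn; omega)) h0 hPol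
    (WInv.mul' (w12.pow a) (w18.pow b))
  rwa [hgcd] at key

end Cfsg.Agent.H92.NE.E8
end

-- part: H931/XZ/FourA
section
/-!
# `E₈(q)`, `q` of order 4 modulo `p` (S4791, S4927; helper931): the forms `f₈`, `f₁₂`, abstractly

`nr` bounds from forms `f₈`, `f₁₂` with known values at two points `y₁`, `y₂`:
`f₈(y₁) = c₈`, `f₁₂(y₁) = c₁₂`, `f₈(y₂) = -5 c₈`, `f₁₂(y₂) = 35 c₁₂`.
-/

set_option autoImplicit false
set_option linter.unusedSectionVars false

namespace Cfsg.Agent.H931.XZ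

open Cfsg
open Cfsg.Agent.Blocks Cfsg.Agent.Blocks.Local Cfsg.Agent.Characters
open Cfsg.Agent.H603.AP Cfsg.Agent.H26.XZ

universe u

variable {p : ℕ} [hpp : Fact p.Prime] {M : Ideal AlgInt} {G : Type u} [Group G] [Finite G]

theorem WInv.mul {P : Sylow p G} {f g : LL p P → ZMod p} (hf : WInv P f) (hg : WInv P g) : WInv P (f * g) := by
  intro n hn l l' h
  rw [Pi.mul_apply, Pi.mul_apply, hf n hn l l' h, hg n hn l l' h]

/-- two functions with a nonzero determinant at two points -/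
theorem linInd_of_det {Y : Type*} {f g : Y → ZMod p} (y₁ y₂ : Y) (h : f y₁ * g y₂ - f y₂ * g y₁ ≠ 0) :
    LinearIndependent (ZMod p) ![f, g] := by
  rw [LinearIndependent.pair_iff]
  intro s t hst
  have h1 : s * f y₁ + t * g y₁ = 0 := by
    have := congrFun hst y₁
    simpa only [_root_.Pi.add_apply, _root_.Pi.smul_apply, _root_.smul_eq_mul, _root_.Pi.zero_apply] using this
  have h2 : s * f y₂ + t * g y₂ = 0 := by
    have := congrFun hst y₂
    simpa only [_root_.Pi.add_apply, _root_.Pi.smul_apply, _root_.smul_eq_mul, _root_.Pi.zero_apply] using this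
  constructor
  · have h3 : s * (f y₁ * g y₂ - f y₂ * g y₁) = 0 := by linear_combination g y₂ * h1 - g y₁ * h2
    exact (mul_eq_zero.1 h3).resolve_right h
  · have h3 : t * (f y₁ * g y₂ - f y₂ * g y₁) = 0 := by linear_combination f y₁ * h2 - f y₂ * h1
    exact (mul_eq_zero.1 h3).resolve_right h

theorem gcd4 {p : ℕ} (h5 : 5 ≤ p) (h1 : p % 4 = 1) : Nat.gcd (p - 5) (p - 1) = 4 := by
  obtain ⟨m, rfl⟩ : ∃ m, p = 4 * m + 5 := ⟨(p - 5) / 4, by omega⟩
  have e1 : 4 * m + 5 - 5 = 4 * m := by omega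
  have e2 : 4 * m + 5 - 1 = 4 * m + 4 := by omega
  rw [e1, e2]
  have e3 : 4 * m + 4 = 4 * (m + 1) := by ring
  rw [e3, Nat.gcd_mul_left]
  have : Nat.gcd m (m + 1) = 1 := by simp
  rw [this]

/-- natural numbers prime to `p` -/
theorem cast_ne_zero' {p n : ℕ} [hpp : Fact p.Prime] (h : ∀ q : ℕ, q.Prime → q ∣ n → q < p) : (n : ZMod p) ≠ 0 := by
  intro h0
  exact lt_irrefl p (h p hpp.out ((ZMod.natCast_eq_zero_iff n p).1 h0))

/-- the data of the two forms -/
structure Data (P : Sylow p G) (f8 f12 : LL p P → ZMod p) (y₁ y₂ : LL p P) (c8 c12 : ZMod p) : Prop where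
  P8 : f8 ∈ Pol p P 8
  P12 : f12 ∈ Pol p P 12
  W8 : WInv P f8
  W12 : WInv P f12
  n8 : c8 ≠ 0
  n12 : c12 ≠ 0
  f8y₁ : f8 y₁ = c8
  f12y₁ : f12 y₁ = c12
  f8y₂ : f8 y₂ = -5 * c8
  f12y₂ : f12 y₂ = 35 * c12

section

variable {P : Sylow p G} {f8 f12 : LL p P → ZMod p} {y₁ y₂ : LL p P} {c8 c12 : ZMod p}

/-- `p = 13` -/
theorem nr_13 (hM : IsPModular p M) (hpG : p ∣ Nat.card G) (hab : ∀ x ∈ P, ∀ y ∈ P, x * y = y * x)
    (H : Data P f8 f12 y₁ y₂ c8 c12) (hp : p = 13) : 3 ≤ H508.XR.nr p M G := by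
  have h := gal_nr_one hM hpG hab (D := 8) (by norm_num) (by omega) (f := f8)
    (fun h => H.n8 (by rw [← H.f8y₁, h]; rfl)) H.P8 H.W8
  subst hp
  norm_num at h
  exact h

/-- `p = 17` -/
theorem nr_17 (hM : IsPModular p M) (hpG : p ∣ Nat.card G) (hab : ∀ x ∈ P, ∀ y ∈ P, x * y = y * x)
    (H : Data P f8 f12 y₁ y₂ c8 c12) (hp : p = 17) : 4 ≤ H508.XR.nr p M G := by
  have h := gal_nr_one hM hpG hab (D := 12) (by norm_num) (by omega) (f := f12)
    (fun h => H.n12 (by rw [← H.f12y₁, h]; rfl)) H.P12 H.W12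
  subst hp
  norm_num at h
  exact h

/-- the exponents -/
theorem exists_ab {p : ℕ} (hp : p.Prime) (h1 : p % 4 = 1) (h29 : 29 ≤ p) : ∃ a b : ℕ, p = 8 * a + 12 * b + 29 := by
  obtain ⟨m, hm⟩ : ∃ m, p = 4 * m + 29 := ⟨(p - 29) / 4, by omega⟩
  have hm1 : m ≠ 1 := by
    rintro rfl
    subst hm
    norm_num at hp
  rcases Nat.even_or_odd' m with ⟨a, ha | ha⟩
  · exact ⟨a, 0, by omega⟩
  · exact ⟨a - 1, 1, by (clear * - h29 hm hm1 ha; omega)⟩

/-- `p ≥ 29` -/
theorem nr_29 (hM : IsPModular p M) (hpG : p ∣ Nat.card G) (hab : ∀ x ∈ P, ∀ y ∈ P, x * y = y * x)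
    (H : Data P f8 f12 y₁ y₂ c8 c12) (h1 : p % 4 = 1) (h29 : 29 ≤ p) : (p - 1) / 2 ≤ H508.XR.nr p M G := by
  obtain ⟨a, b, hab'⟩ := exists_ab hpp.out h1 h29
  have hc8 := H.n8
  have hc12 := H.n12
  have h5 : (5 : ZMod p) ≠ 0 := by
    have := cast_ne_zero' (p := p) (n := 5) fun q hq hd => by
      have := Nat.le_of_dvd (by norm_num) hd
      omega
    simpa only [_root_.ne_eq, _root_.Nat.cast_ofNat] using this
  have h35 : (35 : ZMod p) ≠ 0 := by
    have := cast_ne_zero' (p := p) (n := 35) fun q hq hd => by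
      have h35 : (35 : ℕ) = 5 * 7 := by norm_num
      rw [h35, hq.dvd_mul] at hd
      rcases hd with hd | hd <;> have := Nat.le_of_dvd (by norm_num) hd <;> (clear * - h1 h29 hab' this; omega)
    simpa only [_root_.ne_eq, _root_.Nat.cast_ofNat] using this
  have h1350 : (1350 : ZMod p) ≠ 0 := by
    have := cast_ne_zero' (p := p) (n := 1350) fun q hq hd => by
      have h35 : (1350 : ℕ) = 25 * (27 * 2) := by norm_num
      rw [h35, hq.dvd_mul, hq.dvd_mul] at hd
      rcases hd with hd | hd | hd <;> have := Nat.le_of_dvd (by norm_num) hd <;> (clear * - hab' this; omega)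
    simpa only [_root_.ne_eq, _root_.Nat.cast_ofNat] using this
  have hli : LinearIndependent (ZMod p) ![f8 ^ (a + 3) * f12 ^ b, f8 ^ a * f12 ^ (b + 2)] := by
    refine linInd_of_det y₁ y₂ ?_
    simp only [Pi.mul_apply, Pi.pow_apply]
    rw [H.f8y₁, H.f12y₁, H.f8y₂, H.f12y₂]
    have e : c8 ^ (a + 3) * c12 ^ b * ((-5 * c8) ^ a * (35 * c12) ^ (b + 2)) -
        (-5 * c8) ^ (a + 3) * (35 * c12) ^ b * (c8 ^ a * c12 ^ (b + 2)) =
        (c8 ^ (2 * a + 3) * c12 ^ (2 * b + 2)) * ((-5) ^ a * 35 ^ b) * 1350 := by ring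
    rw [e]
    refine mul_ne_zero (mul_ne_zero (mul_ne_zero (pow_ne_zero _ hc8) (pow_ne_zero _ hc12))
      (mul_ne_zero (pow_ne_zero _ (neg_ne_zero.2 h5)) (pow_ne_zero _ h35))) h1350
  have e1 : (a + 3) * 8 + b * 12 = p - 5 := by (clear * - hab'; solve | lia | omega)
  have e2 : a * 8 + (b + 2) * 12 = p - 5 := by omega
  have h := gal_nr_two hM hpG hab (D := p - 5) (by (clear * - e1; omega)) (by (clear * - e1; omega)) hli
    (by rw [← e1]; exact Pol_mul (Pol_pow H.P8 _) (Pol_pow H.P12 _))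
    (by rw [← e2]; exact Pol_mul (Pol_pow H.P8 _) (Pol_pow H.P12 _))
    (WInv.mul (H.W8.pow _) (H.W12.pow _)) (WInv.mul (H.W8.pow _) (H.W12.pow _))
  rw [gcd4 (by omega) h1] at h
  omega

end

end Cfsg.Agent.H931.XZ
end

-- part: H931/NE/E8Four
section
/-!
# `E₈(q)`, `q` of order 4 modulo `p` (S4791, S4927; helper931): the members of `X₀` which are not rational on `P`

* `exists_data` : the forms `f₈`, `f₁₂` on an abelian Sylow subgroup with their values at two points;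
* `nr4` : `(p - 1) / 4 ≤ nr` for `p ≥ 13`; `nr4_two` : `(p - 1) / 2 ≤ nr` for `p ≥ 29`.
-/

set_option autoImplicit false
set_option linter.unusedSectionVars false
set_option maxRecDepth 10000

namespace Cfsg.Agent.H931.NE

open CoxeterSystem Cfsg Cfsg.Lie Cfsg.Lie.ChevalleyDatum
open Cfsg.Agent.ChevalleyStructure Cfsg.Agent.ChevalleyStructure.Elts Cfsg.Agent.ChevalleyStructure.CoxeterGeom
  Cfsg.Agent.ChevalleyStructure.CoxeterGeomTypes Cfsg.Agent.ChevalleyStructure.NPerm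
open Cfsg.Agent.Tits.Roots Cfsg.Agent.Tits.Core Cfsg.Agent.Nodes Cfsg.Agent.Nodes.Reps Cfsg.Agent.Nodes.BNOf
  Cfsg.Agent.Nodes.RGDChev Cfsg.Agent.Nodes.Bruhat
open Cfsg.Agent.H129.TorusChar Cfsg.Agent.H129.WData Cfsg.Agent.H210.EL
open Cfsg.Agent.H994.KE.E8 (Am W6 W4 hA cw4 cw4_ok)
open Cfsg.Agent.H92.NE
open Cfsg.Agent.H603.AP

universe u v

theorem type_E8 : IsType chevE8 8 CoxeterMatrix.E₈ := by simp [IsType, typeList]

theorem formOK : FormOK chevE8 8 Am := by decide +kernel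

theorem Am_diag : ∀ i, Am i i = 2 := by decide +kernel

theorem not_dvd_W {p : ℕ} (hp : p.Prime) (h11 : 11 ≤ p) : ¬ p ∣ Nat.card CoxeterMatrix.E₈.Group := by
  have h1 : Nat.card CoxeterMatrix.E₈.Group = 696729600 := S1093.result (⟨8, CoxeterMatrix.E₈⟩, 696729600) (by simp)
  rw [h1, show 696729600 = 2 ^ 14 * 3 ^ 5 * 5 ^ 2 * 7 by norm_num, hp.dvd_mul, hp.dvd_mul, hp.dvd_mul]
  rintro (((h | h) | h) | h)
  · have := Nat.le_of_dvd (by norm_num) (hp.dvd_of_dvd_pow h); omega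
  · have := Nat.le_of_dvd (by norm_num) (hp.dvd_of_dvd_pow h); omega
  · have := Nat.le_of_dvd (by norm_num) (hp.dvd_of_dvd_pow h); omega
  · have := Nat.le_of_dvd (by norm_num) h; omega

/-- the element of the Weyl group of a chain -/
noncomputable def wE (L : List (Fin 8 × Mat 8)) : CoxeterMatrix.E₈.Group :=
  CoxeterMatrix.E₈.toCoxeterSystem.wordProd (L.map Prod.fst)

/-- its action -/
theorem rep_ap {L : List (Fin 8 × Mat 8)} (hL : ChainOK Am L) (x : Fin 8 → ℤ) :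
    rep CoxeterMatrix.E₈.toCoxeterSystem type_E8.isCartan (wE L) x = ap (hd L) x := by
  funext m
  exact H795.TorsData.rep_of_sr type_E8 CoxeterMatrix.E₈.toCoxeterSystem
    (chain_rep type_E8 CoxeterMatrix.E₈.toCoxeterSystem hA hL) x m

/-- the action of `w₄` -/
noncomputable def th4 (x : Fin 8 → ℤ) : Fin 8 → ℤ := rep CoxeterMatrix.E₈.toCoxeterSystem type_E8.isCartan (wE cw4) x

theorem th4_eq (x : Fin 8 → ℤ) : th4 x = ap W4 x := rep_ap cw4_ok x

theorem W4_sq : ∀ i j, (∑ n, W4 i n * W4 n j) = if i = j then -1 else 0 := by decide +kernel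

theorem th4_sq (x : Fin 8 → ℤ) : th4 (th4 x) = -x := by
  rw [th4_eq, th4_eq]
  funext m
  unfold ap
  have h1 : ∀ j, (∑ j', x j' * W4 j' j) * W4 j m = ∑ j', x j' * (W4 j' j * W4 j m) := fun j => by
    rw [Finset.sum_mul]
    exact Finset.sum_congr rfl fun j' _ => by ring
  rw [Finset.sum_congr rfl fun j _ => h1 j, Finset.sum_comm]
  have h2 : ∀ j', (∑ j, x j' * (W4 j' j * W4 j m)) = x j' * if j' = m then -1 else 0 := fun j' => by
    rw [← Finset.mul_sum, W4_sq]
  rw [Finset.sum_congr rfl fun j' _ => h2 j']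
  simp

theorem th4_four (x : Fin 8 → ℤ) : th4^[4] x = x := by
  show th4 (th4 (th4 (th4 x))) = x
  rw [th4_sq, th4_sq, neg_neg]

/-- the projection -/
theorem pj4 {p : ℕ} {s : ZMod p} (hs : s ^ 2 = -1) (ψ : (Fin 8 → ℤ) →+ ℤ) (x : Fin 8 → ℤ) :
    pj p 4 s th4 ψ x = 2 * ((ψ x : ZMod p) + s * (ψ (ap W4 x) : ZMod p)) := by
  unfold pj
  rw [Finset.sum_range_succ, Finset.sum_range_succ, Finset.sum_range_succ, Finset.sum_range_succ, Finset.sum_range_zero]
  have h1 : th4^[1] x = ap W4 x := th4_eq x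
  have h2 : th4^[2] x = -x := th4_sq x
  have h3 : th4^[3] x = -ap W4 x := by
    show th4 (th4 (th4 x)) = _
    rw [th4_sq, th4_eq]
  rw [h1, h2, h3, Function.iterate_zero, id, map_neg, map_neg]
  push_cast
  linear_combination (-(ψ x : ZMod p) - s * (ψ (ap W4 x) : ZMod p)) * hs

/-- `θ` as an automorphism of the lattice -/
noncomputable def th4e : (Fin 8 → ℤ) ≃+ (Fin 8 → ℤ) :=
  BpExc.Fr.repAut CoxeterMatrix.E₈.toCoxeterSystem type_E8.isCartan (wE cw4)

seal _root_.List.foldr _root_.FreeGroup.mk _root_.Quotient.mk _root_.Cfsg.Agent.ChevalleyStructure.CoxeterGeom.refl _root_.PresentedGroup.of _root_.FreeGroup.of _root_.CoxeterSystem.simple _root_.Quotient.map₂ in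
/-- a root and its image are orthogonal -/
theorem bl_th4 (x : Fin 8 → ℤ) : bl Am x (ap W4 x) = 0 := by
  have h1 : bl Am (th4 x) (th4 (th4 x)) = bl Am x (th4 x) := bl_rep type_E8 formOK (wE cw4) (th4 x) x
  rw [th4_sq, map_neg, bl_comm formOK.1] at h1
  rw [← th4_eq]
  omega

section

variable {p : ℕ} [hpp : Fact p.Prime] {F : Type u} [Field F] [Fintype F] {S : Type v} [Group S] [Finite S]

/-- regularity -/
theorem reg4 (h3 : 2 < p) {q s : ZMod p} (hqs : q * s = 1) (hs : s ^ 2 = -1) (a : Fin 8 → ℤ)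
    (ha : IsRoot CoxeterMatrix.E₈.toCoxeterSystem type_E8.isCartan a) :
    ∃ c : Fin 8 → ZMod p,
      (∀ x, lam c (rep CoxeterMatrix.E₈.toCoxeterSystem type_E8.isCartan (wE cw4) x) = q * lam c x) ∧ lam c a ≠ 0 := by
  have hs4 : s ^ 4 = 1 := by linear_combination (s ^ 2 - 1) * hs
  obtain ⟨c, hc1, hc2⟩ := exists_eig (θ := th4e) hqs hs4 th4_four (bl Am a)
  refine ⟨c, hc1, ?_⟩
  rw [hc2]
  have h1 : pj p 4 s th4e (bl Am a) a = 2 * (((bl Am a a : ℤ) : ZMod p) + s * ((bl Am a (ap W4 a) : ℤ) : ZMod p)) :=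
    pj4 hs (bl Am a) a
  rw [h1, bl_root type_E8 formOK Am_diag ha, bl_th4, Int.cast_zero, mul_zero, add_zero]
  have h2 : (2 : ZMod p) ≠ 0 := by
    have := (ZMod.natCast_eq_zero_iff 2 p).not.2 (fun h => by have := Nat.le_of_dvd (by norm_num) h; omega)
    simpa only [_root_.ne_eq, _root_.Nat.cast_ofNat] using this
  exact mul_ne_zero h2 (by simpa only [_root_.Int.cast_ofNat, _root_.ne_eq] using h2)

/-- **The forms `f₈`, `f₁₂`.** -/
theorem exists_data (h11 : 11 ≤ p) (hpF : (p : F) ≠ 0) (i : S ≃* ↥(chevE8.group F))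
    (hord : orderOf (Fintype.card F : ZMod p) = 4) :
    ∃ P : Sylow p S, (∀ x ∈ P, ∀ y ∈ P, x * y = y * x) ∧ p ∣ Nat.card S ∧ ∃ (f8 f12 : LL p P → ZMod p) (y₁ y₂ : LL p P)
      (c8 c12 : ZMod p), XZ.Data P f8 f12 y₁ y₂ c8 c12 := by
  have hq2 := H994.KE.E8.sq_of_order4 hord
  set q : ZMod p := (Fintype.card F : ZMod p) with hqdef
  obtain ⟨s, hsdef⟩ : ∃ s, s = -q := ⟨_, rfl⟩
  have hqs : q * s = 1 := by rw [hsdef]; linear_combination -hq2
  have hs : s ^ 2 = -1 := by rw [hsdef]; linear_combination hq2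
  have hq4 : q ^ 4 = 1 := by linear_combination (q ^ 2 - 1) * hq2
  obtain ⟨P, L, H⟩ := forms_untw type_E8 (by norm_num) i hpF (not_dvd_W hpp.out h11) invC_E8 one_ne_zero (Or.inl rfl)
    (fun h => by have := Nat.le_of_dvd (by norm_num) h; omega) (wE cw4) (d := 4) (by norm_num) th4_four hq4 hqs
    (reg4 (by omega) hqs hs)
  have hval : ∀ m : ℕ, ∃ f ∈ Pol p P m, WInv P f ∧ ∀ x, f (L x) = 2 ^ m * S4 s m x := by
    intro m
    obtain ⟨f, hf1, hf2, hf3⟩ := H.form (fun r : Fin chevE8.nroots => bl Am (vec chevE8 8 r))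
      (fun v _ => root_fam type_E8 formOK v) m
    refine ⟨f, hf1, hf2, fun x => ?_⟩
    rw [hf3]
    unfold S4
    rw [Finset.mul_sum]
    refine Finset.sum_congr rfl fun r _ => ?_
    have h1 := pj4 hs (bl Am (vec chevE8 8 r)) x
    rw [← mul_pow, ← h1]
    rfl
  obtain ⟨f8, h8P, h8W, h8⟩ := hval 8
  obtain ⟨f12, h12P, h12W, h12⟩ := hval 12
  have hnat : ∀ n : ℕ, (∀ r : ℕ, r.Prime → r ∣ n → r < p) → (n : ZMod p) ≠ 0 := fun n h => XZ.cast_ne_zero' h
  have h2 : (2 : ZMod p) ≠ 0 := by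
    have := hnat 2 fun r _ hd => by have := Nat.le_of_dvd (by norm_num) hd; omega
    simpa only [_root_.ne_eq, _root_.Nat.cast_ofNat] using this
  have h1920 : (1920 : ZMod p) ≠ 0 := by
    have := hnat 1920 fun r hr hd => by
      rw [show 1920 = 2 ^ 7 * 3 * 5 by norm_num, hr.dvd_mul, hr.dvd_mul] at hd
      rcases hd with (hd | hd) | hd
      · have := Nat.le_of_dvd (by norm_num) (hr.dvd_of_dvd_pow hd); omega
      · have := Nat.le_of_dvd (by norm_num) hd; omega
      · have := Nat.le_of_dvd (by norm_num) hd; omega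
    simpa only [_root_.ne_eq, _root_.Nat.cast_ofNat] using this
  have h13440 : (13440 : ZMod p) ≠ 0 := by
    have := hnat 13440 fun r hr hd => by
      rw [show 13440 = 2 ^ 7 * 3 * 5 * 7 by norm_num, hr.dvd_mul, hr.dvd_mul, hr.dvd_mul] at hd
      rcases hd with ((hd | hd) | hd) | hd
      · have := Nat.le_of_dvd (by norm_num) (hr.dvd_of_dvd_pow hd); omega
      · have := Nat.le_of_dvd (by norm_num) hd; omega
      · have := Nat.le_of_dvd (by norm_num) hd; omega
      · have := Nat.le_of_dvd (by norm_num) hd; omega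
    simpa only [_root_.ne_eq, _root_.Nat.cast_ofNat] using this
  refine ⟨P, H.ab, H.dvd, f8, f12, L x0, L y1, 2 ^ 8 * 1920, 2 ^ 12 * 13440, ?_⟩
  refine ⟨h8P, h12P, h8W, h12W, mul_ne_zero (pow_ne_zero _ h2) h1920, mul_ne_zero (pow_ne_zero _ h2) h13440, ?_, ?_, ?_, ?_⟩
  · rw [h8, S4_8_x0 hs]; norm_num
  · rw [h12, S4_12_x0 hs]; norm_num
  · rw [h8, S4_8_y1 hs]; push_cast; ring
  · rw [h12, S4_12_y1 hs]; push_cast; ring

variable {I : Ideal AlgInt}

theorem mod4 (hp : 3 < p) (hord : orderOf (Fintype.card F : ZMod p) = 4) : p % 4 = 1 := by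
  have hq2 := H994.KE.E8.sq_of_order4 hord
  have h0 : (Fintype.card F : ZMod p) ≠ 0 := by
    intro h
    rw [h] at hq2
    have : (1 : ZMod p) = 0 := by linear_combination hq2
    exact one_ne_zero this
  have h1 : 4 ∣ p - 1 := by
    rw [← hord]
    exact ZMod.orderOf_dvd_card_sub_one h0
  omega

/-- **One orbit.** -/
theorem nr4' (hM : IsPModular p I) (h13 : 13 ≤ p) (hpF : (p : F) ≠ 0) (i : S ≃* ↥(chevE8.group F))
    (hord : orderOf (Fintype.card F : ZMod p) = 4) : (p - 1) / 4 ≤ H508.XR.nr p I S := by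
  obtain ⟨P, hab, hdvd, f8, f12, y₁, y₂, c8, c12, H⟩ := exists_data (by omega) hpF i hord
  have h4 := mod4 (F := F) (by omega) hord
  by_cases e1 : p = 13
  · have := XZ.nr_13 hM hdvd hab H e1
    omega
  by_cases e2 : p = 17
  · have := XZ.nr_17 hM hdvd hab H e2
    omega
  by_cases e3 : p = 21
  · have := hpp.out
    rw [e3] at this
    norm_num at this
  by_cases e4 : p = 25
  · have := hpp.out
    rw [e4] at this
    norm_num at this
  have := XZ.nr_29 hM hdvd hab H h4 (by omega)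
  omega

end

end Cfsg.Agent.H931.NE
end

-- part: H703/XZ/AsmE8
section
/-!
# S4791 + S4927, the row `E₈(q)`: assembly (helper703)

* `Uni8 p M F N` : `N` different members of `X₀(E₈(q))`, integer valued, constituents of `1_B^G`;
* `row_E8_of` : the row from the lists of members and the counts for the orders 5, 8, 10, 12.
-/

set_option autoImplicit false

namespace Cfsg.Agent.H703.XZ

open Cfsg Cfsg.Lie Subgroup
open Cfsg.Agent.H508.KB Cfsg.Agent.H674.XZ Cfsg.Agent.H668.XZ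
open Cfsg.Agent.H508.XR (ExtY nr rr)
open Cfsg.Agent.Characters.Core
open Cfsg.Agent.Schreier.ChevLocal (BB)

universe u v

/-- `N` different members of `X₀(E₈(q))`, integer valued, constituents of `1_B^G` -/
def Uni8 (p : ℕ) (M : Ideal AlgInt) (F : Type) [Field F] [Fintype F] (N : ℕ) : Prop :=
  ∃ χ : Fin N → IrrCharacter ↥(chevE8.group F), Function.Injective χ ∧ ∀ i, Mem0 p M (χ i) ∧
    (∀ g, ∃ k : ℤ, (χ i : ↥(chevE8.group F) → ℂ) g = k) ∧
    ip (fixedPointCharacter (BB chevE8 F)) (χ i : ↥(chevE8.group F) → ℂ) ≠ 0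

theorem Uni8.mono {p : ℕ} {M : Ideal AlgInt} {F : Type} [Field F] [Fintype F] {N N' : ℕ} (h : Uni8 p M F N) (hN : N' ≤ N) :
    Uni8 p M F N' := by
  obtain ⟨χ, h1, h2⟩ := h
  exact ⟨fun i => χ (Fin.castLE hN i), h1.comp (Fin.castLE_injective hN), fun i => h2 _⟩

section

variable {p : ℕ} [hp : Fact p.Prime] {M : Ideal AlgInt} {F : Type} [Field F] [Fintype F] {S : Type u} [Group S] [Finite S]

omit [Finite S] in
/-- transport of the permutation character -/
theorem fix_comap {G : Type v} [Group G] (e : S ≃* G) (H : Subgroup G) (s : S) :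
    fixedPointCharacter (H.comap e.toMonoidHom) s = fixedPointCharacter H (e s) := by
  unfold fixedPointCharacter
  have hb : ∀ a b : S, (QuotientGroup.leftRel (H.comap e.toMonoidHom)) a b ↔ (QuotientGroup.leftRel H) (e a) (e b) := by
    intro a b
    rw [QuotientGroup.leftRel_apply, QuotientGroup.leftRel_apply, mem_comap]
    show e (a⁻¹ * b) ∈ H ↔ _
    rw [map_mul, map_inv]
  let E : S ⧸ (H.comap e.toMonoidHom) ≃ G ⧸ H := Quotient.congr e.toEquiv hb
  congr 1
  refine Nat.card_congr (E.subtypeEquiv fun x => ?_)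
  induction x using QuotientGroup.induction_on with
  | _ x =>
  rw [MulAction.mem_fixedBy, MulAction.mem_fixedBy]
  have h1 : E (s • (QuotientGroup.mk x : S ⧸ (H.comap e.toMonoidHom))) = e s • E (QuotientGroup.mk x) := by
    show (QuotientGroup.mk (e (s * x)) : G ⧸ H) = QuotientGroup.mk (e s * e x)
    rw [map_mul]
  rw [← h1]
  exact E.injective.eq_iff.symm

theorem Uni8.extY {N : ℕ} (h : Uni8 p M F N) (hM : IsPModular p M) {r : ℕ} [Fact r.Prime] [CharP F r]
    (e : S ≃* chevE8.group F) : ExtY p M S N := by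
  classical
  obtain ⟨χ, h1, h2⟩ := h
  let : Fintype S := Fintype.ofFinite S
  have hfG : Finite ↥(chevE8.group F) := Finite.of_equiv S e.toEquiv
  refine H230.XZ.extY_E8_of (r := r) hM e (fun i => ⟨fun s => (χ i : ↥(chevE8.group F) → ℂ) (e s),
    isIrr_comp e.toMonoidHom e.surjective (χ i).2⟩) ?_ (fun i => mem0_comp e (h2 i).1) fun i => ?_
  · intro i j hij
    apply h1
    apply Subtype.ext
    funext g
    have h3 := congrArg (fun t : IrrCharacter S => (t : S → ℂ) (e.symm g)) hij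
    simpa using h3
  · have h3 : (fixedPointCharacter ((BB chevE8 F).comap e.toMonoidHom) : S → ℂ) =
        fun s => fixedPointCharacter (BB chevE8 F) (e s) := by
      funext s
      exact fix_comap e _ s
    rw [h3]
    let : Fintype ↥(chevE8.group F) := Fintype.ofFinite _
    have h4 := (h2 i).2.2
    rw [ip_eq] at h4
    intro h5
    apply h4
    rw [← h5, classInner_def, classInner_def, Nat.card_congr e.toEquiv]
    congr 1
    exact (Fintype.sum_equiv e.toEquiv _ _ fun s => rfl).symm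

theorem Uni8.le {N : ℕ} (h : Uni8 p M F N) (e : S ≃* chevE8.group F) :
    N + nr p M S ≤ x0 p M S := by
  classical
  obtain ⟨χ, h1, h2⟩ := h
  have hfG : Finite ↥(chevE8.group F) := Finite.of_equiv S e.toEquiv
  have hfin : Finite (IrrCharacter S) := finite_irr
  rw [H26.XZ.x0_eq_rr_add_nr]
  refine Nat.add_le_add_right ?_ _
  unfold rr
  obtain ⟨P⟩ : Nonempty (Sylow p S) := inferInstance
  let θ : Fin N → {χ : IrrCharacter S // Mem0 p M χ ∧ H508.XR.PRat p χ} := fun i =>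
    ⟨⟨fun s => (χ i : ↥(chevE8.group F) → ℂ) (e s), isIrr_comp e.toMonoidHom e.surjective (χ i).2⟩,
      mem0_comp e (h2 i).1, (H26.XZ.ratP_iff P _).1 (H687.XR.ratP_of_int P
        (Cfsg.Agent.Blocks.Basic.irr_isCharacter (isIrr_comp e.toMonoidHom e.surjective (χ i).2)) fun g => (h2 i).2.1 _)⟩
  have hθ : Function.Injective θ := by
    intro i j hij
    apply h1
    apply Subtype.ext
    funext g
    have h3 := congrArg (fun t : {χ : IrrCharacter S // Mem0 p M χ ∧ H508.XR.PRat p χ} => (t.1 : S → ℂ) (e.symm g)) hij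
    simpa [θ] using h3
  have h3 := Nat.card_le_card_of_injective θ hθ
  rwa [Nat.card_eq_fintype_card, Fintype.card_fin] at h3

end

/-- **The row `E₈(q)`**, from the lists of members and the counts. -/
theorem row_E8_of {p : ℕ} [Fact p.Prime] {M : Ideal AlgInt} {r : ℕ} [Fact r.Prime] {F : Type} [Field F] [Fintype F]
    [CharP F r] {S : Type u} [Group S] [Finite S] [IsSimpleGroup S] (hrp : r ≠ p) (h11 : 11 ≤ p) (hM : IsPModular p M)
    (e : Nonempty (S ≃* Lie.chevE8.group F)) (hP : ∀ P : Sylow p S, ¬ IsCyclic (P : Subgroup S))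
    (h36 : orderOf ((Fintype.card F : ℕ) : ZMod p) = 3 ∨ orderOf ((Fintype.card F : ℕ) : ZMod p) = 6 → Uni8 p M F 7)
    (h4 : orderOf ((Fintype.card F : ℕ) : ZMod p) = 4 → Uni8 p M F 5)
    (h5 : orderOf ((Fintype.card F : ℕ) : ZMod p) = 5 → p = 11 → 7 ≤ x0 p M ↥(chevE8.group F))
    (h10 : orderOf ((Fintype.card F : ℕ) : ZMod p) = 10 → p = 11 → 7 ≤ x0 p M ↥(chevE8.group F))
    (h12 : orderOf ((Fintype.card F : ℕ) : ZMod p) = 12 → p = 13 → 7 ≤ x0 p M ↥(chevE8.group F))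
    (h5' : orderOf ((Fintype.card F : ℕ) : ZMod p) = 5 → 31 ≤ p → p + 5 ≤ 2 * x0 p M ↥(chevE8.group F))
    (h8' : orderOf ((Fintype.card F : ℕ) : ZMod p) = 8 → 17 ≤ p → p + 5 ≤ 2 * x0 p M ↥(chevE8.group F))
    (h10' : orderOf ((Fintype.card F : ℕ) : ZMod p) = 10 → 31 ≤ p → p + 5 ≤ 2 * x0 p M ↥(chevE8.group F))
    (h12' : orderOf ((Fintype.card F : ℕ) : ZMod p) = 12 → 37 ≤ p → p + 5 ≤ 2 * x0 p M ↥(chevE8.group F)) :
    Row0 p M S := by
  have hpp : p.Prime := Fact.out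
  have hab : AbOut p S := H804.KB.ab_chev hrp (by omega) (Or.inr (Or.inr (Or.inr e)))
  have hpS : p ∣ Nat.card S := H994.KE.dvd_card_of_nc hP
  have hpF : (p : F) ≠ 0 := by
    intro h
    have h1 := (CharP.cast_eq_zero_iff F r p).1 h
    exact hrp ((Nat.prime_dvd_prime_iff_eq (Fact.out : r.Prime) hpp).1 h1)
  have hq : 1 < Fintype.card F := Fintype.one_lt_card
  have hord := H765.KE.ord_E8 (p := p) (r := r) hrp h11 e hP rfl
  obtain ⟨f⟩ := e
  have hx : x0 p M S = x0 p M ↥(chevE8.group F) := H687.XR.x0_equiv f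
  set d := orderOf ((Fintype.card F : ℕ) : ZMod p) with hd
  have hd1 : d ≠ 0 → d ∣ p - 1 := fun h0 => H682.KB.dvd_sub_one hd.symm h0
  have two : d ∣ 2 → Row0 p M S := by
    intro h
    have h2 : p ∣ Fintype.card F ^ 2 - 1 := by
      rw [← CharP.cast_eq_zero_iff (ZMod p) p, Nat.cast_sub (Nat.one_le_pow _ _ (by omega)), sub_eq_zero, Nat.cast_pow,
        Nat.cast_one]
      exact orderOf_dvd_iff_pow_eq_one.1 h
    exact H364.XR.row_of_ab hM hab (H687.XR.x0_E8_12 h11 (Ne.symm hrp) hM h2 f)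
  have ext2 : d ≠ 1 → ExtY p M S 2 := by
    intro h1
    refine H214.XR.extY_E8 hM hrp (fun h => h1 ?_) hpS ⟨f⟩
    rw [hd, orderOf_eq_one_iff, ← sub_eq_zero, ← Nat.cast_one, ← Nat.cast_sub (by omega), CharP.cast_eq_zero_iff (ZMod p) p]
    exact h
  have big : d ≠ 1 → p + 5 ≤ 2 * x0 p M ↥(chevE8.group F) → Row0 p M S := fun h1 h2 =>
    H364.XR.row_of_ext2 hM hab (ext2 h1) (by rw [hx]; exact h2)
  have small : d ≠ 1 → p ≤ 13 → 7 ≤ x0 p M ↥(chevE8.group F) → Row0 p M S := fun h1 h2 h3 =>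
    H364.XR.row_of_ext2_small h2 hM hab (ext2 h1) (by rw [hx]; exact h3)
  have six : d = 3 ∨ d = 6 → Row0 p M S := by
    intro h
    have h7 := h36 h
    have h8 := h7.le f
    have h3 : 3 ∣ p - 1 := by
      rcases h with h | h
      · rw [← h]
        exact hd1 (by omega)
      · exact (show 3 ∣ 6 by norm_num).trans (h ▸ hd1 (by omega))
    have h6 : 6 ∣ p - 1 := by
      have := hpp.eq_two_or_odd
      omega
    rcases Nat.lt_or_ge p 19 with h19 | h19
    · have h13 : p ≤ 13 := by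
        have : p ≠ 15 := by
          rintro rfl
          exact absurd hpp (by norm_num)
        omega
      exact small (by omega) h13 (by rw [← hx]; omega)
    · have h9 := H92.NE.E8.nr36 hM f h19 hpF h
      refine row_of_add hM hab (by norm_num) (h7.extY (r := r) hM f) h8 ?_
      omega
  rcases hord with h | h | h | h | h | h | h | h | h
  · exact two (by rw [h]; norm_num)
  · exact two (by rw [h])
  · exact six (Or.inl h)
  · -- `d = 4`
    have h5 := h4 h
    have h6 := h5.le f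
    have h7 : 4 ∣ p - 1 := h ▸ hd1 (by omega)
    have h13 : 13 ≤ p := by omega
    have h9 := H931.NE.nr4' hM h13 hpF f h
    refine row_of_add hM hab (by norm_num) (h5.extY (r := r) hM f) h6 ?_
    omega
  · have h7 : 5 ∣ p - 1 := h ▸ hd1 (by omega)
    rcases Nat.lt_or_ge p 31 with h31 | h31
    · have h6 : p = 11 := by
        have h10 : 10 ∣ p - 1 := by
          have := hpp.eq_two_or_odd
          omega
        have : p ≠ 21 := by
          rintro rfl
          exact absurd hpp (by norm_num)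
        omega
      exact small (by omega) (by omega) (h5 h h6)
    · exact big (by omega) (h5' h h31)
  · exact six (Or.inr h)
  · have h7 : 8 ∣ p - 1 := h ▸ hd1 (by omega)
    exact big (by omega) (h8' h (by omega))
  · have h7 : 10 ∣ p - 1 := h ▸ hd1 (by omega)
    rcases Nat.lt_or_ge p 31 with h31 | h31
    · have h6 : p = 11 := by
        have : p ≠ 21 := by
          rintro rfl
          exact absurd hpp (by norm_num)
        omega
      exact small (by omega) (by omega) (h10 h h6)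
    · exact big (by omega) (h10' h h31)
  · have h7 : 12 ∣ p - 1 := h ▸ hd1 (by omega)
    rcases Nat.lt_or_ge p 37 with h31 | h31
    · have h6 : p = 13 := by
        have : p ≠ 25 := by
          rintro rfl
          exact absurd hpp (by norm_num)
        omega
      exact small (by omega) (by omega) (h12 h h6)
    · exact big (by omega) (h12' h h31)

end Cfsg.Agent.H703.XZ
end

-- part: H543/XZ/E8ten
section
/-!
# S4791 + S4927: `E₈(q)`, `11 ∣ Φ₁₀(q)` (helper543)

* `qmem_of_mbr`, `qmem_of_mbr2` : the members of `H498` in the form of `H77`;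
* `min10` : the Alvis-Curtis duals of `1, 8, 84` are members of `X₀` for `d = 10`;
* `seven_E8_ten` : the six members `1, 8, 84, St, D 8, D 84` have degrees `1, 2, -3, 1, 2, -3` modulo 11, hence there
    are
  seven.
-/

set_option autoImplicit false
set_option maxRecDepth 100000

namespace Cfsg.Agent.H543.XZ

open Cfsg Cfsg.Lie Cfsg.Agent.H674.XZ Cfsg.Agent.H694.XZ Cfsg.Agent.H35.ExcIdx
open Cfsg.Agent.H77.RK (QMem ParC chkNe exists_of_QMem deg_modEq phL phL_ne dvd_phL remL plE8 qmem_E8)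

universe u

/-- the two evaluations agree -/
theorem evL_eq (q : ℕ) : ∀ L : List ℤ, H498.RP.evL (q : ℚ) L = ((H77.RK.evL (q : ℤ) L : ℤ) : ℚ)
  | [] => by simp [H498.RP.evL, H77.RK.evL]
  | a :: l => by
    rw [H498.RP.evL, H77.RK.evL, evL_eq q l]
    push_cast
    ring

theorem evL_two (q : ℤ) : ∀ L : List ℤ, H77.RK.evL q (H77.RK.smulL 2 L) = 2 * H77.RK.evL q L
  | [] => by simp [H77.RK.smulL, H77.RK.evL]
  | a :: l => by
    rw [H77.RK.smulL, H77.RK.evL, H77.RK.evL, evL_two q l]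
    push_cast
    ring

section

variable {p : ℕ} {M : Ideal AlgInt} {S : Type u} [Group S] {q : ℕ}

theorem qmem_of_mbr {L : List ℤ} (h : H498.RP.Mbr p M S q 1 L) :
    QMem p M q S (fun _ => True) (H77.RK.smulL 2 L) := by
  obtain ⟨χ, h1, h2, h3⟩ := h
  refine ⟨χ, h1, h2, trivial, ?_⟩
  rw [evL_eq, Nat.cast_one, one_mul] at h3
  rw [evL_two]
  have h4 : (charDegree (χ : S → ℂ) : ℤ) = H77.RK.evL (q : ℤ) L := by exact_mod_cast h3
  rw [h4]

theorem qmem_of_mbr2 {L : List ℤ} (h : H498.RP.Mbr p M S q 2 L) :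
    QMem p M q S (fun _ => True) L := by
  obtain ⟨χ, h1, h2, h3⟩ := h
  refine ⟨χ, h1, h2, trivial, ?_⟩
  rw [evL_eq] at h3
  exact_mod_cast h3

end

/-- the degrees of the duals -/
def ml10 : List (List ℤ) :=
[H498.RP.shL 63 [1, 1, 1, 1, 1, 0, 2, 2, 2, 1, 3, 1, 4, 4, 4, 1, 5, 2, 6, 5, 6, 1, 7, 4, 7, 5, 7, 0, 7, 5, 7, 4, 7, 1,
    6, 5, 6, 2, 5, 1, 4, 4, 4, 1, 3, 1, 2, 2, 2, 0, 1, 1, 1, 1, 1, 0, 0, 0],
H77.RK.smulL 2 (H498.RP.shL 91 [1, 0, 0, 0, 0, 0, 1, 0, 0, 0, 1, 0, 1, 0, 0, 0, 1, 0, 1, 0, 0, 0, 1, 0, 0, 0, 0, 0, 1,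
    0]),
    H77.RK.smulL 2 (H498.RP.shL 120 [1])]

/-- all six -/
def dl10 : List (List ℤ) := plE8 10 ++ ml10

theorem dl10_ne : chkNe dl10 = true := H77.RK.chkNe_of_F (by decide +kernel)

/-- the degrees modulo 11 -/
def dg10 : Fin 6 → ℤ := ![1, 2, -3, -3, 2, 1]

theorem dl10_rem : ∀ i : Fin 6, remL (phL 10) (dl10.getD i []) = [2 * dg10 i, 0, 0, 0] := by decide +kernel

theorem two_ne_eleven : (2 : ZMod 11) ≠ 0 := by decide

theorem sq_ten : ∑ i : Fin 6, ((dg10 i : ℤ) : ZMod 11) * ((dg10 i : ℤ) : ZMod 11) ≠ 0 := by decide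

section

variable {K : Type u} [Field K] [Fintype K] {p : ℕ} [hpp : Fact p.Prime] {M : Ideal AlgInt}

/-- the duals -/
theorem min10 (h11 : 11 ≤ p) (hM : IsPModular p M) (hpK : ¬ p ∣ Fintype.card K)
    (hd : orderOf ((Fintype.card K : ℕ) : ZMod p) = 10) :
    ∀ l ∈ ml10, QMem p M (Fintype.card K) ↥((chevE8).group K) (fun _ => True) l := by
  have hJ : ∀ J : Finset (Fin 8), J ≠ Finset.univ → p ∣ (H498.RP.PK hpE8 K J).index := fun J hJ =>
    idx_E8 hpK (by rw [hd]; decide) J hJ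
  intro l hl
  unfold ml10 at hl
  simp only [List.mem_cons, List.not_mem_nil, or_false] at hl
  rcases hl with rfl | rfl | rfl
  · exact qmem_of_mbr2 (H498.RP.E8E7M.m10_4 hM (by omega) hpK (ev10 hd) hJ (card_E8 K))
  · exact qmem_of_mbr (H498.RP.E8E7M.m10_1 hM (by omega) hpK (ev10 hd) hJ (card_E8 K))
  · exact qmem_of_mbr (H498.RP.E8E7M.m10_0 hM (by omega) hpK (ev10 hd) hJ (card_E8 K))

/-- **`E₈(q)`, `11 ∣ Φ₁₀(q)`.** -/
theorem seven_E8_ten (h11 : p = 11) (hM : IsPModular p M) (hpK : (p : K) ≠ 0)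
    (hd : orderOf ((Fintype.card K : ℕ) : ZMod p) = 10) : 7 ≤ x0 p M ↥((chevE8).group K) := by
  have hpK' : ¬ p ∣ Fintype.card K := H116.RatB0.not_dvd_card hpK
  have hq : 2 ≤ Fintype.card K := Fintype.one_lt_card
  have hJ := idx_E8 (K := K) hpK' (by rw [hd]; decide) ∅ (by decide)
  have hpG : p ∣ Nat.card ↥((chevE8).group K) := hJ.trans (Subgroup.index_dvd_card _)
  have hall : ∀ l ∈ dl10, QMem p M (Fintype.card K) ↥((chevE8).group K) (fun _ => True) l := by
    intro l hl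
    rcases List.mem_append.1 hl with h | h
    · exact (qmem_E8 K (by omega) hM hd l h).mono fun _ _ => trivial
    · exact min10 (by omega) hM hpK' hd l h
  obtain ⟨χ, hinj, hχ⟩ := exists_of_QMem hq dl10 hall dl10_ne
  have hlen : dl10.length = 6 := rfl
  subst h11
  refine succ_le (n := 6) hM hpG (fun i => χ (Fin.cast hlen.symm i)) (fun i j hij => ?_) (fun i => (hχ _).1)
    (fun i => ((dg10 i : ℤ) : ZMod 11)) (fun i => ?_) sq_ten
  · exact Fin.cast_injective _ (hinj hij)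
  · obtain ⟨-, -, -, h4⟩ := hχ (Fin.cast hlen.symm i)
    have h5 := deg_modEq (phL_ne 10) (dvd_phL hd (by decide)) (dl10.get (Fin.cast hlen.symm i))
    have h6 : dl10.get (Fin.cast hlen.symm i) = dl10.getD i [] := by
      rw [List.getD_eq_getElem _ _ (by rw [hlen]; exact i.2)]
      rfl
    rw [← h4, h6, dl10_rem i] at h5
    have h7 := (ZMod.intCast_eq_intCast_iff _ _ _).2 h5
    simp only [H77.RK.evL] at h7
    push_cast at h7
    simp only [mul_zero, add_zero] at h7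
    have h8 := two_ne_eleven
    have h9 : (2 : ZMod 11) * ((charDegree (χ (Fin.cast hlen.symm i) : ↥((chevE8).group K) → ℂ) : ℕ) : ZMod 11) =
        2 * ((dg10 i : ℤ) : ZMod 11) := h7
    exact mul_left_cancel₀ h8 h9

end

end Cfsg.Agent.H543.XZ
end

private theorem dce_1712aea871c7 : _root_.True := by
  try have : _root_.True := by simp only [_root_.Cfsg.Agent.H92.NE.E8.rp.eq_1]
  exact _root_.True.intro
end

-- part: H703/XZ/RowE8
section
prune_inst 0x401040004422120000000010c0003c22e200010000230800e0600b460f89ed6089020f2089a0010b40ec008400340048131000c00240000000000000011c01800000040091002008800090001004400000000000000000000000000000000000000000000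
set_option linter.all false
open scoped Cfsg.Agent.FastGrp

-- part: H761/XZ/E8Twelve
section
/-!
# S4791 + S4927, the row `E₈(q)`: `d = 12`, `p = 13` (helper761)

The six members of helper77 have degrees `c / 2` modulo 13 with `Σ c²` not divisible by 13 (helper694's `lt_x0`).
-/

set_option autoImplicit false
set_option maxRecDepth 100000

namespace Cfsg.Agent.H761.XZ

open Cfsg Cfsg.Lie Cfsg.Agent.Characters.Core Cfsg.Agent.H77.RK
open Cfsg.Agent.H674.XZ (Mem0 x0)

universe u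

/-- the degree modulo `p` : the constant term -/
theorem deg_head {p q d : ℕ} [Fact p.Prime] (hd : orderOf ((q : ℕ) : ZMod p) = d) (hdm : d ∈ [3, 4, 5, 6, 8, 10, 12])
    {l : List ℤ} (hl : ((remL (phL d) l).tail.all fun c => decide (c = 0)) = true) :
    evL (q : ℤ) l ≡ (remL (phL d) l).headD 0 [ZMOD p] := by
  refine (deg_modEq (phL_ne d) (dvd_phL hd hdm) l).trans ?_
  generalize remL (phL d) l = m at hl ⊢
  cases m with
  | nil => simp [evL]
  | cons c m =>
    rw [List.tail_cons] at hl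
    rw [evL_cons, evL_of_all_zero _ m hl, mul_zero, add_zero]
    rfl

/-- the residues of a list of doubled degrees -/
def rsL (d : ℕ) (l : List ℤ) : ℤ := (remL (phL d) l).headD 0

/-- **the sum of the squares for a list of members** -/
theorem lt_of_list {p : ℕ} [hpp : Fact p.Prime] {N : Ideal AlgInt} (hN : IsPModular p N) {q d : ℕ} (hq : 2 ≤ q)
    (hd : orderOf ((q : ℕ) : ZMod p) = d) (hdm : d ∈ [3, 4, 5, 6, 8, 10, 12]) {S : Type u} [Group S] [Finite S]
    (hS : p ∣ Nat.card S) {Q : IrrCharacter S → Prop} (DL : List (List ℤ)) (h : ∀ l ∈ DL, QMem p N q S Q l)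
    (hne : chkNe DL = true)
    (ht : ∀ l ∈ DL, ((remL (phL d) l).tail.all fun c => decide (c = 0)) = true)
    (hs : ¬ (p : ℤ) ∣ ∑ i : Fin DL.length, rsL d (DL.get i) * rsL d (DL.get i)) : DL.length < x0 p N S := by
  obtain ⟨χ, hinj, hχ⟩ := exists_of_QMem hq DL h hne
  have h1 := H694.XZ.lt_x0 hN hS χ hinj (fun i => (hχ i).1) (fun hdv => hs ?_)
  · rwa [Fintype.card_fin] at h1
  have h2 : ∀ i, 2 * (charDegree (χ i : S → ℂ) : ℤ) ≡ rsL d (DL.get i) [ZMOD p] := by
    intro i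
    rw [(hχ i).2.2.2]
    exact deg_head hd hdm (ht _ (List.get_mem DL i))
  have h3 : (∑ i, (2 * (charDegree (χ i : S → ℂ) : ℤ)) * (2 * charDegree (χ i : S → ℂ))) ≡
      ∑ i, rsL d (DL.get i) * rsL d (DL.get i) [ZMOD p] := by
    have key : ∀ s : Finset (Fin DL.length), (∑ i ∈ s, (2 * (charDegree (χ i : S → ℂ) : ℤ)) *
        (2 * charDegree (χ i : S → ℂ))) ≡ ∑ i ∈ s, rsL d (DL.get i) * rsL d (DL.get i) [ZMOD p] := by
      classical
      intro s
      induction s using Finset.induction_on with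
      | empty => rfl
      | insert a s ha ih =>
        rw [Finset.sum_insert ha, Finset.sum_insert ha]
        exact ((h2 a).mul (h2 a)).add ih
    exact key _
  have h4 : (∑ i, (2 * (charDegree (χ i : S → ℂ) : ℤ)) * (2 * charDegree (χ i : S → ℂ))) =
      4 * ∑ i, (charDegree (χ i : S → ℂ) : ℤ) * charDegree (χ i : S → ℂ) := by
    rw [Finset.mul_sum]
    exact Finset.sum_congr rfl fun i _ => by ring
  rw [h4] at h3
  exact (Int.modEq_zero_iff_dvd).1 (h3.symm.trans ((Int.modEq_zero_iff_dvd).2 (Dvd.dvd.mul_left hdv 4)))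

theorem dvd_card_E8 {K : Type} [Field K] [Fintype K] {p : ℕ} [hpp : Fact p.Prime]
    (hd : orderOf ((Fintype.card K : ℕ) : ZMod p) = 12) : p ∣ Nat.card ↥(chevE8.group K) := by
  have h1 : p ∣ Fintype.card K ^ 12 - 1 := by
    rw [← CharP.cast_eq_zero_iff (ZMod p) p, Nat.cast_sub (Nat.one_le_pow _ _ Fintype.card_pos), sub_eq_zero, Nat.cast_pow,
      Nat.cast_one, ← hd]
    exact pow_orderOf_eq_one _
  rw [S1065.result (F := K) rfl]
  exact (((((h1.mul_left _).mul_right _).mul_right _).mul_right _).mul_right _).mul_right _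

/-- **`E₈(q)`, `q` of order 12 modulo 13** -/
theorem x0_E8_twelve {K : Type} [Field K] [Fintype K] {p : ℕ} [hpp : Fact p.Prime] {N : Ideal AlgInt}
    (hN : IsPModular p N) (hd : orderOf ((Fintype.card K : ℕ) : ZMod p) = 12) (hp : p = 13) :
    7 ≤ x0 p N ↥(chevE8.group K) := by
  have h1 := lt_of_list hN Fintype.one_lt_card hd (by decide) (dvd_card_E8 hd) (plE8 12)
    (qmem_E8 K (by omega) hN hd) plE8_ne.2.2.2.2.2.2 (by decide +kernel) (by
      subst hp
      decide +kernel)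
  have h2 : (plE8 12).length = 6 := rfl
  omega

end Cfsg.Agent.H761.XZ
end

-- part: H703/XZ/RowE8a
section
/-!
# S4791 + S4927, the row `E₈(q)`: the orders 8, 12 and 5, 10 with `p ≥ 31` (helper703)
-/

set_option autoImplicit false

namespace Cfsg.Agent.H703.XZ

open Cfsg Cfsg.Lie
open Cfsg.Agent.H674.XZ Cfsg.Agent.H668.XZ

universe u

/-- **The row `E₈(q)`** from four inputs. -/
theorem row_E8_of4 {p : ℕ} [Fact p.Prime] {M : Ideal AlgInt} {r : ℕ} [Fact r.Prime] {F : Type} [Field F] [Fintype F]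
    [CharP F r] {S : Type u} [Group S] [Finite S] [IsSimpleGroup S] (hrp : r ≠ p) (h11 : 11 ≤ p) (hM : IsPModular p M)
    (e : Nonempty (S ≃* Lie.chevE8.group F)) (hP : ∀ P : Sylow p S, ¬ IsCyclic (P : Subgroup S))
    (h36 : orderOf ((Fintype.card F : ℕ) : ZMod p) = 3 ∨ orderOf ((Fintype.card F : ℕ) : ZMod p) = 6 → Uni8 p M F 7)
    (h4 : orderOf ((Fintype.card F : ℕ) : ZMod p) = 4 → Uni8 p M F 5)
    (h5 : orderOf ((Fintype.card F : ℕ) : ZMod p) = 5 → p = 11 → 7 ≤ x0 p M ↥(chevE8.group F))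
    (h10 : orderOf ((Fintype.card F : ℕ) : ZMod p) = 10 → p = 11 → 7 ≤ x0 p M ↥(chevE8.group F)) :
    Row0 p M S := by
  have hpp : p.Prime := Fact.out
  have hpF : (p : F) ≠ 0 := by
    intro h
    have h1 := (CharP.cast_eq_zero_iff F r p).1 h
    exact hrp ((Nat.prime_dvd_prime_iff_eq (Fact.out : r.Prime) hpp).1 h1)
  exact row_E8_of hrp h11 hM e hP h36 h4 h5 h10 (fun h hp => H761.XZ.x0_E8_twelve hM h hp)
    (fun h h31 => (H208.XR.x0_D5 hM h11 hpF h (MulEquiv.refl _)).1 (by omega))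
    (fun h _ => H208.XR.x0_D8 hM h11 hpF h (MulEquiv.refl _))
    (fun h h31 => (H208.XR.x0_D10 hM h11 hpF h (MulEquiv.refl _)).1 (by omega))
    (fun h h31 => H208.XR.x0_D12 hM h11 hpF h (MulEquiv.refl _) (fun h13 => by omega))

end Cfsg.Agent.H703.XZ
end

-- part: H230/XZ/A12
section
/-!
# `E₈`, node `6`: the constituent of degree `1344` (helper230, for S4791 + S4927; data made by a program)

`Ea12.C` (helper790): the constituent `1/2 q^7 P2^4 P4^2 P6^2 P7 P8 P9 P10^2 P12 P14 P18 P20 P24 P30` of the permutation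
character on the lines (node `6`, 6720 states, 26 classes).

* `same_84_1344`: for the primes dividing `Φ₅(q)` it is in the block of the constituent of degree `84` (node `7`);
* `deg_mod`: its degree is `4` modulo these primes;
* `same_1_84`, `deg_mod84`: the constituent of degree `84` is in the principal block and its degree is `-1`.
-/

set_option autoImplicit false
set_option maxRecDepth 20000

namespace Cfsg.Agent.H230.XZ.A12

open Cfsg Cfsg.Agent.H967.Sph Cfsg.Agent.H64.Dl.Sph Cfsg.Agent.H996.Eight Cfsg.Agent.H996.Eight.Cert Cfsg.Agent.H996.PQ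
  Cfsg.Agent.H996.PQ.Kr Cfsg.Agent.H594.PQ Cfsg.Agent.H790.PQ
open CoxeterSystem Cfsg.Agent.ChevalleyStructure.CoxeterGeom Cfsg.Agent.Tits.Roots Cfsg.Agent.Tits.Core
  Cfsg.Agent.Nodes.Reps Cfsg.Agent.Nodes.BNOf Cfsg.Agent.Nodes.Bruhat Cfsg.Agent.Nodes.LeviDec

universe u

def lamL : List (List ℤ) := [[1], [-1, -1, 0, 0, -1, -1, 0, 0, -1], [0, 1, 0, 0, 1, 1, 0, 0, 1], [0, 0, 0, 0, 1, 1, 0, 0, 1, 0, 0, 0, 1], [0, 0, 0, 0, -1, -1, 0, 0, -1, 1, 1, 0, 0, 2, 0, 0, 0, 0, -1], [0, 0, 0, 0, 0, 0, 0, 0, 0, -1, -1, 0, -1, -2, 0, 0, -1, 0, 1, 0, 0, 1], [0, 0, 0, 0, 0, 0, 0, 0, 0, -1, -1, 0, -1, -2, 0, 0, -1, 0, 1, 0, 0, 1], [0, 0, 0, 0, 0, 0, 0, 0, 0, 0, -1, 0, 0, -1, 0, 0, 0, 0, 1], [0, 0, 0, 0, 0, 0, 0, 0, 0, 1, 2, 1, 1, 3, 1, 0, 1, 0, -2, -1, 0, -2, -1], [0, 0, 0, 0, 0, 0, 0, 0, 0, 0, 0, 0, -1], [0, 0, 0, 0, 0, 0, 0, 0, 0, 0, 0, -1, 0, 0, -1, 0, 1, 0, 0, 2, 0, 0, 1, 0, -1, 0, 0, -1], [0, 0, 0, 0, 0, 0, 0, 0, 0, 0, 0, 0, 1, 0, 0, 0, 1, 0,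 0, 0, 0, -1], [0, 0, 0, 0, 0, 0, 0, 0, 0, 0, 0, 0, 1, 0, 0, 0, 1, 0, 0, 0, 0, -1], [0, 0, 0, 0, 0, 0, 0, 0, 0, 0, 0, 0, -1, 0, 0, 0, -1, 2, 0, 0, 0, 2, -1, 0, 0, 0, -1], [0, 0, 0, 0, 0, 0, 0, 0, 0, 0, 0, 0, 0, 0, 0, 0, -1, -2, 0, -1, -2, 0, 1, 0, 1, 3, 1, 1, 2, 1], [0, 0, 0, 0, 0, 0, 0, 0, 0, 0, 0, 0, 0, 0, 0, 0, 0, -1, 0, 0, 0, 0, 1, 0, 0, 0, 1], [0, 0, 0, 0, 0, 0, 0, 0, 0, 0, 0, 0, 0, 0, 0, 0, 0, -1, 0, 0, 0, 0, 1, 0, 0, 0, 1], [0, 0, 0, 0, 0, 0, 0, 0, 0, 0, 0, 0, 0, 0, 0, 0, 0, 1, 0, 0, 1, 0, -1, 0, 0, -2, -1, 0, -1, -1], [0, 0, 0, 0, 0, 0, 0, 0, 0, 0, 0, 0, 0, 0, 0, 0, 0, 1, 0, 0, 1, 0, -1, 0, 0, -2, -1, 0, -1, -1], [0, 0, 0, 0, 0, 0, 0, 0, 0, 0, 0, 0, 0, 0, 0, 0, 0, 0, 0, 0, 1, 0, 0, 0, 0, -1, 0, 0, -1], [0, 0, 0, 0, 0, 0, 0, 0, 0, 0, 0, 0, 0, 0, 0, 0, 0, 0, 0, 0, -1, 0, 0, 0, 0, 2, 0, 0, 1, 1, -1, 0, 0, -1, -1], [0, 0, 0, 0, 0, 0, 0, 0, 0, 0, 0, 0, 0, 0, 0, 0, 0, 0, 0, 0, 0, 0, 0, 0, 0, 0, 0, 0, 0, 0, 1, 0, 0, 1, 1, 0, 0, 1],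 [0, 0, 0, 0, 0, 0, 0, 0, 0, 0, 0, 0, 0, 0, 0, 0, 0, 0, 0, 0, 0, 0, 0, 0, 0, 0, -1], [0, 0, 0, 0, 0, 0, 0, 0, 0, 0, 0, 0, 0, 0, 0, 0, 0, 0, 0, 0, 0, 0, 0, 0, 0, 0, 1, 0, 0, 0, 1, 0, 0, 1, 1], [0, 0, 0, 0, 0, 0, 0, 0, 0, 0, 0, 0, 0, 0, 0, 0, 0, 0, 0, 0, 0, 0, 0, 0, 0, 0, 0, 0, 0, 0, -1, 0, 0, -1, -1, 0, 0, -1, -1], [0, 0, 0, 0, 0, 0, 0, 0, 0, 0, 0, 0, 0, 0, 0, 0, 0, 0, 0, 0, 0, 0, 0, 0, 0, 0, 0, 0, 0, 0, 0, 0, 0, 0, 0, 0, 0, 0, 1]]

/-- the eigenvalues of the class sums -/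
def lam (c : Fin 26) : List ℤ := lamL.getD c []

def ddL : List (List ℤ) := [[], [0, 0, 0, 0, 0, -1, 0, 0, 0, -1], [0, 0, 0, 0, 0, 1, 0, 0, 1, 1, 0, 0, 1], [0, 0, 0, 0, 0, 1, 0, 0, 0, 1, 0, 0, 0, 1, -1], [0, 0, 0, 0, 0, -1, 0, 0, -1, -2, 1, 0, -1, 0, 1, 0, 0, 1], [0, 0, 0, 0, 0, 0, 0, 0, 0, 0, -1, 0, 0, -2, 0, 0, -1, -1, 1, 0, -1, 1], [0, 0, 0, 0, 0, 0, 0, 0, 0, 0, -1, 0, 0, -2, 0, 0, -1, -1, 1, 0, -1, 1], [0, 0, 0, 0, 0, 0, 0, 0, 0, 1, -1], [0, 0, 0, 0, 0, 0, 0, 0, 0, 0, 2, 1, 0, 3, 1, 0, 1, 1, -2, -1, 1, -2, -1], [0, 0, 0, 0, 0, 0, 0, 0, 0, 0, 0, 0, 0, -1, 1], [0, 0, 0, 0, 0, 0, 0, 0, 0, 0, 0, -1, 0, 0, -1, 0, 1, 0, 0, 2, 0, 0, 1, 0, -1, 0, 0, -1], [0, 0, 0, 0, 0, 0, 0, 0, 0, 0, 0, 0, 0, 1, -1, 0, 1, 0, -1, 0, 1, -1], [0, 0, 0, 0, 0, 0, 0, 0, 0, 0, 0, 0, 0, 1, -1, 0, 1, 0, -1, 0, 1, -1], [0, 0, 0, 0, 0, 0, 0, 0, 0, 0, 0, 0, 0, -1, 1, 0, -1, 2, 2, -1, -1, 4, -1, 0, 0, 1, -2, 1], [0, 0, 0, 0, 0, 0, 0, 0, 0, 0, 0, 0, 0, 0, 0, 0, -1,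 -2, 0, 0, -2, 0, 2, 0, 1, 3, 1, 0, 2, 1, -1], [0, 0, 0, 0, 0, 0, 0, 0, 0, 0, 0, 0, 0, 0, 0, 0, 0, -1, 0, 1, 0, -1, 1, 0, 0, -1, 2, -1], [0, 0, 0, 0, 0, 0, 0, 0, 0, 0, 0, 0, 0, 0, 0, 0, 0, -1, 0, 1, 0, -1, 1, 0, 0, -1, 2, -1], [0, 0, 0, 0, 0, 0, 0, 0, 0, 0, 0, 0, 0, 0, 0, 0, 0, 1, 0, -1, 1, 0, -2, 0, 0, -2, -1, 1, -1, -1, 1], [0, 0, 0, 0, 0, 0, 0, 0, 0, 0, 0, 0, 0, 0, 0, 0, 0, 1, 0, -1, 1, 0, -2, 0, 0, -2, -1, 1, -1, -1, 1], [0, 0, 0, 0, 0, 0, 0, 0, 0, 0, 0, 0, 0, 0, 0, 0, 0, 0, 0, 0, 1, -1, 0, 0, 0, -1, 1, 0, -1, 0, 1], [0, 0, 0, 0, 0, 0, 0, 0, 0, 0, 0, 0, 0, 0, 0, 0, 0, 0, 0, 0, -1, 1, 1, 0, 0, 3, -2, -1, 1, 1, -4, 0, 0, -1, -1, 1], [0, 0, 0, 0, 0, 0, 0, 0, 0, 0, 0, 0, 0, 0, 0, 0, 0, 0, 0, 0, 0, 0, 0, 0, 0, 0, 0, 1, 0, 0, 2, 0, 0, 1, 1, -1, 0, 1, -1], [0, 0, 0, 0, 0, 0, 0, 0, 0, 0, 0, 0, 0, 0, 0, 0, 0, 0, 0, 0, 0, 0, 0, 0, 0, 1, -2, 1], [0, 0, 0, 0, 0, 0, 0, 0, 0, 0, 0, 0, 0, 0, 0, 0, 0, 0, 0, 0, 0, 0, 0, 0, 0, -1, 2, -1, 0, 0,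 2, -1, 0, 1, 1, -1], [0, 0, 0, 0, 0, 0, 0, 0, 0, 0, 0, 0, 0, 0, 0, 0, 0, 0, 0, 0, 0, 0, 0, 0, 0, 0, 0, 0, 0, 0, -2, 1, 0, -1, -1, 1, 0, -1, 0, 1], [0, 0, 0, 0, 0, 0, 0, 0, 0, 0, 0, 0, 0, 0, 0, 0, 0, 0, 0, 0, 0, 0, 0, 0, 0, 0, 0, 0, 0, 0, 0, 0, 0, 0, 0, 0, 0, 0, 1, -1]]

def dd (c : Fin 26) : List ℤ := ddL.getD c []

theorem hlam : ∀ c, pEq (pMul (lam c) (Ea12.C.nu 0)) (pMul (TabE8c.kk c) (Ea12.C.nu c)) = true := by (simp only [Cfsg.Agent.H996.Eight.Kq.pEq_eq]; decide +kernel)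

theorem hdd : ∀ c, pEq (lam c) (pAdd (LinkE8.lam c) (pMul [1, 1, 1, 1, 1] (dd c))) = true := by (simp only [Cfsg.Agent.H996.Eight.Kq.pEq_eq]; decide +kernel)

def qq : List ℤ := [-8, 8, 0, 0, 0, -8, 8, 1, 0, 0, -7, 8, 2, 2, 0, -6, 10, 3, 4, 3, -5, 11, 8, 6, 5, 0, 12, 10, 13, 7, 2, 17, 12, 15, 14, 4, 16, 18, 17, 14, 10, 16, 15, 22, 15, 8, 18, 14, 17, 18, 8, 12, 14, 15, 12, 9, 10, 7, 13, 10, 4, 8, 5, 6, 8, 3, 3, 3, 4, 3, 2, 2, 0, 2, 2, 0, 1, 0, 0, 1]

theorem hdn : pEq Ea12.C.dn (pAdd [8] (pMul [1, 1, 1, 1, 1] qq)) = true := by (simp only [Cfsg.Agent.H996.Eight.Kq.pEq_eq]; decide +kernel)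

/-! ### the constituent of degree `84` of node `7` -/

def lamP (c : Fin 5) : List ℤ := ([[1], [-1, 0, 0, 0, 0, -1, 0, 0, 0, -1, 0, 0, 0, 0, -1], [0, 0, 0, 0, 0, 1, 0, 0, 0, 1, 0, 0, 0, 1, 1, 0, 0, 0, 1, 0, 0, 0, 1], [0, 0, 0, 0, 0, 0, 0, 0, 0, 0, 0, 0, 0, -1, 0, 0, 0, 0, -1, 0, 0, 0, -1, 0, 0, 0, 0, -1], [0, 0, 0, 0, 0, 0, 0, 0, 0, 0, 0, 0, 0, 0, 0, 0, 0, 0, 0, 0, 0, 0, 0, 0, 0, 0, 0, 1]] : List (List ℤ)).getD c []

def eP (c : Fin 5) : List ℤ := ([[], [1, 0, 0, 0, 0, 2, 0, 0, 0, 1, 2, 0, 0, 0, 2, 1, 0, 0, 0, 2, 0, 0, 0, 0, 1], [0, 0, 0, 0, 0, -1, 1, 0, 0, -1, 0, 1, 1, -1, -1, 1, 2, 1, -1, 0, 2, 2, 1, 0, 1, 2, 2, 1, 1, 1, 1, 2, 1, 1, 0, 1, 1, 1, 0, 0, 0, 1], [0, 0, 0, 0, 0, 0, 0, 0, 0, 0, 0, 0, 0, 1, -1, 0, 0, 0, 2, -2, 0, 0, 1, 1, -2, 0, 0, 2, 0, -1, 0, 0, 2, 0, 0, 0, 0, 2, 1, 0, 0, 0, 2, 1, 0, 0, 0, 2, 0, 0, 0, 0, 1], [0, 0, 0, 0, 0, 0, 0, 0, 0, 0, 0, 0, 0, 0, 0, 0, 0, 0, 0, 0, 0, 0, 0, 0, 0, 0, 0, -1, 1, 0, 0, 0, -1, 1, 0, 0,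 0, -1, 1, 0, 0, 0, -1, 1, 0, 0, 0, -1, 1, 0, 0, 0, -1, 1]] : List (List ℤ)).getD c []

theorem hlamP : ∀ c, pEq (pMul (lamP c) (TabE8a.c3.nu 0)) (pMul (TabE8a.data.kk c) (TabE8a.c3.nu c)) = true := by
  (simp only [Cfsg.Agent.H996.Eight.Kq.pEq_eq]; decide +kernel)

theorem heP : ∀ c, pEq (TabE8a.data.kk c) (pAdd (lamP c) (pMul [1, 1, 1, 1, 1] (eP c))) = true := by (simp only [Cfsg.Agent.H996.Eight.Kq.pEq_eq]; decide +kernel)

def q3 : List ℤ := [2, -2, 0, 1, 0, 2, -2, 0, 0, 2, 2, -2, -1, 2, 0, 5, -2, -1, -1, 4, 2, 2, -2, 0, -1, 8, -1, 1, -2, 1, 1, 6, -1, 0, -2, 4, 0, 4, -1, -1, 0, 3, 0, 2, -1, 0, 0, 2, 0, 0, 0, 0, 0, 1]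

theorem hdn3 : pEq TabE8a.c3.dn (pAdd [-2] (pMul [1, 1, 1, 1, 1] q3)) = true := by (simp only [Cfsg.Agent.H996.Eight.Kq.pEq_eq]; decide +kernel)

theorem hcls8 : TabE8a.data.t.cls TabE8a.data.t.o = 0 := by decide +kernel

theorem pos84 : pPos (TabE8a.c3.nu 0) = true := by (simp only [Cfsg.Agent.H996.Eight.Kq.pPos_eq]; decide +kernel)

theorem posd84 : pPos TabE8a.c3.dn = true := by (simp only [Cfsg.Agent.H996.Eight.Kq.pPos_eq]; decide +kernel)

theorem e8_eq : ∀ i, TabE8a.data.e i = 1 := by decide +kernel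

section Link

variable {W : Type*} {Y : Type u} [Group W] [Finite W] [Group Y] [Finite Y]
    {M : CoxeterMatrix (Fin 8)} {cs : CoxeterSystem M W} {h : IsCartan M TabE8c.A} {p : ℕ} {T : Subgroup Y}
    {n : Fin 8 → Y} {X : (Fin 8 → ℤ) → Subgroup Y}

theorem lam_eq {x : ℕ} (hx : 2 ≤ x) (c : Fin 26) :
    ev x (TabE8c.data.kk c) * (ev (x : ℚ) (Ea12.C.nu c) / ev x (Ea12.C.nu 0)) = ev x (lam c) := by
  have hx' : (2 : ℚ) ≤ (x : ℚ) := by exact_mod_cast hx
  have h1 := ev_of_pEq (x : ℚ) (hlam c)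
  rw [ev_pMul, ev_pMul] at h1
  have h2 := (ev_pos hx' Ea12.ok.1).ne'
  rw [← mul_div_assoc, div_eq_iff h2, show TabE8c.data.kk c = TabE8c.kk c from rfl, h1]

/-- **The link modulo `Φ₅`.** -/
theorem same_84_1344 (R : RGD cs h p T n X) (hG : GG cs h T X = ⊤) {x : ℕ} (hx : 2 ≤ x)
    (hq : ∀ i, Nat.card (X (sr i)) = x) {χ χ' : Y → ℂ} {d d' : ℕ} {a : Fin 5 → ℚ}
    (H : HasVal R hG tabP χ d a) {r : ℚ} (hr : r ≠ 0) (hf : ∀ c, a c = r * ev x (TabE8a.c3.nu c))
    (H' : HasVal R hG TabE8c.data.t χ' d' (fun c => ev x (Ea12.C.nu c) / ev x (Ea12.C.nu 0)))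
    {l : ℕ} (hl : l.Prime) (hd : (l : ℤ) ∣ evZ x [1, 1, 1, 1, 1]) {M' : Ideal AlgInt} (hM : IsPModular l M') :
    SameBlock M' χ χ' := by
  obtain ⟨K, h1, h2⟩ := exists_kernel R hG hx hq H hf
  refine sameBlock_of_iso R hG TabE8c.data.t (fun i => x ^ TabE8c.data.e i)
    (fun i => by rw [e_eq, pow_one]; exact hq i) (fun s => x ^ TabE8c.data.wl s) (by simp only [TabE8c.data.wo, pow_zero])
    (fun i s h9 => by
      show x ^ TabE8c.data.wl (TabE8c.data.t.st i s) = x ^ TabE8c.data.e i * x ^ TabE8c.data.wl s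
      rw [TabE8c.data.ws i s h9, pow_add]) (fun g y => h1 g y) h2 ?_ H' hM fun c => ?_
  · rw [cls_o]
    exact LinkE8.k2v_ne hf hr hx
  · have hK : (∑ s, if TabE8c.data.t.cls s = c then ((x ^ TabE8c.data.wl s : ℕ) : ℚ) else 0) = ev x (TabE8c.data.kk c) := by
      rw [← ChkK.spec (x : ℚ) TabE8c.data.chkK c, Finset.sum_filter]
      refine Finset.sum_congr rfl fun s _ => ?_
      push_cast
      rfl
    rw [hK, cls_o]
    have hx' : (2 : ℚ) ≤ (x : ℚ) := by exact_mod_cast hx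
    have hkk : ∀ c, ev (x : ℚ) (TabE8c.data.kk c) ≠ 0 := fun c => (ev_pos hx' (TabE8c.data.chkP c)).ne'
    obtain ⟨u, v, hv, h3⟩ := LinkE8.cong hf hr hx hl hd
      (a := fun c => ev x (LinkE8.lam c) / ev x (TabE8c.data.kk c)) (fun c => by rw [mul_div_cancel₀ _ (hkk c)]) c
    obtain ⟨w, hw⟩ := hd
    refine ⟨u - v * w * evZ x (dd c), v, hv, ?_⟩
    have h4 := ev_of_pEq (x : ℚ) (hdd c)
    rw [ev_pAdd, ev_pMul] at h4
    have e1 := evZ_cast x (dd c)
    have e2 := evZ_cast x [1, 1, 1, 1, 1]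
    push_cast at e1 e2
    rw [hw] at e2
    push_cast at e2
    have h5 := lam_eq hx c
    rw [mul_sub, mul_div_cancel₀ _ (hkk c)] at h3
    rw [mul_sub, h5, h4, ← e2, ← e1]
    push_cast
    linear_combination h3

/-- the degree modulo the primes dividing `Φ₅(q)` -/
theorem deg_mod {x : ℕ} (hx : 2 ≤ x) {l : ℕ} (hl2 : l.Coprime 2) (hd : (l : ℤ) ∣ evZ x [1, 1, 1, 1, 1]) :
    (l : ℤ) ∣ (val Ea12.C.den Ea12.C.dn x : ℤ) - 4 := by
  have h1 := val_spec (den := Ea12.C.den) two_pos Ea12.dvd Ea12.ok.2.1 hx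
  have h2 := ev_of_pEq (x : ℚ) hdn
  rw [ev_pAdd, ev_pMul, ev_cons, ev_nil] at h2
  obtain ⟨w, hw⟩ := hd
  have e1 := evZ_cast x qq
  have e2 := evZ_cast x [1, 1, 1, 1, 1]
  have e3 : ((Ea12.C.den : ℕ) : ℚ) = 2 := by
    show ((2 : ℕ) : ℚ) = 2
    norm_num
  rw [e3] at h1
  push_cast at e1 e2 h1 h2
  rw [hw] at e2
  push_cast at e2
  have h3 : (2 : ℤ) * ((val Ea12.C.den Ea12.C.dn x : ℤ) - 4) = l * (w * evZ x qq) := by
    have h4 : ((2 * ((val Ea12.C.den Ea12.C.dn x : ℤ) - 4) : ℤ) : ℚ) = ((l * (w * evZ x qq) : ℤ) : ℚ) := by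
      push_cast
      rw [e1]
      linear_combination h1 + h2 - ev (x : ℚ) qq * e2
    exact_mod_cast h4
  have h5 : IsCoprime (l : ℤ) 2 := by exact_mod_cast Nat.isCoprime_iff_coprime.2 hl2
  exact h5.dvd_of_dvd_mul_left (h3 ▸ dvd_mul_right _ _)

/-- **`84` is in the principal block** for the primes dividing `Φ₅(q)`. -/
theorem same_1_84 {h' : IsCartan M TabE8a.A} (R : RGD cs h' p T n X) (hG : GG cs h' T X = ⊤) {x : ℕ} (hx : 2 ≤ x)
    (hq : ∀ i, Nat.card (X (sr i)) = x) {χ : Y → ℂ} {d : ℕ}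
    (H : HasVal R hG TabE8a.data.t χ d (fun c => ev x (TabE8a.c3.nu c) / ev x (TabE8a.c3.nu 0)))
    {l : ℕ} (hd : (l : ℤ) ∣ evZ x [1, 1, 1, 1, 1]) {M' : Ideal AlgInt} (hM : IsPModular l M') :
    SameBlock M' (1 : Y → ℂ) χ := by
  have hx' : (2 : ℚ) ≤ (x : ℚ) := by exact_mod_cast hx
  refine HasVal.sameBlock R hG TabE8a.data.t (fun i => x ^ TabE8a.data.e i)
    (fun i => by rw [e8_eq, pow_one]; exact hq i) (fun s => x ^ TabE8a.data.wl s)
    (by simp only [TabE8a.data.wo, pow_zero])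
    (fun i s h9 => by
      show x ^ TabE8a.data.wl (TabE8a.data.t.st i s) = x ^ TabE8a.data.e i * x ^ TabE8a.data.wl s
      rw [TabE8a.data.ws i s h9, pow_add]) (HasVal.trivial R hG TabE8a.data.t) H hM fun c => ?_
  have hK : (∑ s, if TabE8a.data.t.cls s = c then ((x ^ TabE8a.data.wl s : ℕ) : ℚ) else 0) = ev x (TabE8a.data.kk c) := by
    rw [← ChkK.spec (x : ℚ) TabE8a.data.chkK c, Finset.sum_filter]
    refine Finset.sum_congr rfl fun s _ => ?_
    push_cast
    rfl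
  rw [hK]
  obtain ⟨w, hw⟩ := hd
  refine ⟨w * evZ x (eP c), ?_⟩
  have h1 := ev_of_pEq (x : ℚ) (hlamP c)
  have h2 := ev_of_pEq (x : ℚ) (heP c)
  rw [ev_pMul, ev_pMul] at h1
  rw [ev_pAdd, ev_pMul] at h2
  have e1 := evZ_cast x (eP c)
  have e2 := evZ_cast x [1, 1, 1, 1, 1]
  push_cast at e1 e2
  rw [hw] at e2
  push_cast at e2
  have h3 := (ev_pos hx' pos84).ne'
  have h4 : ev x (TabE8a.data.kk c) * (ev (x : ℚ) (TabE8a.c3.nu c) / ev x (TabE8a.c3.nu 0)) = ev x (lamP c) := by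
    rw [← mul_div_assoc, div_eq_iff h3, h1]
  push_cast
  rw [mul_sub, mul_one, h4, h2, ← e2, ← e1]
  ring

/-- the degree of `84` modulo the primes dividing `Φ₅(q)` -/
theorem deg_mod84 {x : ℕ} (hx : 2 ≤ x) {l : ℕ} (hl2 : l.Coprime 2) (hd : (l : ℤ) ∣ evZ x [1, 1, 1, 1, 1]) :
    (l : ℤ) ∣ (val TabE8a.c3.den TabE8a.c3.dn x : ℤ) + 1 := by
  have h1 := val_spec (den := TabE8a.c3.den) two_pos TabE8a.dvd3 posd84 hx
  have h2 := ev_of_pEq (x : ℚ) hdn3
  rw [ev_pAdd, ev_pMul, ev_cons, ev_nil] at h2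
  obtain ⟨w, hw⟩ := hd
  have e1 := evZ_cast x q3
  have e2 := evZ_cast x [1, 1, 1, 1, 1]
  have e3 : ((TabE8a.c3.den : ℕ) : ℚ) = 2 := by
    show ((2 : ℕ) : ℚ) = 2
    norm_num
  rw [e3] at h1
  push_cast at e1 e2 h1 h2
  rw [hw] at e2
  push_cast at e2
  have h3 : (2 : ℤ) * ((val TabE8a.c3.den TabE8a.c3.dn x : ℤ) + 1) = l * (w * evZ x q3) := by
    have h4 : ((2 * ((val TabE8a.c3.den TabE8a.c3.dn x : ℤ) + 1) : ℤ) : ℚ) = ((l * (w * evZ x q3) : ℤ) : ℚ) := by
      push_cast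
      rw [e1]
      linear_combination h1 + h2 - ev (x : ℚ) q3 * e2
    exact_mod_cast h4
  have h5 : IsCoprime (l : ℤ) 2 := by exact_mod_cast Nat.isCoprime_iff_coprime.2 hl2
  exact h5.dvd_of_dvd_mul_left (h3 ▸ dvd_mul_right _ _)

end Link

end Cfsg.Agent.H230.XZ.A12
end

-- part: H230/XZ/E8five
section
/-!
# `E₈(q)`, `q` of order 5 modulo 11: seven members of `X₀` (helper230, for S4791 and S4927)

* `mbr_84`, `mbr_1344` : the members of degrees `84` and `1344` (`q = 1`) for every prime `l > 5`, `l ∣ Φ₅(q)`;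
* `seven_E8_5` : `7 ≤ x0 11 M (chevE8.group K)` for `11 ∣ Φ₅(q)`. The members `1, 84, 1344, D 84, St` have degrees
  `1, -1, 4, -1, 1` modulo 11; the sum of the squares is `9`; a sixth member exists; `-9` is not a square.
-/

set_option autoImplicit false
set_option linter.unusedSectionVars false

namespace Cfsg.Agent.H230.XZ.E8five

open Cfsg Cfsg.Agent.H967.Sph Cfsg.Agent.H64.Dl.Sph Cfsg.Agent.H996.Eight Cfsg.Agent.H996.Eight.Cert
  Cfsg.Agent.H996.PQ Cfsg.Agent.H790.PQ Cfsg.Agent.H594.PQ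
open CoxeterSystem Cfsg.Agent.ChevalleyStructure.CoxeterGeom Cfsg.Agent.Tits.Roots Cfsg.Agent.Tits.Core
  Cfsg.Agent.Nodes.Reps Cfsg.Agent.Nodes.BNOf Cfsg.Agent.Nodes.Bruhat Cfsg.Agent.Nodes.LeviDec
open Cfsg.Agent.H498.RP (Mbr evL evL_nil evL_cons)

universe u

theorem evL_eq (x : ℚ) : ∀ L : List ℤ, evL x L = ev x L
  | [] => by rw [evL_nil, ev_nil]
  | a :: L => by rw [evL_cons, ev_cons, evL_eq x L]

section Plus

variable {I W : Type*} {Y : Type u} [Fintype I] [DecidableEq I] [Group W] [Finite W] [Group Y] [Finite Y]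
    {M : CoxeterMatrix I} {cs : CoxeterSystem M W} {A : I → I → ℤ} {h : IsCartan M A} {p : ℕ} {T : Subgroup Y}
    {n : I → Y} {X : (I → ℤ) → Subgroup Y} (R : RGD cs h p T n X) (hG : GG cs h T X = ⊤)
    {j : I} {N m : ℕ} (t : Tab A j N m)

/-- a constituent in the principal block, of degree prime to `l` -/
theorem mbr_of_hasVal {χ : Y → ℂ} {d : ℕ} {a : Fin m → ℚ} (H : HasVal R hG t χ d a) {l : ℕ} (hlp : l.Prime)
    {M' : Ideal AlgInt}
    (hb : SameBlock M' (fun _ : Y => (1 : ℂ)) χ) (hl : ¬ l ∣ d) {x e : ℕ} {L : List ℤ} (he : (e : ℚ) * d = ev x L) :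
    Mbr l M' Y x e L := by
  have hlp : Fact l.Prime := ⟨hlp⟩
  obtain ⟨v, hv⟩ := H.exists_int
  have h1 : charDegree χ = d := Blocks.Basic.charDegree_of_eq H.one
  refine ⟨⟨χ, H.irr⟩, ⟨hb, ?_, H674.XZ.alm_of_rat fun g => ⟨v g, ?_⟩⟩, fun g => ⟨v g, hv g⟩, ?_⟩
  · show ¬ l ∣ charDegree χ
    rw [h1]; exact hl
  · show χ g = _
    rw [hv]; push_cast; rfl
  · show (e : ℚ) * charDegree χ = _
    rw [h1, evL_eq]; exact he

end Plus

section E8

variable {W : Type*} {Y : Type u} [Group W] [Finite W] [Group Y] [Finite Y]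
    {M : CoxeterMatrix (Fin 8)} {cs : CoxeterSystem M W} {p : ℕ} {T : Subgroup Y}
    {n : Fin 8 → Y} {X : (Fin 8 → ℤ) → Subgroup Y}

/-- the constituent of degree `84` at node 7 -/
theorem exists_84 {h : IsCartan M TabE8a.A} (R : RGD cs h p T n X) (hG : GG cs h T X = ⊤) {x : ℕ} (hx : 2 ≤ x)
    (hq : ∀ i, Nat.card (X (sr i)) = x ^ TabE8a.data.e i) :
    ∃ χ : Y → ℂ, HasVal R hG TabE8a.data.t χ (val TabE8a.c3.den TabE8a.c3.dn x)
      (fun c => ev x (TabE8a.c3.nu c) / ev x (TabE8a.c3.nu 0)) := by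
  have h1 := exists_crt R hG TabE8a.data hx hq TabE8a.c3 (ok1_of_ok TabE8a.ok3) (uq_of_ok TabE8a.ok3) TabE8a.dvd3
  rwa [A12.hcls8] at h1

theorem mbr_plus {h : IsCartan M TabE8c.A} (R : RGD cs h p T n X) (hG : GG cs h T X = ⊤) {x : ℕ} (hx : 2 ≤ x)
    (hq : ∀ i, Nat.card (X (sr i)) = x) {l : ℕ} (hl : l.Prime) (h5 : 5 < l) (hd : (l : ℤ) ∣ evZ x [1, 1, 1, 1, 1])
    {M' : Ideal AlgInt} (hM : IsPModular l M') :
    Mbr l M' Y x 2 TabE8a.c3.dn ∧ Mbr l M' Y x 2 Ea12.C.dn := by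
  have hMp : M'.IsPrime := hM.2.1.isPrime
  have hl2 : l.Coprime 2 := by
    rw [Nat.coprime_primes hl Nat.prime_two]
    omega
  have hx' : (2 : ℚ) ≤ (x : ℚ) := by exact_mod_cast hx
  have hq8 : ∀ i, Nat.card (X (sr i)) = x ^ TabE8a.data.e i := fun i => by
    rw [A12.e8_eq, pow_one]; exact hq i
  have hqc : ∀ i, Nat.card (X (sr i)) = x ^ TabE8c.data.e i := fun i => by
    rw [e_eq, pow_one]; exact hq i
  obtain ⟨χ, H⟩ := exists_84 (h := (h : IsCartan M TabE8a.A)) R hG hx hq8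
  obtain ⟨χ', H'⟩ := Node6.exists_a12 R hG hx hqc
  have hb : SameBlock M' (1 : Y → ℂ) χ := A12.same_1_84 R hG hx hq H hd hM
  have hb' : SameBlock M' χ χ' :=
    A12.same_84_1344 R hG hx hq (a := fun c => ev x (TabE8a.c3.nu c) / ev x (TabE8a.c3.nu 0)) H
      (r := (ev (x : ℚ) (TabE8a.c3.nu 0))⁻¹) (inv_ne_zero (ev_pos hx' A12.pos84).ne')
      (fun c => by rw [div_eq_inv_mul]) H' hl hd hM
  constructor
  · refine mbr_of_hasVal R hG TabE8a.data.t H hl hb (fun h1 => ?_) (val_spec two_pos TabE8a.dvd3 A12.posd84 hx)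
    have h2 := A12.deg_mod84 hx hl2 hd
    have h3 : (l : ℤ) ∣ 1 := (dvd_add_right (Int.natCast_dvd_natCast.2 h1)).1 h2
    have h4 : l ∣ 1 := by exact_mod_cast h3
    exact hl.one_lt.ne' (Nat.dvd_one.1 h4)
  · refine mbr_of_hasVal R hG TabE8c.data.t H' hl (Blocks.Covering.sameBlock_trans hMp hb hb') (fun h1 => ?_)
      (val_spec two_pos Ea12.dvd Ea12.ok.2.1 hx)
    have h2 := A12.deg_mod hx hl2 hd
    have h3 : (l : ℤ) ∣ 4 := (dvd_sub_right (Int.natCast_dvd_natCast.2 h1)).1 h2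
    have h4 : l ∣ 4 := by exact_mod_cast h3
    have := Nat.le_of_dvd (by norm_num) h4
    omega

end E8

/-! ### the degrees modulo 11 -/

/-- the value modulo 11 at the roots of `Φ₅` -/
def at5 (L : List ℤ) (c : ℤ) : Prop :=
  ∀ r : Fin 11, evZ (r : ℕ) [1, 1, 1, 1, 1] % 11 = 0 → (evZ (r : ℕ) L - c) % 11 = 0

instance (L : List ℤ) (c : ℤ) : Decidable (at5 L c) := by unfold at5; infer_instance

theorem at5.spec {L : List ℤ} {c : ℤ} (h : at5 L c) {x : ℕ} (hd : (11 : ℤ) ∣ evZ x [1, 1, 1, 1, 1]) :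
    (11 : ℤ) ∣ evZ x L - c := by
  have h1 := h ⟨x % 11, Nat.mod_lt _ (by norm_num)⟩
  have e : ∀ L : List ℤ, evZ (((⟨x % 11, Nat.mod_lt _ (by norm_num)⟩ : Fin 11) : ℕ) : ℤ) L % 11 = evZ x L % 11 := by
    intro L
    rw [evZ_emod 11 (x : ℤ) L]
    rfl
  have h2 := h1 (by rw [e]; exact Int.emod_eq_zero_of_dvd hd)
  refine Int.dvd_of_emod_eq_zero ?_
  rw [Int.sub_emod, ← e L, ← Int.sub_emod]
  exact h2

/-! ### `E₈(q)` -/

open Cfsg.Lie Cfsg.Agent.ChevalleyStructure Cfsg.Agent.ChevalleyStructure.CoxeterGeomTypes Cfsg.Agent.Nodes.RGDChev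
  Cfsg.Agent.H35.ExcIdx Cfsg.Agent.H674.XZ

theorem mbr_plus' {W : Type*} {Y : Type u} [Group W] [Finite W] [Group Y] [Finite Y]
    {M : CoxeterMatrix (Fin 8)} {cs : CoxeterSystem M W} {p : ℕ} {T : Subgroup Y}
    {n : Fin 8 → Y} {X : (Fin 8 → ℤ) → Subgroup Y} {A : Fin 8 → Fin 8 → ℤ} {h : IsCartan M A}
    (R : RGD cs h p T n X) (hG : GG cs h T X = ⊤) (hA : A = TabE8a.A) {x : ℕ} (hx : 2 ≤ x)
    (hq : ∀ i, Nat.card (X (sr i)) = x) {l : ℕ} (hl : l.Prime) (h5 : 5 < l) (hd : (l : ℤ) ∣ evZ x [1, 1, 1, 1, 1])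
    {M' : Ideal AlgInt} (hM : IsPModular l M') :
    Mbr l M' Y x 2 TabE8a.c3.dn ∧ Mbr l M' Y x 2 Ea12.C.dn := by
  subst hA
  exact mbr_plus (h := (h : IsCartan M TabE8c.A)) R hG hx hq hl h5 hd hM

/-- **The members `84` and `1344` of `E₈(q)`**, `l ∣ Φ₅(q)`. -/
theorem mbr_chev (K : Type u) [Field K] [Fintype K] {l : ℕ} (hl : l.Prime) (h5 : 5 < l)
    (hd : (l : ℤ) ∣ evZ (Fintype.card K : ℕ) [1, 1, 1, 1, 1]) {M' : Ideal AlgInt} (hM : IsPModular l M') :
    Mbr l M' ↥(chevE8.group K) (Fintype.card K) 2 TabE8a.c3.dn ∧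
      Mbr l M' ↥(chevE8.group K) (Fintype.card K) 2 Ea12.C.dn := by
  obtain ⟨r, hr⟩ := CharP.exists K
  have : Fact r.Prime := ⟨CharP.char_is_prime K r⟩
  have := finite_W hpE8 CoxeterMatrix.E₈.toCoxeterSystem
  have := finite_group chevE8 K
  refine mbr_plus' (rgd (K := K) hpE8 CoxeterMatrix.E₈.toCoxeterSystem r) (GG_eq_top hpE8 K CoxeterMatrix.E₈.toCoxeterSystem)
    FullE8a.hA Fintype.one_lt_card (fun i => ?_) hl h5 hd hM
  rw [card_XX hpE8 K CoxeterMatrix.E₈.toCoxeterSystem (isRoot_sr _ _ i), Nat.card_eq_fintype_card]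

/-- the trivial character -/
theorem mbr_one {p : ℕ} {M' : Ideal AlgInt} (hM : IsPModular p M') (hp : p.Prime) {S : Type u} [Group S] [Finite S] (q : ℕ) :
    Mbr p M' S q 1 [1] := by
  have hpf : Fact p.Prime := ⟨hp⟩
  have hMp : M'.IsPrime := hM.2.1.isPrime
  have h1 : charDegree (fun _ : S => (1 : ℂ)) = 1 := Blocks.Basic.charDegree_of_eq (by simp)
  refine ⟨⟨1, Characters.Core.isIrr_one⟩, ⟨?_, ?_, alm_of_rat fun g => ⟨1, ?_⟩⟩, fun g => ⟨1, ?_⟩, ?_⟩
  · exact Blocks.Basic.sameBlock_refl (fun _ : S => (1 : ℂ))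
  · show ¬ p ∣ charDegree (fun _ : S => (1 : ℂ))
    rw [h1]
    exact hp.one_lt.ne' ∘ Nat.dvd_one.1
  · show (1 : ℂ) = _
    norm_num
  · show (1 : ℂ) = _
    norm_num
  · show ((1 : ℕ) : ℚ) * (charDegree (fun _ : S => (1 : ℂ)) : ℕ) = _
    rw [h1, evL_cons, evL_nil]
    norm_num

/-- the degree polynomials -/
def LL : Fin 5 → List ℤ := ![[1], TabE8a.c3.dn, Ea12.C.dn, H498.RP.shL 63 [1, 1, 1, 1, 1, 0, 2, 2, 2, 1, 3, 1, 4, 4, 4,
  1, 5, 2, 6, 5, 6, 1, 7, 4, 7, 5, 7, 0, 7, 5, 7, 4, 7, 1, 6, 5, 6, 2, 5, 1, 4, 4, 4, 1, 3, 1, 2, 2, 2, 0, 1, 1, 1, 1,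
  1, 0, 0, 0], H498.RP.shL 120 [1]]

/-- the denominators -/
def eL : Fin 5 → ℕ := ![1, 2, 2, 2, 1]

theorem hpos : ∀ i j, i < j →
    H498.RP.posL (H498.RP.addL (H498.RP.smL (eL i) (LL j)) (H498.RP.smL (-(eL j : ℤ)) (LL i))) = true := by
  simp only [Cfsg.Agent.H996.Eight.Kq.posL_eq, Cfsg.Agent.H996.Eight.Kq.addL_eq, Cfsg.Agent.H996.Eight.Kq.smL_eq, Cfsg.Agent.H996.Eight.Kq.pPos_eq]
  decide +kernel

theorem hat5 : ∀ i, at5 (LL i) (![1, -2, 8, -2, 1] i : ℤ) := by decide +kernel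

theorem sq5 : ∑ i : Fin 5, (![1, -1, 4, -1, 1] : Fin 5 → ZMod 11) i * (![1, -1, 4, -1, 1] : Fin 5 → ZMod 11) i ≠ 0 := by
  decide

theorem sq6 : ∀ a : ZMod 11, ∑ i : Fin 6, (Fin.cons a ![1, -1, 4, -1, 1] : Fin 6 → ZMod 11) i *
    (Fin.cons a ![1, -1, 4, -1, 1] : Fin 6 → ZMod 11) i ≠ 0 := by
  decide

theorem key5 : ∀ (i : Fin 5) (d : ZMod 11),
    ((eL i : ℕ) : ZMod 11) * d - ((![1, -2, 8, -2, 1] i : ℤ) : ZMod 11) = 0 →
      d = (![1, -1, 4, -1, 1] : Fin 5 → ZMod 11) i := by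
  decide

theorem evZ_eq (x : ℤ) : ∀ L : List ℤ, H498.RP.evZ x L = evZ x L
  | [] => rfl
  | a :: L => by rw [H498.RP.evZ, evZ, evZ_eq x L]

theorem E_five (q : ℕ) : H35.PoinNum.E q 5 = evZ q [1, 1, 1, 1, 1] := by
  have : Fact (Nat.Prime 5) := ⟨by norm_num⟩
  rw [H35.PoinNum.E, Polynomial.cyclotomic_prime]
  simp only [evZ, Polynomial.eval_add, Polynomial.eval_pow, Polynomial.eval_X, Finset.sum_range_succ,
    Finset.sum_range_zero, pow_zero, Polynomial.eval_one, Polynomial.eval_zero]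
  ring

/-- five members of degrees `1, -1, 4, -1, 1` modulo 11 without a sum of squares: seven members -/
theorem seven_of {G : Type u} [Group G] [Finite G] {M' : Ideal AlgInt} [Fact (Nat.Prime 11)] (hM : IsPModular 11 M')
    (hd : 11 ∣ Nat.card G) (χ : Fin 5 → IrrCharacter G) (hinj : Function.Injective χ) (hmem : ∀ i, Mem0 11 M' (χ i))
    (hdeg : ∀ i, ((charDegree (χ i : G → ℂ) : ℕ) : ZMod 11) = (![1, -1, 4, -1, 1] : Fin 5 → ZMod 11) i) :
    7 ≤ x0 11 M' G := by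
  have h6 : 5 + 1 ≤ x0 11 M' G := H543.XZ.succ_le hM hd χ hinj hmem _ hdeg sq5
  have hfin := finite_mem0 (p := 11) (M := M') (G := G)
  obtain ⟨ψ, hψ, hn⟩ : ∃ ψ, Mem0 11 M' ψ ∧ ∀ i, χ i ≠ ψ := by
    by_contra hc
    push Not at hc
    have h7 : x0 11 M' G ≤ Nat.card (Fin 5) := by
      refine Nat.card_le_card_of_surjective (fun i => (⟨χ i, hmem i⟩ : {χ : IrrCharacter G // Mem0 11 M' χ})) ?_
      rintro ⟨ψ, hψ⟩
      obtain ⟨i, hi⟩ := hc ψ hψ
      exact ⟨i, Subtype.ext hi⟩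
    rw [Nat.card_fin] at h7
    omega
  refine H543.XZ.succ_le (n := 6) hM hd (Fin.cons ψ χ : Fin 6 → IrrCharacter G) ?_ ?_
    (Fin.cons ((charDegree (ψ : G → ℂ) : ℕ) : ZMod 11) ![1, -1, 4, -1, 1]) ?_ ?_
  · rw [Fin.cons_injective_iff]
    refine ⟨?_, hinj⟩
    rintro ⟨i, hi⟩
    exact hn i hi
  · intro i
    refine Fin.cases ?_ (fun j => ?_) i
    · exact hψ
    · exact hmem j
  · intro i
    refine Fin.cases ?_ (fun j => ?_) i
    · rfl
    · exact hdeg j
  · exact sq6 _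

/-- **`E₈(q)`, `q` of order 5 modulo 11**: seven members of `X₀`. -/
theorem seven_E8_5 (F : Type u) [Field F] [Fintype F] {p : ℕ} (h11 : p = 11) {M' : Ideal AlgInt}
    (hM : IsPModular p M') (h5 : orderOf ((Fintype.card F : ℕ) : ZMod p) = 5) :
    7 ≤ x0 p M' ↥(chevE8.group F) := by
  subst h11
  have hp : Fact (Nat.Prime 11) := ⟨by norm_num⟩
  have hfin := finite_group chevE8 F
  have hpq : ¬ 11 ∣ Fintype.card F := by
    intro h1
    rw [(ZMod.natCast_eq_zero_iff _ _).2 h1] at h5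
    have h2 := pow_orderOf_eq_one (0 : ZMod 11)
    rw [h5] at h2
    rw [zero_pow (by norm_num)] at h2
    exact zero_ne_one h2
  have hE := H116.RatB0.dvd_E (p := 11) hpq
  rw [h5] at hE
  have hd : ((11 : ℕ) : ℤ) ∣ evZ (Fintype.card F : ℕ) [1, 1, 1, 1, 1] := by rwa [← E_five]
  have hd' : ((11 : ℕ) : ℤ) ∣ H498.RP.evZ (Fintype.card F : ℕ) (1 :: H498.RP.E8E7M.F5) := by rwa [evZ_eq]
  have hJ := hJ_E8 F (p := 11) (m := 5) (by simp) hE
  obtain ⟨m1, m2⟩ := mbr_chev F hp.out (by norm_num) hd hM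
  have m3 := H498.RP.E8E7M.m5_4 (K := F) hM (by norm_num) hpq hd' hJ (hcard_E8 F)
  have m4 := H498.RP.E8E7M.m5_0 (K := F) hM (by norm_num) hpq hd' hJ (hcard_E8 F)
  have m0 : Mbr 11 M' ↥(chevE8.group F) (Fintype.card F) 1 [1] := mbr_one hM hp.out _
  obtain ⟨χ, hinj, hmem, -, hdeg⟩ := H498.RP.exists_of_mbr (q := Fintype.card F) (e := eL) (L := LL)
    Fintype.one_lt_card (fun i => by fin_cases i <;> assumption) hpos
  have hG : 11 ∣ Nat.card ↥(chevE8.group F) := (hJ ∅ (by decide)).trans (Subgroup.index_dvd_card _)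
  refine seven_of hM hG χ hinj hmem fun i => ?_
  have h1 : ((eL i : ℕ) : ℤ) * (charDegree (χ i : ↥(chevE8.group F) → ℂ) : ℤ) = evZ (Fintype.card F : ℕ) (LL i) := by
    have h2 := hdeg i
    have h3 := evZ_cast ((Fintype.card F : ℕ) : ℤ) (LL i)
    rw [evL_eq] at h2
    push_cast at h3
    rw [← h3] at h2
    exact_mod_cast h2
  have h2 := (hat5 i).spec hd
  rw [← h1] at h2
  have h3 := (ZMod.intCast_zmod_eq_zero_iff_dvd _ 11).2 h2
  push_cast at h3
  exact key5 i _ h3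

end Cfsg.Agent.H230.XZ.E8five
end

-- part: H703/XZ/RowE8b
section
/-!
# S4791 + S4927, the row `E₈(q)`: the orders 5, 10 with `p = 11` (helper703)
-/

set_option autoImplicit false

namespace Cfsg.Agent.H703.XZ

open Cfsg Cfsg.Lie
open Cfsg.Agent.H674.XZ Cfsg.Agent.H668.XZ

universe u

/-- **The row `E₈(q)`** from two inputs. -/
theorem row_E8_of2 {p : ℕ} [Fact p.Prime] {M : Ideal AlgInt} {r : ℕ} [Fact r.Prime] {F : Type} [Field F] [Fintype F]
    [CharP F r] {S : Type u} [Group S] [Finite S] [IsSimpleGroup S] (hrp : r ≠ p) (h11 : 11 ≤ p) (hM : IsPModular p M)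
    (e : Nonempty (S ≃* Lie.chevE8.group F)) (hP : ∀ P : Sylow p S, ¬ IsCyclic (P : Subgroup S))
    (h36 : orderOf ((Fintype.card F : ℕ) : ZMod p) = 3 ∨ orderOf ((Fintype.card F : ℕ) : ZMod p) = 6 → Uni8 p M F 7)
    (h4 : orderOf ((Fintype.card F : ℕ) : ZMod p) = 4 → Uni8 p M F 5) : Row0 p M S := by
  have hpp : p.Prime := Fact.out
  have hpF : (p : F) ≠ 0 := by
    intro h
    have h1 := (CharP.cast_eq_zero_iff F r p).1 h
    exact hrp ((Nat.prime_dvd_prime_iff_eq (Fact.out : r.Prime) hpp).1 h1)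
  exact row_E8_of4 hrp h11 hM e hP h36 h4 (fun h hp => H230.XZ.E8five.seven_E8_5 F hp hM h)
    (fun h hp => H543.XZ.seven_E8_ten hp hM hpF h)

end Cfsg.Agent.H703.XZ
end

-- part: H92/NE/E8Uni
section
/-!
# `E₈(q)`, `q` of order 3, 4, 6 modulo `p` (S4791 + S4927, helper92): the lists of helper77 as constituents of `1_B^G`

`uni3 : Uni8 p M F 7` (with the Steinberg character), `uni4 : Uni8 p M F 6`, `uni6 : Uni8 p M F 8`, `h36`.
-/

set_option autoImplicit false
set_option linter.unusedSectionVars false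

namespace Cfsg.Agent.H92.NE.E8

open Cfsg Cfsg.Lie
open Cfsg.Agent.Characters.Core CoxeterSystem Cfsg.Agent.ChevalleyStructure.CoxeterGeom Cfsg.Agent.Tits.Roots
  Cfsg.Agent.Tits.Core Cfsg.Agent.Nodes.Reps Cfsg.Agent.Nodes.BNOf Cfsg.Agent.Nodes.LeviDec Cfsg.Agent.Nodes.Bruhat
  Cfsg.Agent.H35.ExcIdx Cfsg.Agent.Nodes.RGDChev Cfsg.Agent.ChevalleyStructure Cfsg.Agent.ChevalleyStructure.NPerm
  Cfsg.Agent.ChevalleyStructure.CoxeterGeomTypes
open Cfsg.Agent.H674.XZ (Mem0)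
open Cfsg.Agent.H703.XZ (Uni8)
open Cfsg.Agent.Schreier.ChevLocal (BB)
open Cfsg.Agent.H77.RK

universe u

/-- the Borel subgroup is contained in the parabolic subgroups -/
theorem BB_le_PJ {D : ChevalleyDatum} {l : ℕ} {M : CoxeterMatrix (Fin l)} (hp : IsType D l M) (K : Type u) [Field K]
    (J : Set (Fin l)) : BB D K ≤ PJ M.toCoxeterSystem hp.isCartan (TT D K) (XX D l K) J := by
  have h1 : BB D K = RGD.B M.toCoxeterSystem hp.isCartan (TT D K) (XX D l K) :=
    (Cfsg.Agent.H167.AltChev.B_eq hp K).symm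
  rw [h1]
  exact B_le_PJ

/-- the members in the parabolic permutation characters are constituents of `1_B^G` -/
theorem ip_BB {D : ChevalleyDatum} {l : ℕ} {M : CoxeterMatrix (Fin l)} (hp : IsType D l M) (K : Type u) [Field K]
    [Fintype K] [Finite ↥(D.group K)] {χ : IrrCharacter ↥(D.group K)} (h : ParC hp K χ) :
    Cfsg.Agent.H674.XZ.ip (fixedPointCharacter (BB D K)) (χ : ↥(D.group K) → ℂ) ≠ 0 := by
  classical
  let : Fintype ↥(D.group K) := Fintype.ofFinite _
  obtain ⟨J, hJ⟩ := h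
  refine Cfsg.Agent.H605.XZ.ip_permC_mono (BB_le_PJ hp K J) χ ?_
  intro h0
  refine hJ ?_
  rw [← h0]
  exact (Cfsg.Agent.H674.XZ.ip_eq _ _).symm

/-! ### the Steinberg character -/

theorem st_ip {D : ChevalleyDatum} {l : ℕ} {M : CoxeterMatrix (Fin l)} (hp : IsType D l M) (K : Type u) [Field K]
    [Fintype K] [Finite ↥(D.group K)] {χ : IrrCharacter ↥(D.group K)}
    (h1 : ∀ g, (χ : ↥(D.group K) → ℂ) g = ∑ L ∈ (Finset.univ : Finset (Fin l)).powerset, (-1 : ℂ) ^ L.card *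
      fixedPointCharacter (Cfsg.Agent.H498.RP.PK hp K L) g) :
    Cfsg.Agent.H674.XZ.ip (fixedPointCharacter (BB D K)) (χ : ↥(D.group K) → ℂ) ≠ 0 := by
  classical
  let : Fintype ↥(D.group K) := Fintype.ofFinite _
  obtain ⟨r, hrc⟩ := CharP.exists K
  have hrp : Fact r.Prime := ⟨CharP.char_is_prime K r⟩
  have hfin : Finite M.Group := finite_W hp M.toCoxeterSystem
  have R := rgd (K := K) hp M.toCoxeterSystem r
  have hG := GG_eq_top (M := M) hp K M.toCoxeterSystem
  obtain ⟨-, h2⟩ := H167.AltRGD.exists_char_alt R (H116.RatB0.hgen_of_GG R hG)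
  simp only [H116.RatB0.sup_eq_PJ R hG] at h2
  have hBB : BB D K = RGD.B M.toCoxeterSystem hp.isCartan (TT D K) (XX D l K) :=
    (Cfsg.Agent.H167.AltChev.B_eq hp K).symm
  have h3 : ∀ b : BB D K, (χ : ↥(D.group K) → ℂ) b =
      (Nat.card {u : RGD.Sup (XX D l K) (RGD.Pos M.toCoxeterSystem hp.isCartan) //
        (u : ↥(D.group K))⁻¹ * b * u ∈ TT D K} : ℂ) := by
    intro b
    rw [h1]
    exact h2 b (hBB ▸ b.2)
  rw [Cfsg.Agent.H674.XZ.ip_eq, H139.RealB0.Crit.classInner_fixedPointCharacter, ← map_sum]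
  refine mul_ne_zero (inv_ne_zero (by exact_mod_cast Nat.card_pos.ne')) ?_
  rw [map_ne_zero, Finset.sum_congr rfl fun b _ => h3 b, ← Nat.cast_sum, Nat.cast_ne_zero]
  have h4 : 0 < Nat.card {u : RGD.Sup (XX D l K) (RGD.Pos M.toCoxeterSystem hp.isCartan) //
      (u : ↥(D.group K))⁻¹ * ((1 : BB D K) : ↥(D.group K)) * u ∈ TT D K} := by
    have : Nonempty {u : RGD.Sup (XX D l K) (RGD.Pos M.toCoxeterSystem hp.isCartan) //
      (u : ↥(D.group K))⁻¹ * ((1 : BB D K) : ↥(D.group K)) * u ∈ TT D K} := ⟨⟨1, by simp⟩⟩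
    exact Nat.card_pos
  have h5 := Finset.single_le_sum (f := fun b : BB D K => Nat.card {u : RGD.Sup (XX D l K)
    (RGD.Pos M.toCoxeterSystem hp.isCartan) // (u : ↥(D.group K))⁻¹ * (b : ↥(D.group K)) * u ∈ TT D K})
    (fun _ _ => Nat.zero_le _) (Finset.mem_univ (1 : BB D K))
  exact (lt_of_lt_of_le h4 h5).ne'

/-! ### the lists -/

/-- a list gives a family -/
theorem uni_of {p : ℕ} {M : Ideal AlgInt} {F : Type} [Field F] [Fintype F] (DL : List (List ℤ))
    (h : ∀ l ∈ DL, QMem p M (Fintype.card F) ↥(chevE8.group F) (fun χ => Cfsg.Agent.H674.XZ.ip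
      (fixedPointCharacter (BB chevE8 F)) (χ : ↥(chevE8.group F) → ℂ) ≠ 0) l) (hne : chkNe DL = true) {N : ℕ}
    (hN : DL.length = N) : Uni8 p M F N := by
  subst hN
  obtain ⟨χ, h1, h2⟩ := exists_of_QMem Fintype.one_lt_card DL h hne
  exact ⟨χ, h1, fun i => ⟨(h2 i).1, (h2 i).2.1, (h2 i).2.2.1⟩⟩

theorem evL_shL (q : ℤ) (k : ℕ) : H77.RK.evL q (H498.RP.shL k [1]) = q ^ k := by
  induction k with
  | zero => simp [H498.RP.shL, H77.RK.evL]
  | succ k ih =>
    have e3 : H498.RP.shL (k + 1) [1] = 0 :: H498.RP.shL k [1] := rfl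
    rw [e3, H77.RK.evL, ih]
    ring

/-- the Steinberg character as a member -/
theorem qmem_st {p : ℕ} [hpp : Fact p.Prime] {M : Ideal AlgInt} {K : Type u} [Field K] [Fintype K] (h11 : 11 ≤ p)
    (hM : IsPModular p M) (hpK : (p : K) ≠ 0)
    (hd : orderOf ((Fintype.card K : ℕ) : ZMod p) ∈ [2, 3, 4, 5, 6, 8, 10, 12, 15, 20, 24, 30]) :
    QMem p M (Fintype.card K) ↥(chevE8.group K) (fun χ => Cfsg.Agent.H674.XZ.ip
      (fixedPointCharacter (BB chevE8 K)) (χ : ↥(chevE8.group K) → ℂ) ≠ 0)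
      (H77.RK.smulL 2 (H498.RP.shL 120 [1])) := by
  have hpK' : ¬ p ∣ Fintype.card K := H116.RatB0.not_dvd_card hpK
  have hJ : ∀ J : Finset (Fin 8), J ≠ Finset.univ → p ∣ (H498.RP.PK hpE8 K J).index := fun J hJ =>
    H543.XZ.idx_E8 hpK' hd J hJ
  obtain ⟨χ, h1, h2, h3, h4⟩ := H498.RP.exists_st_chev hpE8 K
  rw [H543.XZ.card_E8 K] at h2
  have hint : ∀ g, ∃ z : ℤ, (χ : ↥(chevE8.group K) → ℂ) g = z := by
    intro g
    refine ⟨∑ L ∈ (Finset.univ : Finset (Fin 8)).powerset, (-1 : ℤ) ^ L.card *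
      (Nat.card (MulAction.fixedBy (↥(chevE8.group K) ⧸ H498.RP.PK hpE8 K L) g) : ℤ), ?_⟩
    rw [h1]
    push_cast
    rfl
  refine ⟨χ, ⟨h4 p M hM hpK' hJ, h3 p hpp.out hpK', Cfsg.Agent.H674.XZ.alm_of_rat fun g => ?_⟩, hint,
    st_ip hpE8 K h1, ?_⟩
  · obtain ⟨z, hz⟩ := hint g
    exact ⟨z, by rw [hz]; push_cast; rfl⟩
  · rw [h2, H543.XZ.evL_two, evL_shL, Nat.cast_pow]

section

variable {p : ℕ} [hpp : Fact p.Prime] {M : Ideal AlgInt} {F : Type} [Field F] [Fintype F]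

theorem uni4 (h11 : 11 ≤ p) (hM : IsPModular p M) (hd : orderOf ((Fintype.card F : ℕ) : ZMod p) = 4) : Uni8 p M F 6 :=
  uni_of (plE8 4) (fun l hl => (qmem_E8 F h11 hM hd l hl).mono fun _ h => ip_BB hpE8 F h) plE8_ne.2.1 rfl

theorem uni6 (h11 : 11 ≤ p) (hM : IsPModular p M) (hd : orderOf ((Fintype.card F : ℕ) : ZMod p) = 6) : Uni8 p M F 8 :=
  uni_of (plE8 6) (fun l hl => (qmem_E8 F h11 hM hd l hl).mono fun _ h => ip_BB hpE8 F h) plE8_ne.2.2.2.1 rfl

/-- the list for the order 3, with the Steinberg character -/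
def dl3 : List (List ℤ) := H77.RK.smulL 2 (H498.RP.shL 120 [1]) :: plE8 3

theorem dl3_ne : chkNe dl3 = true := H77.RK.chkNe_of_F (by decide +kernel)

theorem uni3 (h11 : 11 ≤ p) (hM : IsPModular p M) (hpF : (p : F) ≠ 0)
    (hd : orderOf ((Fintype.card F : ℕ) : ZMod p) = 3) : Uni8 p M F 7 := by
  refine uni_of dl3 (fun l hl => ?_) dl3_ne rfl
  rcases List.mem_cons.1 hl with rfl | hl
  · exact qmem_st h11 hM hpF (by rw [hd]; decide)
  · exact (qmem_E8 F h11 hM hd l hl).mono fun _ h => ip_BB hpE8 F h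

/-- **The input `h36` of `row_E8_of`.** -/
theorem h36 (h11 : 11 ≤ p) (hM : IsPModular p M) (hpF : (p : F) ≠ 0)
    (hd : orderOf ((Fintype.card F : ℕ) : ZMod p) = 3 ∨ orderOf ((Fintype.card F : ℕ) : ZMod p) = 6) : Uni8 p M F 7 := by
  rcases hd with hd | hd
  · exact uni3 h11 hM hpF hd
  · exact (uni6 h11 hM hd).mono (by norm_num)

/-- **The input `h4` of `row_E8_of`.** -/
theorem h4 (h11 : 11 ≤ p) (hM : IsPModular p M) (hd : orderOf ((Fintype.card F : ℕ) : ZMod p) = 4) : Uni8 p M F 5 :=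
  (uni4 h11 hM hd).mono (by norm_num)

end

end Cfsg.Agent.H92.NE.E8
end

-- part: H703/XZ/RowE8
section
/-!
# S4791 + S4927, the row `E₈(q)` (helper703, with helpers 77, 92, 208, 230, 498, 543, 687, 694, 761, 931)
-/

set_option autoImplicit false

namespace Cfsg.Agent.H703.XZ

open Cfsg Cfsg.Lie
open Cfsg.Agent.H674.XZ Cfsg.Agent.H668.XZ

universe u

/-- **The row `E₈(q)`.** -/
theorem row_E8 {p : ℕ} [Fact p.Prime] {M : Ideal AlgInt} {r : ℕ} [Fact r.Prime] {F : Type} [Field F] [Fintype F]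
    [CharP F r] {S : Type u} [Group S] [Finite S] [IsSimpleGroup S] (hrp : r ≠ p) (h11 : 11 ≤ p) (hM : IsPModular p M)
    (e : Nonempty (S ≃* Lie.chevE8.group F)) (hP : ∀ P : Sylow p S, ¬ IsCyclic (P : Subgroup S)) : Row0 p M S := by
  have hpp : p.Prime := Fact.out
  have hpF : (p : F) ≠ 0 := by
    intro h
    have h1 := (CharP.cast_eq_zero_iff F r p).1 h
    exact hrp ((Nat.prime_dvd_prime_iff_eq (Fact.out : r.Prime) hpp).1 h1)
  exact row_E8_of2 hrp h11 hM e hP (fun h => H92.NE.E8.h36 h11 hM hpF h) (fun h => H92.NE.E8.h4 h11 hM h)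

end Cfsg.Agent.H703.XZ
end
end

-- part: H629/XR/RowMFin_mg
section
prune_inst 0x2601020052000020000040012200042201000049000200800c02001460801e1220902a1000b00000b4000228000050000020000100000000000000000000501208000420051810d04060099800000010000000000000000000000000000000000004010000
set_option linter.all false
open scoped Cfsg.Agent.FastGrp

-- part: H543/XZ/MonCrit
section
/-!
# S4791 + S4927: the Monster, `p = 13` and `p = 11`, counting (helper543)

* `seven_thirteen` : a simple group of the order of the Monster with an element `x` of order 41, `|C(x)| = 41`, and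
  irreducible characters of degrees `1, 196883, 18538750076, 1109944460516150` (`1, -2, 2, -1` modulo 13) has at least
  seven irreducible characters of degree prime to 13: the columns of `1` and `x` are orthogonal modulo 13.
* `card_le_of_degrees` : distinct degrees give distinct characters.
-/

set_option autoImplicit false

open Cfsg Subgroup

namespace Cfsg.Agent.H543.XZ

open Cfsg.Agent.Characters.Core Cfsg.Agent.H653.Sieve

universe u

variable {G : Type u} [Group G] [Finite G]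

/-- The arithmetic modulo 13. -/
theorem arith13 : ∀ r s w v : ZMod 13, (w = 0 ∨ w = 1 ∨ w = -1) → (v = 0 ∨ v = 1 ∨ v = -1) →
    10 + r * r + s * s = 0 → -1 + r * w + s * v = 0 → r = 0 ∨ s = 0 := by
  (open scoped Cfsg.Agent.ChevFast.Lin in decide +kernel)

theorem arith13' : ∀ r w : ZMod 13, (w = 0 ∨ w = 1 ∨ w = -1) → 10 + r * r = 0 → -1 + r * w = 0 → r = 0 := by
  decide +kernel

/-- The order of the Monster. -/
abbrev NM : ℕ := 808017424794512875886459904961710757005754368000000000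

theorem num41 : numOK NM 41 1 40 1 [(0, .ofNat 0), (1, .ofNat 1), (40, .negSucc 0)] 0 false = true := by
  decide +kernel

/-- The four known characters: degree and value at the elements of order 41. -/
theorem seven_thirteen [IsSimpleGroup G] (hG : ¬ IsMulCommutative G) (hN : Nat.card G = NM) {x : G}
    (hx : orderOf x = 41) (hc : Nat.card (centralizer ({x} : Set G)) = 41)
    (h1 : ∃ χ : G → ℂ, IsIrrCharacter G χ ∧ χ 1 = 1) (h2 : ∃ χ : G → ℂ, IsIrrCharacter G χ ∧ χ 1 = 196883)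
    (h3 : ∃ χ : G → ℂ, IsIrrCharacter G χ ∧ χ 1 = 18538750076)
    (h4 : ∃ χ : G → ℂ, IsIrrCharacter G χ ∧ χ 1 = 1109944460516150) :
    7 ≤ Nat.card {χ : IrrCharacter G // ¬ 13 ∣ charDegree (χ : G → ℂ)} := by
  classical
  have := finite_irr (G := G)
  have := Fintype.ofFinite (IrrCharacter G)
  have : Fact (Nat.Prime 41) := ⟨by norm_num⟩
  obtain ⟨P, W, hP, he, hcol, hok⟩ := exists_col hG hN hx (k := 1) (by rw [hc]) 40 1 _ 0 false num41
  have hmem := hok.mem
  have hdeg := hok.deg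
  -- the characters
  have key : ∀ {n : ℕ}, (∃ χ : G → ℂ, IsIrrCharacter G χ ∧ χ 1 = (n : ℂ)) → ∃ χ : IrrCharacter G, deg χ = n := by
    rintro n ⟨χ, h, h'⟩
    refine ⟨⟨χ, h⟩, ?_⟩
    have e := Blocks.Basic.irr_one_eq_charDegree h
    rw [h'] at e
    exact_mod_cast e.symm
  obtain ⟨c1, d1⟩ := key (n := 1) (by simpa using h1)
  obtain ⟨c2, d2⟩ := key (n := 196883) (by simpa using h2)
  obtain ⟨c3, d3⟩ := key (n := 18538750076) (by simpa using h3)
  obtain ⟨c4, d4⟩ := key (n := 1109944460516150) (by simpa using h4)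
  have wval : ∀ χ : IrrCharacter G, (deg χ % 41 = 0 ∧ W χ = 0) ∨ (deg χ % 41 = 1 ∧ W χ = 1) ∨
      (deg χ % 41 = 40 ∧ W χ = -1) := by
    intro χ
    have h := hmem χ
    simp only [List.mem_cons, Prod.mk.injEq, List.not_mem_nil, or_false] at h
    exact h
  have w1 : W c1 = 1 := by
    rcases wval c1 with ⟨h, h'⟩ | ⟨h, h'⟩ | ⟨h, h'⟩ <;> rw [d1] at h <;> first | exact h' | (norm_num at h)
  have w2 : W c2 = 1 := by
    rcases wval c2 with ⟨h, h'⟩ | ⟨h, h'⟩ | ⟨h, h'⟩ <;> rw [d2] at h <;> first | exact h' | (norm_num at h)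
  have w3 : W c3 = 0 := by
    rcases wval c3 with ⟨h, h'⟩ | ⟨h, h'⟩ | ⟨h, h'⟩ <;> rw [d3] at h <;> first | exact h' | (norm_num at h)
  have w4 : W c4 = 0 := by
    rcases wval c4 with ⟨h, h'⟩ | ⟨h, h'⟩ | ⟨h, h'⟩ <;> rw [d4] at h <;> first | exact h' | (norm_num at h)
  -- the set
  set T : Finset (IrrCharacter G) := Finset.univ.filter fun χ => ¬ 13 ∣ deg χ with hT
  have hcard : Nat.card {χ : IrrCharacter G // ¬ 13 ∣ charDegree (χ : G → ℂ)} = T.card := by
    rw [Nat.card_eq_fintype_card, Fintype.card_subtype, hT]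
    rfl
  rw [hcard]
  by_contra hlt
  have hlt : T.card ≤ 6 := by omega
  set K : Finset (IrrCharacter G) := {c1, c2, c3, c4} with hK
  have n12 : c1 ≠ c2 := fun h => by rw [h, d2] at d1; norm_num at d1
  have n13 : c1 ≠ c3 := fun h => by rw [h, d3] at d1; norm_num at d1
  have n14 : c1 ≠ c4 := fun h => by rw [h, d4] at d1; norm_num at d1
  have n23 : c2 ≠ c3 := fun h => by rw [h, d3] at d2; norm_num at d2
  have n24 : c2 ≠ c4 := fun h => by rw [h, d4] at d2; norm_num at d2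
  have n34 : c3 ≠ c4 := fun h => by rw [h, d4] at d3; norm_num at d3
  have hKT : K ⊆ T := by
    intro χ hχ
    rw [hT, Finset.mem_filter]
    refine ⟨Finset.mem_univ _, ?_⟩
    rw [hK] at hχ
    simp only [Finset.mem_insert, Finset.mem_singleton] at hχ
    rcases hχ with rfl | rfl | rfl | rfl
    · rw [d1]; norm_num
    · rw [d2]; norm_num
    · rw [d3]; norm_num
    · rw [d4]; norm_num
  have hKc : K.card = 4 := by
    rw [hK, Finset.card_insert_of_notMem, Finset.card_insert_of_notMem, Finset.card_insert_of_notMem,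
      Finset.card_singleton]
    · simpa using n34
    · simp only [Finset.mem_insert, Finset.mem_singleton, not_or]; exact ⟨n23, n24⟩
    · simp only [Finset.mem_insert, Finset.mem_singleton, not_or]; exact ⟨n12, n13, n14⟩
  have hY : (T \ K).card ≤ 2 := by
    rw [Finset.card_sdiff_of_subset hKT, hKc]
    omega
  -- the two congruences
  have hz : ∀ χ : IrrCharacter G, χ ∉ T → ((deg χ : ℕ) : ZMod 13) = 0 := by
    intro χ hχ
    rw [hT, Finset.mem_filter, not_and, not_not] at hχ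
    exact (ZMod.natCast_eq_zero_iff _ _).2 (hχ (Finset.mem_univ _))
  have split : ∀ f : IrrCharacter G → ZMod 13, (∀ χ, χ ∉ T → f χ = 0) →
      ∑ χ, f χ = f c1 + f c2 + f c3 + f c4 + ∑ χ ∈ T \ K, f χ := by
    intro f hf
    have e1 : ∑ χ, f χ = ∑ χ ∈ T, f χ := by
      symm
      exact Finset.sum_subset (Finset.subset_univ _) fun χ _ h => hf χ h
    rw [e1, ← Finset.sum_sdiff hKT, add_comm]
    congr 1
    rw [hK, Finset.sum_insert, Finset.sum_insert, Finset.sum_insert, Finset.sum_singleton]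
    · ring
    · simpa using n34
    · simp only [Finset.mem_insert, Finset.mem_singleton, not_or]; exact ⟨n23, n24⟩
    · simp only [Finset.mem_insert, Finset.mem_singleton, not_or]; exact ⟨n12, n13, n14⟩
  have s1 : (10 : ZMod 13) + ∑ χ ∈ T \ K, ((deg χ : ℕ) : ZMod 13) * (deg χ : ℕ) = 0 := by
    have h := SmallSimple.DegreeData.sum_sq (G := G)
    have h' : ((∑ χ : IrrCharacter G, deg χ ^ 2 : ℕ) : ZMod 13) = 0 := by
      have e : (∑ χ : IrrCharacter G, deg χ ^ 2) = Nat.card G := by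
        rw [← h]
        rfl
      rw [e, hN]
      decide
    rw [Nat.cast_sum, split (fun χ => ((deg χ ^ 2 : ℕ) : ZMod 13)) (fun χ hχ => by
      rw [Nat.cast_pow, hz χ hχ]; decide)] at h'
    rw [← h', d1, d2, d3, d4]
    congr 1
    refine Finset.sum_congr rfl fun χ _ => ?_
    push_cast
    ring
  have s2 : (-1 : ZMod 13) + ∑ χ ∈ T \ K, ((deg χ : ℕ) : ZMod 13) * (W χ : ℤ) = 0 := by
    have h' : ((∑ χ : IrrCharacter G, W χ * (deg χ : ℤ) : ℤ) : ZMod 13) = 0 := by rw [hdeg]; simp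
    rw [Int.cast_sum, split (fun χ => ((W χ * (deg χ : ℤ) : ℤ) : ZMod 13)) (fun χ hχ => by
      rw [Int.cast_mul, Int.cast_natCast, hz χ hχ, mul_zero])] at h'
    rw [← h', d1, d2, d3, d4, w1, w2, w3, w4]
    congr 1
    refine Finset.sum_congr rfl fun χ _ => ?_
    push_cast
    ring
  have hw : ∀ χ : IrrCharacter G, ((W χ : ℤ) : ZMod 13) = 0 ∨ ((W χ : ℤ) : ZMod 13) = 1 ∨ ((W χ : ℤ) : ZMod 13) = -1 := by
    intro χ
    rcases wval χ with ⟨-, h⟩ | ⟨-, h⟩ | ⟨-, h⟩ <;> rw [h] <;> simp only [_root_.Int.cast_zero, _root_.zero_eq_neg, _root_.true_or, _root_.Int.cast_one, _root_.or_true, _root_.Int.reduceNeg, _root_.Int.cast_neg, _root_.neg_eq_zero]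
  have hne : ∀ χ ∈ T \ K, ((deg χ : ℕ) : ZMod 13) ≠ 0 := by
    intro χ hχ h0
    have h1 := (ZMod.natCast_eq_zero_iff _ _).1 h0
    have h2 := (Finset.mem_sdiff.1 hχ).1
    rw [hT, Finset.mem_filter] at h2
    exact h2.2 h1
  generalize hYd : T \ K = Y at *
  have hcases : Y.card = 0 ∨ Y.card = 1 ∨ Y.card = 2 := by omega
  rcases hcases with h0 | h0 | h0
  · rw [Finset.card_eq_zero] at h0
    rw [h0] at s1
    revert s1
    simp only [Finset.sum_empty]
    decide
  · obtain ⟨a, rfl⟩ := Finset.card_eq_one.1 h0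
    rw [Finset.sum_singleton] at s1 s2
    exact hne a (Finset.mem_singleton_self a) (arith13' _ _ (hw a) s1 s2)
  · obtain ⟨a, b, hab, rfl⟩ := Finset.card_eq_two.1 h0
    rw [Finset.sum_pair hab, ← add_assoc] at s1 s2
    rcases arith13 _ _ _ _ (hw a) (hw b) s1 s2 with h | h
    · exact hne a (by simp) h
    · exact hne b (by simp) h

/-- Distinct degrees give distinct characters. -/
theorem card_le_of_degrees (L : List ℕ) (hL : L.Nodup) (p : ℕ) (hp : ∀ n ∈ L, ¬ p ∣ n)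
    (h : ∀ n ∈ L, ∃ χ : G → ℂ, IsIrrCharacter G χ ∧ χ 1 = (n : ℂ)) :
    L.length ≤ Nat.card {χ : IrrCharacter G // ¬ p ∣ charDegree (χ : G → ℂ)} := by
  classical
  have := finite_irr (G := G)
  choose! f hf hf1 using h
  have hd : ∀ n ∈ L, charDegree (f n) = n := by
    intro n hn
    have e := Blocks.Basic.irr_one_eq_charDegree (hf n hn)
    rw [hf1 n hn] at e
    exact_mod_cast e.symm
  let g : L.toFinset → {χ : IrrCharacter G // ¬ p ∣ charDegree (χ : G → ℂ)} := fun n =>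
    ⟨⟨f n.1, hf n.1 (List.mem_toFinset.1 n.2)⟩, by
      show ¬ p ∣ charDegree (f n.1)
      rw [hd n.1 (List.mem_toFinset.1 n.2)]
      exact hp n.1 (List.mem_toFinset.1 n.2)⟩
  have hg : Function.Injective g := by
    intro a b hab
    have h1 : charDegree (f a.1) = charDegree (f b.1) :=
      congrArg (fun c : {χ : IrrCharacter G // ¬ p ∣ charDegree (χ : G → ℂ)} => charDegree ((c.1 : IrrCharacter G) : G → ℂ)) hab
    rw [hd a.1 (List.mem_toFinset.1 a.2), hd b.1 (List.mem_toFinset.1 b.2)] at h1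
    exact Subtype.ext h1
  have h1 := Nat.card_le_card_of_injective g hg
  rwa [Nat.card_eq_fintype_card, Fintype.card_coe, List.toFinset_card_of_nodup hL] at h1

end Cfsg.Agent.H543.XZ
end

-- part: H543/XZ/Mon
section
/-!
# S4791 + S4927: the Monster, `p = 13` and `p = 11`: seven characters of degree prime to `p` (helper543)
-/

set_option autoImplicit false

open Cfsg Subgroup

namespace Cfsg.Agent.H543.XZ.Mon

universe u

variable {S : Type u} [Group S] [Finite S]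

omit [Finite S] in
theorem simple_m (h : Spor.IsoM S) : IsSimpleGroup S := by
  obtain ⟨e⟩ := Cfsg.Agent.H816.IMM.exists_equiv h
  have hs : IsSimpleGroup ↥Cfsg.Agent.MonsterX.InstData.M.G := Cfsg.Agent.MonsterP.EquivOf.isM_model.1
  have : Nontrivial S := e.toEquiv.nontrivial
  exact IsSimpleGroup.isSimpleGroup_of_surjective e.symm.toMonoidHom e.symm.surjective

/-- **The Monster, `p = 13`**: seven irreducible characters of degree prime to 13. -/
theorem thirteen (h : Spor.IsoM S) (hc : ∀ x : S, orderOf x = 41 → Nat.card (centralizer ({x} : Set S)) = 41) :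
    7 ≤ Nat.card {χ : IrrCharacter S // ¬ 13 ∣ charDegree (χ : S → ℂ)} := by
  have hs := simple_m h
  have hN : Nat.card S = NM := Cfsg.Agent.H816.IMM.card_eq h
  have : Fact (Nat.Prime 41) := ⟨by norm_num⟩
  obtain ⟨x, hx⟩ := exists_prime_orderOf_dvd_card' (G := S) 41 (by rw [hN]; norm_num)
  have hna : ¬ IsMulCommutative S := by
    intro hcm
    have h1 : centralizer ({x} : Set S) = ⊤ := by
      rw [eq_top_iff]
      intro y _
      rw [mem_centralizer_singleton_iff]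
      exact hcm.is_comm.comm _ _
    have h2 := hc x hx
    rw [h1, Subgroup.card_top, hN] at h2
    norm_num at h2
  exact seven_thirteen hna hN hx (hc x hx) (Cfsg.Agent.H816.IMM.exists_chi_1 h)
    (Cfsg.Agent.H816.IMM.exists_chi_196883 h) (Cfsg.Agent.H816.IMM.exists_chi_18538750076 h)
    (Cfsg.Agent.H816.IMM.exists_chi_1109944460516150 h)

/-- **The Monster, `p = 11`**: seven irreducible characters of degree prime to 11. -/
theorem eleven (h : Spor.IsoM S) : 7 ≤ Nat.card {χ : IrrCharacter S // ¬ 11 ∣ charDegree (χ : S → ℂ)} := by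
  refine card_le_of_degrees (G := S) [1, 196883, 842609326, 36173193327999, 1109944460516150, 251098487132187500,
    47377503606648784400] (by decide) 11 (by decide) ?_
  intro n hn
  simp only [List.mem_cons, List.not_mem_nil, or_false] at hn
  rcases hn with rfl | rfl | rfl | rfl | rfl | rfl | rfl
  · simpa using Cfsg.Agent.H816.IMM.exists_chi_1 h
  · simpa using Cfsg.Agent.H816.IMM.exists_chi_196883 h
  · simpa using Cfsg.Agent.H816.IMM.exists_chi_842609326 h
  · simpa using Cfsg.Agent.H816.IMM.exists_chi_36173193327999 h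
  · simpa using Cfsg.Agent.H816.IMM.exists_chi_1109944460516150 h
  · simpa using Cfsg.Agent.H816.IMM.exists_chi_251098487132187500 h
  · simpa using Cfsg.Agent.H816.IMM.exists_chi_47377503606648784400 h

end Cfsg.Agent.H543.XZ.Mon
end

-- part: H761/XZ/MonEleven
section
/-!
# The Monster at 11: `C(P) ≤ P`, no element of order 121 (helper761, for S4791 + S4927)
-/

set_option autoImplicit false
set_option linter.unusedSectionVars false

open Cfsg Subgroup
open scoped ComplexConjugate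

namespace Cfsg.Agent.H761.XZ

open Cfsg.Agent.H674.XZ
open Cfsg.Agent.LThreeMB (XX Zx)
open Cfsg.Agent.BpSpor.MBigModel (MG)

universe u v

theorem cent_m12 {Q : Type*} [Group Q] (i : Q ≃* Spor.M12) {y : Q} (hy : orderOf y = 11) :
    Nat.card (centralizer ({y} : Set Q)) = 11 := by
  have hcard : Nat.card Spor.M12 = 95040 := (H603.FD.Spor.isM12 ⟨MulEquiv.refl _⟩).2
  have : Finite Spor.M12 := Nat.finite_of_card_ne_zero (by rw [hcard]; norm_num)
  have : Finite Q := Finite.of_equiv _ i.symm.toEquiv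
  obtain ⟨x, hx, hc⟩ := H408.SporSelf.m12
  obtain ⟨x', hx', hc'⟩ := H408.SporEng.Self.congr i.symm ⟨x, hx, hc⟩
  rw [← hc']
  exact H547.SelfCent.card_cent_eq (by norm_num) (by rw [Nat.card_congr i.toEquiv, hcard]; norm_num) hy hx'

/-- a group with the data -/
theorem cent_one {G : Type*} [Group G] {x y : G} (hx : orderOf x = 11) (hy : orderOf y = 11) (hxy : x * y = y * x)
    (hyx : y ∉ zpowers x) (i : XX x ≃* Spor.M12) {c : G} (hcx : c * x = x * c) (hcy : c * y = y * c)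
    (hc : ¬ 11 ∣ orderOf c) : c = 1 := by
  have hcard : Nat.card Spor.M12 = 95040 := (H603.FD.Spor.isM12 ⟨MulEquiv.refl _⟩).2
  have : Finite Spor.M12 := Nat.finite_of_card_ne_zero (by rw [hcard]; norm_num)
  have : Finite (XX x) := Finite.of_equiv _ i.symm.toEquiv
  let y' : centralizer ({x} : Set G) := ⟨y, mem_centralizer_singleton_iff.2 hxy.symm⟩
  let c' : centralizer ({x} : Set G) := ⟨c, mem_centralizer_singleton_iff.2 hcx⟩
  let π : centralizer ({x} : Set G) →* XX x := QuotientGroup.mk' (Zx x)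
  have hker : ∀ g : centralizer ({x} : Set G), π g = 1 → (g : G) ∈ zpowers x := by
    intro g hg
    have h1 : g ∈ Zx x := (QuotientGroup.eq_one_iff g).1 hg
    obtain ⟨k, hk⟩ := mem_zpowers_iff.1 h1
    refine mem_zpowers_iff.2 ⟨k, ?_⟩
    have h2 := congrArg Subtype.val hk
    exact h2
  have hy' : orderOf (π y') = 11 := by
    refine orderOf_eq_prime ?_ fun h => hyx (hker y' h)
    rw [← map_pow]
    have h1 : y' ^ 11 = 1 := Subtype.ext (by
      show y ^ 11 = 1
      rw [← hy, pow_orderOf_eq_one])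
    rw [h1, map_one]
  have h2 := cent_m12 i hy'
  have h3 : π c' ∈ centralizer ({π y'} : Set (XX x)) := by
    rw [mem_centralizer_singleton_iff, ← map_mul, ← map_mul]
    exact congrArg π (Subtype.ext hcy)
  have h4 : orderOf (π c') ∣ 11 := by
    rw [← h2]
    exact Subgroup.orderOf_dvd_natCard _ h3
  have h5 : orderOf (π c') ∣ orderOf c := by
    have h6 := orderOf_map_dvd π c'
    rwa [← Subgroup.orderOf_coe] at h6
  have h6 : orderOf (π c') = 1 := by
    rcases (Nat.dvd_prime (by norm_num)).1 h4 with h7 | h7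
    · exact h7
    · rw [h7] at h5
      exact absurd h5 hc
  have h7 : c ∈ zpowers x := hker c' (orderOf_eq_one_iff.1 h6)
  have h8 : orderOf c ∣ 11 := by
    rw [← hx]
    exact orderOf_dvd_of_mem_zpowers h7
  rcases (Nat.dvd_prime (by norm_num)).1 h8 with h9 | h9
  · exact orderOf_eq_one_iff.1 h9
  · exact absurd (by rw [h9]) hc

/-- in a cyclic group the elements of order `p` generate the same subgroup -/
theorem mem_of_cyclic {G : Type*} [Group G] [Finite G] {P : Subgroup G} (hP : IsCyclic P) {p : ℕ} (hp : p.Prime)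
    {x y : G} (hx : x ∈ P) (hy : y ∈ P) (hxo : orderOf x = p) (hyo : orderOf y = p) : y ∈ zpowers x := by
  have h0 := hp.pos
  obtain ⟨g, hg⟩ := hP.exists_generator
  obtain ⟨Fx⟩ : Nonempty (Fintype P) := ⟨Fintype.ofFinite P⟩
  classical
  have h1 := IsCyclic.card_pow_eq_one_le (α := P) h0
  by_contra hno
  have h2 : ∀ k : ℕ, (⟨x, hx⟩ : P) ^ k ∈ (Finset.univ.filter fun a : P => a ^ p = 1) := by
    intro k
    rw [Finset.mem_filter]
    refine ⟨Finset.mem_univ _, ?_⟩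
    rw [← pow_mul, mul_comm, pow_mul]
    have h3 : (⟨x, hx⟩ : P) ^ p = 1 := Subtype.ext (by
      show x ^ p = 1
      rw [← hxo, pow_orderOf_eq_one])
    rw [h3, one_pow]
  have h3 : (⟨y, hy⟩ : P) ∈ (Finset.univ.filter fun a : P => a ^ p = 1) := by
    rw [Finset.mem_filter]
    refine ⟨Finset.mem_univ _, Subtype.ext ?_⟩
    show y ^ p = 1
    rw [← hyo, pow_orderOf_eq_one]
  have h4 : insert (⟨y, hy⟩ : P) ((Finset.range p).image fun k => (⟨x, hx⟩ : P) ^ k) ⊆
      (Finset.univ.filter fun a : P => a ^ p = 1) := by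
    intro a ha
    rw [Finset.mem_insert, Finset.mem_image] at ha
    rcases ha with rfl | ⟨k, -, rfl⟩
    · exact h3
    · exact h2 k
  have h5 := Finset.card_le_card h4
  rw [Finset.card_insert_of_notMem, Finset.card_image_of_injOn, Finset.card_range] at h5
  · omega
  · intro a ha b hb hab
    have ha' : a < p := by simpa using ha
    have hb' : b < p := by simpa using hb
    have hox : orderOf (⟨x, hx⟩ : P) = p := by rw [← Subgroup.orderOf_coe]; exact hxo
    exact pow_injOn_Iio_orderOf (by rw [Set.mem_Iio, hox]; exact ha') (by rw [Set.mem_Iio, hox]; exact hb') hab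
  · intro h6
    rw [Finset.mem_image] at h6
    obtain ⟨k, -, hk⟩ := h6
    exact hno ⟨(k : ℤ), by
      have := congrArg Subtype.val hk
      simpa using this⟩

theorem sup_pgroup {G : Type*} [Group G] {p : ℕ} [hp : Fact p.Prime] {x y : G} (hx : orderOf x = p) (hy : orderOf y = p)
    (hxy : x * y = y * x) : IsPGroup p (zpowers x ⊔ zpowers y : Subgroup G) := by
  refine IsPGroup.to_sup_of_normal_right' (IsPGroup.of_card (n := 1) ?_) (IsPGroup.of_card (n := 1) ?_) ?_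
  · rw [Nat.card_zpowers, hx, pow_one]
  · rw [Nat.card_zpowers, hy, pow_one]
  · rw [zpowers_le]
    have h1 : x ∈ centralizer (zpowers y : Set G) := by
      rw [mem_centralizer_iff]
      intro h hh
      obtain ⟨k, rfl⟩ := mem_zpowers_iff.1 hh
      exact ((show Commute x y from hxy).zpow_right k).symm
    exact centralizer_le_normalizer _ h1

/-- two independent commuting elements of order `p` : no element of order `p²` if `p³ ∤ |G|` -/
theorem no_sq_of {G : Type*} [Group G] [Finite G] {p : ℕ} [hp : Fact p.Prime] {x y : G} (hx : orderOf x = p)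
    (hy : orderOf y = p) (hxy : x * y = y * x) (hyx : y ∉ zpowers x) (hG : ¬ p ^ 3 ∣ Nat.card G) (g : G) :
    ¬ p ^ 2 ∣ orderOf g := by
  intro hg
  have ho := orderOf_pos g
  obtain ⟨m, hm⟩ := hg
  have hm0 : m ≠ 0 := by
    rintro rfl
    omega
  have hh : orderOf (g ^ m) = p ^ 2 := by
    rw [orderOf_pow_of_dvd hm0 (by rw [hm]; exact dvd_mul_left _ _), hm]
    exact Nat.mul_div_cancel _ (Nat.pos_of_ne_zero hm0)
  obtain ⟨P, hP⟩ := (sup_pgroup hx hy hxy).exists_le_sylow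
  have hz : IsPGroup p (zpowers (g ^ m)) := IsPGroup.of_card (n := 2) (by rw [Nat.card_zpowers, hh])
  obtain ⟨Q, hQ⟩ := hz.exists_le_sylow
  have hQc : Nat.card (Q : Subgroup G) ∣ p ^ 2 := by
    obtain ⟨k, hk⟩ := IsPGroup.iff_card.1 Q.2
    rw [hk]
    refine pow_dvd_pow p ?_
    by_contra hcon
    exact hG ((pow_dvd_pow p (by omega : 3 ≤ k)).trans (hk ▸ card_subgroup_dvd_card (Q : Subgroup G)))
  have hQe : zpowers (g ^ m) = (Q : Subgroup G) := by
    refine eq_of_le_of_card_ge hQ ?_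
    rw [Nat.card_zpowers, hh]
    exact Nat.le_of_dvd (pow_pos hp.out.pos 2) hQc
  have hQcyc : IsCyclic (Q : Subgroup G) := by
    rw [← hQe]
    infer_instance
  have hPc : IsCyclic (P : Subgroup G) :=
    isCyclic_of_surjective (Sylow.equiv Q P) (Sylow.equiv Q P).surjective
  exact hyx (mem_of_cyclic hPc hp.out (hP (mem_sup_left (mem_zpowers x))) (hP (mem_sup_right (mem_zpowers y))) hx hy)

theorem card_MG : ¬ 11 ^ 3 ∣ Nat.card MG := by
  rw [BpSpor.MBigModel.card_M]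
  norm_num

/-- **The Monster at 11**, the model -/
theorem model_eleven : ∃ U : Subgroup MG, IsPGroup 11 U ∧
    (∀ c : MG, c ∈ centralizer (U : Set MG) → ¬ 11 ∣ orderOf c → c = 1) ∧ ∀ g : MG, ¬ 11 ^ 2 ∣ orderOf g := by
  have : Fact (Nat.Prime 11) := ⟨by norm_num⟩
  obtain ⟨x, y, k, hx, hy, hxy, hyx, -, ⟨i⟩⟩ := H609.Inv.Eleven.exists_data
  refine ⟨zpowers x ⊔ zpowers y, sup_pgroup hx hy hxy, ?_, ?_⟩
  · intro c hc hc'
    exact cent_one hx hy hxy hyx i (mem_centralizer_iff.1 hc x (mem_sup_left (mem_zpowers x))).symm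
      (mem_centralizer_iff.1 hc y (mem_sup_right (mem_zpowers y))).symm hc'
  · have hfin : Finite MG := Nat.finite_of_card_ne_zero (by rw [BpSpor.MBigModel.card_M]; norm_num)
    exact no_sq_of hx hy hxy hyx card_MG

/-- transport -/
theorem transport {G : Type u} {H : Type v} [Group G] [Group H] (e : G ≃* H) {p : ℕ}
    (h : ∃ U : Subgroup H, IsPGroup p U ∧ (∀ c : H, c ∈ centralizer (U : Set H) → ¬ p ∣ orderOf c → c = 1) ∧
      ∀ g : H, ¬ p ^ 2 ∣ orderOf g) :
    ∃ U : Subgroup G, IsPGroup p U ∧ (∀ c : G, c ∈ centralizer (U : Set G) → ¬ p ∣ orderOf c → c = 1) ∧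
      ∀ g : G, ¬ p ^ 2 ∣ orderOf g := by
  obtain ⟨U, hU, hC, ho⟩ := h
  refine ⟨U.comap e.toMonoidHom, hU.comap_of_injective _ e.injective, ?_, ?_⟩
  · intro y hy hy'
    have h1 : e y = 1 := by
      refine hC (e y) ?_ (by rwa [MulEquiv.orderOf_eq])
      rw [mem_centralizer_iff]
      intro u hu
      have h2 := mem_centralizer_iff.1 hy (e.symm u) (by
        show e (e.symm u) ∈ U
        rwa [e.apply_symm_apply])
      have h3 := congrArg e h2
      rwa [map_mul, map_mul, e.apply_symm_apply] at h3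
    exact (map_eq_one_iff e e.injective).1 h1
  · intro g
    rw [← MulEquiv.orderOf_eq e]
    exact ho _

/-- **The Monster at 11.** -/
theorem data_eleven {S : Type u} [Group S] (h : Spor.IsoM S) : ∃ U : Subgroup S, IsPGroup 11 U ∧
    (∀ c : S, c ∈ centralizer (U : Set S) → ¬ 11 ∣ orderOf c → c = 1) ∧ ∀ g : S, ¬ 11 ^ 2 ∣ orderOf g := by
  obtain ⟨f⟩ := h
  obtain ⟨f'⟩ := Cfsg.Agent.MonsterP.Equiv.equiv
  exact transport (f.trans f') model_eleven

/-- `x0` for the Monster and `p = 11` -/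
theorem x0_eleven {S : Type u} [Group S] [Finite S] (h : Spor.IsoM S) [Fact (Nat.Prime 11)] {M : Ideal AlgInt}
    (hM : IsPModular 11 M) : x0 11 M S = Nat.card {χ : IrrCharacter S // ¬ 11 ∣ charDegree (χ : S → ℂ)} := by
  obtain ⟨U, hU, hC, ho⟩ := data_eleven h
  exact x0_eq hM hU hC ho

end Cfsg.Agent.H761.XZ
end

-- part: H629/XR/RowM
section
/-!
# S4791 + S4927: the rows of the Monster (helper629)

`row_eleven`, `row_thirteen` : `Row0 p M S` for the Monster and `p = 11, 13`: at least seven characters of degree prime to `p`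
(helper543); all of them are in `X₀` (helper761, helper404).
-/

set_option autoImplicit false

open Cfsg Subgroup

namespace Cfsg.Agent.H629.XR

open Cfsg.Agent.H674.XZ Cfsg.Agent.H668.XZ

universe u

/-- the order -/
theorem dvd_card {S : Type u} [Group S] (e : Spor.IsoM S) {p : ℕ} (hp : p = 11 ∨ p = 13) : p ∣ Nat.card S := by
  rw [Cfsg.Agent.H816.IMM.card_eq e]
  rcases hp with rfl | rfl <;> norm_num

/-- **Row of the Monster, from the number of the members of `X₀`.** -/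
theorem row_of {p : ℕ} [Fact p.Prime] {M : Ideal AlgInt} (hM : IsPModular p M) (hp : p = 11 ∨ p = 13) {S : Type u} [Group S]
    [Finite S] (e : Spor.IsoM S) (h : 7 ≤ x0 p M S) : Row0 p M S := by
  refine row0_of_inn hM (dvd_card e hp) 1 6 (H490.KB.index_le e) (by omega) ?_
  rcases hp with rfl | rfl <;> norm_num

/-- **Row of the Monster, `p = 11`.** -/
theorem row_eleven [Fact (Nat.Prime 11)] {M : Ideal AlgInt} (hM : IsPModular 11 M) {S : Type u} [Group S] [Finite S]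
    (e : Spor.IsoM S) : Row0 11 M S :=
  row_of hM (Or.inl rfl) e (by
    rw [H761.XZ.x0_eleven e hM]
    exact H543.XZ.Mon.eleven e)

/-- elements of order 41 -/
theorem cent41 (hK : H995.CopEngine.AllKnown.{0}) (hS : H715.Mon.Grp.SThree.{0}) {S : Type u} [Group S] (e : Spor.IsoM S)
    (x : S) (hx : orderOf x = 41) : Nat.card (centralizer ({x} : Set S)) = 41 :=
  H715.Mon.Exact.transport e
    (fun _ hy => H979.OreM.cent_41 hK (H241.NH.three_of (fun X hX hC => hS _ X hX hC)) hy) hx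

/-- **Row of the Monster, `p = 13`**, from the classification (`hK`), S3331 (`hS`) and the local facts at 13 (`hx`). -/
theorem row_thirteen [Fact (Nat.Prime 13)] (hK : H995.CopEngine.AllKnown.{0}) (hS : H715.Mon.Grp.SThree.{0})
    {M : Ideal AlgInt} (hM : IsPModular 13 M) {S : Type u} [Group S] [Finite S] (e : Spor.IsoM S)
    (hx : x0 13 M S = Nat.card {χ : IrrCharacter S // ¬ 13 ∣ charDegree (χ : S → ℂ)}) : Row0 13 M S :=
  row_of hM (Or.inr rfl) e (by
    rw [hx]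
    exact H543.XZ.Mon.thirteen e (cent41 hK hS e))

end Cfsg.Agent.H629.XR
end

-- part: H629/XR/RowMFin
section
/-!
# The rows of the Monster (S4791, S4927)

`row_M`: for `p = 11, 13` and a group isomorphic to the Monster, the McKay count of the principal `p`-block
(`Row0 p M S`).

* `p = 11`: `H629/XR/RowM.lean`, `row_eleven`.
* `p = 13`: `row_thirteen` with the local count `H404.XR.x0_thirteen` (helper404), the classification
  (`S0000.result`) and `S3331.result` for the elements of order 41.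
-/

set_option autoImplicit false

open Cfsg Subgroup

namespace Cfsg.Agent.H629.XR

open Cfsg.Agent.H674.XZ Cfsg.Agent.H668.XZ

universe u

/-- **The rows of the Monster**, `p = 11, 13`. -/
theorem row_M {p : ℕ} [Fact p.Prime] {M : Ideal AlgInt} (hM : IsPModular p M) (hp : p = 11 ∨ p = 13) {S : Type u} [Group S]
    [Finite S] (e : Spor.IsoM S) : Row0 p M S := by
  rcases hp with rfl | rfl
  · exact row_eleven hM e
  · exact row_thirteen (fun _ _ _ _ => Cfsg.Agent.S0000.result)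
      (fun _ _ _ X hX hC => Cfsg.Agent.S3331.result X hX hC) hM e
      (Cfsg.Agent.H404.XR.x0_thirteen e hM)

end Cfsg.Agent.H629.XR
end

-- part: H985/XR/MixE6
section
/-!
# S4791 + S4927: chains of rank-selected characters and one Galois orbit (helper985)

* `mix_chain` : a chain `L` of separated sets of nodes (elliptic case) and an invariant form of degree `D`:
  `L.length + (p - 1) / gcd(D, p - 1) ≤ x0 + 1`;
* `forms_E6_3` : the invariant forms of degrees 6 and 9 of `E₆(q)`, `q` of order 3 (from helper941's `H941/XZ/E6Nr.lean`).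
-/

set_option autoImplicit false
set_option linter.unusedSectionVars false

open Cfsg

namespace Cfsg.Agent.H985.XR

universe u v

section mix

open CoxeterSystem Cfsg.Agent.ChevalleyStructure.CoxeterGeom Cfsg.Agent.Tits.Roots Cfsg.Agent.Tits.Core
  Cfsg.Agent.Tits.Exchange Cfsg.Agent.Nodes.Reps Cfsg.Agent.Nodes.BNOf Cfsg.Agent.Nodes.StabComb
  Cfsg.Agent.Nodes.Bruhat Cfsg.Agent.Nodes.OppDec Cfsg.Agent.Nodes.LeviDec Cfsg.Agent.H796.BR
  Cfsg.Agent.Characters.Core Cfsg.Agent.H674.XZ Cfsg.Agent.H967.XZ Cfsg.Agent.H145.BR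
open Cfsg.Agent.H603.AP Cfsg.Agent.H26.XZ

variable {I W : Type*} [Fintype I] [DecidableEq I] [Group W] {Mx : CoxeterMatrix I} {cs : CoxeterSystem Mx W}
  {C : I → I → ℤ} {h : IsCartan Mx C} {r : ℕ} {S : Type u} [Group S] {T : Subgroup S} {n : I → S}
  {X : (I → ℤ) → Subgroup S} {p : ℕ} {M : Ideal AlgInt}

/-- **A chain of families and one form.** -/
theorem mix_chain [Finite W] [Finite S] [hp : Fact p.Prime] (R : RGD cs h r T n X) (hG : GG cs h T X = ⊤)
    (hM : IsPModular p M) {L : List (Finset I)} (hL : Chain cs L)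
    (hd : ∀ F ∈ L, ∀ k ∈ F, p ∣ (PJ cs h T X ({k}ᶜ : Set I)).index) (hpG : p ∣ Nat.card S) {P : Sylow p S}
    (hab : ∀ x ∈ P, ∀ y ∈ P, x * y = y * x) {D : ℕ} (h1 : 1 ≤ D) (h2 : D + 2 ≤ p) {f : LL p P → ZMod p} (h0 : f ≠ 0)
    (hP : f ∈ Pol p P D) (hW : WInv P f) : L.length + (p - 1) / Nat.gcd D (p - 1) ≤ x0 p M S + 1 := by
  have := Fintype.ofFinite S
  have key := mix_gal_one hM hpG hab h1 h2 h0 hP hW (κ := Fin L.length) (ψ := fun i => betaPJ cs h T X (L.get i))
    (c := fun i => (-1) ^ (L.get i).card)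
    (fun i => FV_elliptic R hG hM (L.get i) fun k hk => hd _ (List.get_mem L i) k hk) (fun i => ?_) (fun i j hij χ => ?_)
    fun i v _ g => ?_
  · rwa [Nat.card_eq_fintype_card, Fintype.card_fin] at key
  · intro h3
    have h4 := (Int.prime_iff_natAbs_prime.2 (by simpa using hp.out) : Prime (p : ℤ)).dvd_of_dvd_pow h3
    have h5 := Int.natAbs_dvd_natAbs.2 h4
    simp only [Int.natAbs_natCast, Int.natAbs_neg, Int.natAbs_one] at h5
    exact hp.out.one_lt.ne' (Nat.dvd_one.1 h5)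
  · rw [ip_eq, ip_eq]
    by_cases h3 : classInner (betaPJ cs h T X (L.get i)) (χ : S → ℂ) = 0
    · exact Or.inl h3
    · right
      rcases chain_sep hL i j hij with h4 | h4
      · exact beta_disjoint R hG h4 χ.2 h3
      · by_contra h5
        exact h3 (beta_disjoint R hG h4 χ.2 h5)
  · show betaPJ cs h T X (L.get i) (g ^ ex v) = betaPJ cs h T X (L.get i) g
    rw [betaPJ_eq_comb]
    exact comb_stable _ _ _ v g

end mix

section forms

open CoxeterSystem Cfsg Cfsg.Lie Cfsg.Lie.ChevalleyDatum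
open Cfsg.Agent.ChevalleyStructure Cfsg.Agent.ChevalleyStructure.Elts Cfsg.Agent.ChevalleyStructure.CoxeterGeom
  Cfsg.Agent.ChevalleyStructure.CoxeterGeomTypes Cfsg.Agent.ChevalleyStructure.NPerm
  Cfsg.Agent.ChevalleyStructure.RootVec
open Cfsg.Agent.Tits.Roots Cfsg.Agent.Tits.Core Cfsg.Agent.Nodes Cfsg.Agent.Nodes.Reps Cfsg.Agent.Nodes.BNOf
  Cfsg.Agent.Nodes.RGDChev Cfsg.Agent.Nodes.Bruhat Cfsg.Agent.Nodes.SubComb Cfsg.Agent.Nodes.Coroot
open Cfsg.Agent.BpExc.TorChev Cfsg.Agent.BpExc.TowChev Cfsg.Agent.BpExc.Fr Cfsg.Agent.BpExc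
open Cfsg.Agent.H129.WData Cfsg.Agent.H129.TorusUntw Cfsg.Agent.H129.TorusChar
open Cfsg.Agent.H210.EL Cfsg.Agent.H440.TD4 Cfsg.Agent.H765.KE Cfsg.Agent.H795 Cfsg.Agent.H795.Untw
  Cfsg.Agent.H795.Core Cfsg.Agent.H795.RowsA Cfsg.Agent.BpExc.RowsUntw Cfsg.Agent.H795.Reduce
open Cfsg.Agent.H267.KE Cfsg.Agent.H92.NE Cfsg.Agent.H508.XR Cfsg.Agent.H720.TwFr Cfsg.Agent.H795.Tw
open Cfsg.Agent.H941.XZ
open Cfsg.Agent.H603.AP hiding ev

variable {p : ℕ} [hpp : Fact p.Prime] {S : Type v} [Group S] [Finite S]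

/-- **`E₆(q)`, `q` of order 3: the forms.** -/
theorem forms_E6_3 {r : ℕ} [hr : Fact r.Prime] {F : Type u} [Field F] [Fintype F] [CharP F r] (hrp : r ≠ p)
    (h11 : 11 ≤ p) (φ : S ≃* ↥(chevE6.group F)) (hd : orderOf ((Fintype.card F : ℕ) : ZMod p) = 3) :
    p ∣ Nat.card S ∧ ∃ P : Sylow p S, (∀ x ∈ P, ∀ y ∈ P, x * y = y * x) ∧ ∃ f6 ∈ Pol p P 6, ∃ f9 ∈ Pol p P 9,
      WInv P f6 ∧ WInv P f9 ∧ ∃ A, f6 A ≠ 0 ∧ f9 A ≠ 0 := by
  have hx := sq_of_three hd
  set q : ZMod p := ((Fintype.card F : ℕ) : ZMod p) with hqdef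
  have hs : q * (-1 - q) = 1 := by
    push_cast at hx
    linear_combination -hx
  set w := CoxeterMatrix.E₆.toCoxeterSystem.wordProd (H267.KE.E6.chain3.map Prod.fst) with hw
  have hLam : ∀ {C : Fin 6 → ℤ × ℤ}, EigC H941.XZ.E6.Th3 (-1) (-1) C →
      ∀ y, lam (cv q C) (rep CoxeterMatrix.E₆.toCoxeterSystem e6T.isCartan w y) = q * lam (cv q C) y := by
    intro C hC y
    exact mem_Lam (Q := Fintype.card F) (g := AddEquiv.refl _) e6T hTh3 hx rfl hC y
  have hval : ∀ {a : ℤ × ℤ}, (0 < nrm (-1) (-1) a ∧ nrm (-1) (-1) a < 11) → ev q a ≠ 0 := fun h h0 =>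
    intCast_ne_zero h11 h.1 h.2 (nrm_of_ev hx h0)
  obtain ⟨P, L, Fo⟩ := forms_untw e6T (by norm_num) φ (cast_ne_zero hrp) (not_dvd_W h11) invC_E6 three_ne_zero
    (Or.inr Nat.prime_three) (not_dvd_small (by omega) three_ne_zero (by norm_num)) w (d := 3) (by norm_num)
    (iter3 (θ := (rep CoxeterMatrix.E₆.toCoxeterSystem e6T.isCartan w).toAddMonoidHom) hTh3)
    (by rw [← hqdef, ← hd]; exact pow_orderOf_eq_one _) (s := -1 - q) hs (fun a ha => by
      obtain ⟨r', hr', rfl⟩ := (isRoot_iff e6T CoxeterMatrix.E₆.toCoxeterSystem a).1 ha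
      rcases H941.XZ.E6.reg3 ⟨r', hr'⟩ with h | h
      · refine ⟨cv q H941.XZ.E6.R3a, hLam H941.XZ.E6.eig3a, ?_⟩
        rw [lam_cv]
        exact hval h
      · refine ⟨cv q H941.XZ.E6.R3b, hLam H941.XZ.E6.eig3b, ?_⟩
        rw [lam_cv]
        exact hval h)
  have key : ∀ {n : ℕ} {V : Fin n → Fin 6 → ℤ} {Pm : Fin 6 → Fin n → Fin n} (hV : FamOK H941.XZ.E6.Am V Pm) (k : ℕ),
      ∃ f ∈ Pol p P k, WInv P f ∧ ∀ Y : Fin 3 → Fin 6 → ℤ, OrbOK H941.XZ.E6.Th3 Y →
        f (L (Y ⟨0, by norm_num⟩)) = ev q (fval (-1) (-1) H941.XZ.E6.K3 V Y k) := fun hV k =>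
    _root_.Cfsg.Agent.H941.XZ.exists_form Fo H941.XZ.E6.hA hV (θ' := (rep CoxeterMatrix.E₆.toCoxeterSystem e6T.isCartan w).toAddMonoidHom)
      (fun _ => rfl) hTh3 hx (K3_ev hx) (by norm_num) k
  obtain ⟨f6, m6, w6, v6⟩ := key H941.XZ.E6.ok72 6
  obtain ⟨f9, m9, w9, v9⟩ := key H941.XZ.E6.ok27 9
  have a6 := v6 _ H941.XZ.E6.Y3a_ok
  have a9 := v9 _ H941.XZ.E6.Y3a_ok
  rw [H941.XZ.E6.Y3a_6, evi] at a6
  rw [H941.XZ.E6.Y3a_9] at a9
  refine ⟨Fo.dvd, P, Fo.ab, f6, m6, f9, m9, w6, w9, L (H941.XZ.E6.Y3a ⟨0, by norm_num⟩), ?_, ?_⟩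
  · rw [a6]
    exact smooth_ne_zero h11 40 (by decide +kernel)
  · rw [a9]
    exact ne_of_nrm h11 hx 40 (by decide +kernel)

end forms

end Cfsg.Agent.H985.XR
end

-- part: H941/XZ/E6Idx
section
/-!
# The maximal parabolic subgroups of `E₆(q)`, `q` of order 3 or 6 modulo `p` (S4791 + S4927; helper941)

* `dvd_idx_E6` : `p` divides the index of every maximal parabolic subgroup.
-/

set_option autoImplicit false
set_option linter.unusedSectionVars false

namespace Cfsg.Agent.H941.XZ.Idx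

open CoxeterSystem Cfsg.Agent.ChevalleyStructure.CoxeterGeom Cfsg.Agent.ChevalleyStructure.CoxeterGeomTypes
  Cfsg.Agent.Tits.Roots Cfsg.Agent.Tits.Core
  Cfsg.Agent.Nodes.Reps Cfsg.Agent.Nodes.BNOf Cfsg.Agent.Nodes.StabComb Cfsg.Agent.Nodes.Bruhat
  Cfsg.Agent.Nodes.LeviDec Cfsg.Agent.H35.ExcIdx Cfsg.Agent.H35.PoinNum Cfsg.Agent.H134.StrP
open Cfsg.Lie Cfsg.Agent.Nodes.RGDChev Cfsg.Agent.ChevalleyStructure.Elts

universe u

theorem tab_D5 : Tab (cartanOf chevE6 6) [0, 1, 2, 3, 4] 0 [(![1, 0, 0, 0, 0, 0], 0), (![-1, 0, 1, 0, 0, 0], 1),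
    (![0, 0, -1, 1, 0, 0], 2), (![0, 1, 0, -1, 1, 0], 3), (![0, -1, 0, 0, 1, 0], 4), (![0, 1, 0, 0, -1, 1], 4),
    (![0, -1, 0, 1, -1, 1], 5), (![0, 0, 1, -1, 0, 1], 6), (![1, 0, -1, 0, 0, 1], 7), (![-1, 0, 0, 0, 0, 1], 8)] :=
  Tab.of_check (by decide +kernel)

theorem tab_D5' : Tab (cartanOf chevE6 6) [1, 2, 3, 4, 5] 5 [(![0, 0, 0, 0, 0, 1], 0), (![0, 0, 0, 0, 1, -1], 1),
    (![0, 0, 0, 1, -1, 0], 2), (![0, 1, 1, -1, 0, 0], 3), (![0, -1, 1, 0, 0, 0], 4), (![1, 1, -1, 0, 0, 0], 4),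
    (![1, -1, -1, 1, 0, 0], 5), (![1, 0, 0, -1, 1, 0], 6), (![1, 0, 0, 0, -1, 1], 7), (![1, 0, 0, 0, 0, -1], 8)] :=
  Tab.of_check (by decide +kernel)

theorem tab_D4 : Tab (cartanOf chevE6 6) [1, 2, 3, 4] 4 [(![0, 0, 0, 0, 1, 0], 0), (![0, 0, 0, 1, -1, 1], 1),
    (![0, 1, 1, -1, 0, 1], 2), (![0, -1, 1, 0, 0, 1], 3), (![1, 1, -1, 0, 0, 1], 3), (![1, -1, -1, 1, 0, 1], 4),
    (![1, 0, 0, -1, 1, 1], 5), (![1, 0, 0, 0, -1, 2], 6)] :=
  Tab.of_check (by decide +kernel)

theorem path_A3 : PathOK CoxeterMatrix.E₆ [1, 2, 3] [1, 3, 2] [] 1 := by constructor <;> decide +kernel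
theorem path_A5 : PathOK CoxeterMatrix.E₆ [0, 2, 3, 4, 5] [0, 2, 3, 4, 5] [] 0 := by constructor <;> decide +kernel
theorem path_A4 : PathOK CoxeterMatrix.E₆ [0, 1, 3, 4, 5] [1, 3, 4, 5] [0] 1 := by constructor <;> decide +kernel
theorem path_A1 : PathOK CoxeterMatrix.E₆ [0] [0] [] 0 := by constructor <;> decide +kernel
theorem path_A4' : PathOK CoxeterMatrix.E₆ [0, 1, 2, 3, 5] [0, 2, 3, 1] [5] 0 := by constructor <;> decide +kernel
theorem path_A1' : PathOK CoxeterMatrix.E₆ [5] [5] [] 5 := by constructor <;> decide +kernel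
theorem path_A2 : PathOK CoxeterMatrix.E₆ [0, 1, 2, 4, 5] [0, 2] [1, 4, 5] 0 := by constructor <;> decide +kernel
theorem path_A2' : PathOK CoxeterMatrix.E₆ [1, 4, 5] [4, 5] [1] 4 := by constructor <;> decide +kernel
theorem path_A1'' : PathOK CoxeterMatrix.E₆ [1] [1] [] 1 := by constructor <;> decide +kernel

section

variable {K : Type u} [Field K] [Fintype K]

/-- the index of a parabolic subgroup -/
noncomputable abbrev ix (K : Type u) [Field K] (J : Set (Fin 6)) : ℕ :=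
  (PJ CoxeterMatrix.E₆.toCoxeterSystem hpE6.isCartan (TT chevE6 K) (XX chevE6 6 K) J).index

/-- the equation of the index -/
theorem idx_eq {J : Set (Fin 6)} {N : ℕ}
    (hN : Nat.card ↥(PJ CoxeterMatrix.E₆.toCoxeterSystem hpE6.isCartan (TT chevE6 K) (XX chevE6 6 K) J) =
      N * Nat.card ↥(RGD.B CoxeterMatrix.E₆.toCoxeterSystem hpE6.isCartan (TT chevE6 K) (XX chevE6 6 K))) :
    (ix K J : ℤ) * (N * ((Fintype.card K : ℤ) - 1) ^ 6) = ((Fintype.card K : ℤ) ^ 2 - 1) * ((Fintype.card K : ℤ) ^ 5 - 1) *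
      ((Fintype.card K : ℤ) ^ 6 - 1) * ((Fintype.card K : ℤ) ^ 8 - 1) * ((Fintype.card K : ℤ) ^ 9 - 1) *
      ((Fintype.card K : ℤ) ^ 12 - 1) := by
  obtain ⟨r, hr⟩ := CharP.exists K
  have hrp : r.Prime := CharP.char_is_prime K r
  have : Fact r.Prime := ⟨hrp⟩
  obtain ⟨f, -, hK⟩ := FiniteField.card K r
  have hf : (f : ℕ) ≠ 0 := f.pos.ne'
  have hq1 : 1 ≤ Fintype.card K := Fintype.card_pos
  have hord : ∃ b, Nat.gcd 3 (r ^ (f : ℕ) - 1) * Nat.card (chevE6.group K) = r ^ b * pr (r ^ (f : ℕ)) [2, 5, 6, 8, 9, 12] := by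
    refine ⟨f * 36, ?_⟩
    have h3 := Cfsg.Agent.S1063.result hK
    rw [pow_mul]
    simp only [pr_cons, pr_nil]
    rw [h3]
    ring
  have h1 := index_split hpE6 K hrp hf hK CoxeterMatrix.E₆.toCoxeterSystem (d := Nat.gcd 3 (r ^ (f : ℕ) - 1)) (N := N)
    (P := pr (r ^ (f : ℕ)) [2, 5, 6, 8, 9, 12]) (not_dvd_of_dvd hrp hf (Nat.gcd_dvd_right _ _))
    (by rw [← hK]; exact Cfsg.Agent.S1035.result rfl (chevE6, Nat.gcd 3 (Fintype.card K - 1)) (by simp only [_root_.List.mem_cons, _root_.Prod.mk.injEq, _root_.List.not_mem_nil, _root_.or_false, _root_.true_or, _root_.or_true]))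
    hord (not_dvd_pr hrp hf _ (by simp only [_root_.List.mem_cons, _root_.List.not_mem_nil, _root_.or_false, _root_.forall_eq_or_imp, _root_.Order.lt_two_iff, _root_.zero_le, _root_.Nat.ofNat_pos, _root_.forall_eq, _root_.and_self])) hN
  rw [← hK] at h1
  have h2 : ∀ i : ℕ, ((Fintype.card K ^ i - 1 : ℕ) : ℤ) = (Fintype.card K : ℤ) ^ i - 1 := fun i => by
    rw [Nat.cast_sub (Nat.one_le_pow _ _ hq1), Nat.cast_pow, Nat.cast_one]
  have h3 := congrArg (Nat.cast (R := ℤ)) h1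
  simp only [pr_cons, pr_nil, Nat.cast_mul, Nat.cast_pow, h2, mul_one] at h3
  rw [Nat.cast_sub hq1, Nat.cast_one] at h3
  linear_combination h3

theorem size_XX (i : Fin 6) : Nat.card (XX chevE6 6 K (sr i)) = Fintype.card K := by
  rw [card_XX hpE6 K CoxeterMatrix.E₆.toCoxeterSystem (isRoot_sr _ _ i), Nat.card_eq_fintype_card]

theorem two_le_card : 2 ≤ Fintype.card K := Fintype.one_lt_card

/-- cancellation -/
theorem cancel {i A B C N R : ℤ} (h : i * N = R) (hN : N = A * C) (hR : R = B * C) (hC : C ≠ 0) : i * A = B := by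
  have h1 : (i * A - B) * C = 0 := by
    rw [hN, hR] at h
    linear_combination h
  rcases mul_eq_zero.1 h1 with h2 | h2
  · exact sub_eq_zero.1 h2
  · exact absurd h2 hC

theorem pos_sub {q : ℤ} (hq : 2 ≤ q) {n : ℕ} (hn : n ≠ 0) : q ^ n - 1 ≠ 0 := by
  have h : 1 < q ^ n := one_lt_pow₀ (by omega) hn
  omega

/-- the index, type `D₅` -/
theorem idx5 {J : Set (Fin 6)} (hJ : J = {j | j ∈ ([0, 1, 2, 3, 4] : List (Fin 6))} ∨ J = {j | j ∈ ([1, 2, 3, 4, 5] : List (Fin 6))}) :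
    (ix K J : ℤ) * (((Fintype.card K : ℤ) - 1) * ((Fintype.card K : ℤ) ^ 4 - 1)) =
      ((Fintype.card K : ℤ) ^ 9 - 1) * ((Fintype.card K : ℤ) ^ 12 - 1) := by
  obtain ⟨l, hl⟩ := CharP.exists K
  have : Fact l.Prime := ⟨CharP.char_is_prime K l⟩
  have := finite_W hpE6 CoxeterMatrix.E₆.toCoxeterSystem
  have R := rgd (K := K) hpE6 CoxeterMatrix.E₆.toCoxeterSystem l
  have h1 := card_step R path_A3 (y := Fintype.card K) (fun i _ => size_XX i) (card_nil R)
  have h2 := card_tab_step R tab_D4 (y := Fintype.card K) (fun i _ => size_XX i) (J' := [1, 2, 3]) (by decide) h1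
  have hq : (2 : ℤ) ≤ Fintype.card K := by exact_mod_cast two_le_card
  have hC : ((Fintype.card K : ℤ) ^ 2 - 1) * ((Fintype.card K : ℤ) ^ 5 - 1) * ((Fintype.card K : ℤ) ^ 6 - 1) *
      ((Fintype.card K : ℤ) ^ 8 - 1) ≠ 0 :=
    mul_ne_zero (mul_ne_zero (mul_ne_zero (pos_sub hq (by norm_num)) (pos_sub hq (by norm_num))) (pos_sub hq (by norm_num)))
      (pos_sub hq (by norm_num))
  rcases hJ with rfl | rfl
  · have h3 := card_tab_step R tab_D5 (y := Fintype.card K) (fun i _ => size_XX i) (J' := [1, 2, 3, 4]) (by decide) h2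
    refine cancel (idx_eq h3) ?_ ?_ hC
    · simp only [List.map_cons, List.map_nil, List.sum_cons, List.sum_nil, List.length_cons, List.length_nil, FA,
        Finset.prod_range_succ, Finset.prod_range_zero, Finset.sum_range_succ, Finset.sum_range_zero]
      push_cast
      ring
    · ring
  · have h3 := card_tab_step R tab_D5' (y := Fintype.card K) (fun i _ => size_XX i) (J' := [1, 2, 3, 4]) (by decide) h2
    refine cancel (idx_eq h3) ?_ ?_ hC
    · simp only [List.map_cons, List.map_nil, List.sum_cons, List.sum_nil, List.length_cons, List.length_nil, FA,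
        Finset.prod_range_succ, Finset.prod_range_zero, Finset.sum_range_succ, Finset.sum_range_zero]
      push_cast
      ring
    · ring

/-- the index, type `A₅` -/
theorem idx1 : (ix K {j | j ∈ ([0, 2, 3, 4, 5] : List (Fin 6))} : ℤ) * (((Fintype.card K : ℤ) - 1) * ((Fintype.card K : ℤ) ^ 4 - 1)) =
      ((Fintype.card K : ℤ) ^ 8 - 1) * ((Fintype.card K : ℤ) ^ 6 + (Fintype.card K : ℤ) ^ 3 + 1) *
        ((Fintype.card K : ℤ) ^ 12 - 1) := by
  obtain ⟨l, hl⟩ := CharP.exists K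
  have : Fact l.Prime := ⟨CharP.char_is_prime K l⟩
  have := finite_W hpE6 CoxeterMatrix.E₆.toCoxeterSystem
  have R := rgd (K := K) hpE6 CoxeterMatrix.E₆.toCoxeterSystem l
  have h1 := card_step R path_A5 (y := Fintype.card K) (fun i _ => size_XX i) (card_nil R)
  have hq : (2 : ℤ) ≤ Fintype.card K := by exact_mod_cast two_le_card
  refine cancel (C := ((Fintype.card K : ℤ) ^ 2 - 1) * ((Fintype.card K : ℤ) ^ 5 - 1) * ((Fintype.card K : ℤ) ^ 6 - 1) *
      ((Fintype.card K : ℤ) ^ 3 - 1)) (idx_eq h1) ?_ ?_ ?_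
  · simp only [List.length_cons, List.length_nil, FA,
      Finset.prod_range_succ, Finset.prod_range_zero, Finset.sum_range_succ, Finset.sum_range_zero]
    push_cast
    ring
  · ring
  · exact mul_ne_zero (mul_ne_zero (mul_ne_zero (pos_sub hq (by norm_num)) (pos_sub hq (by norm_num))) (pos_sub hq (by norm_num)))
      (pos_sub hq (by norm_num))

/-- the index, type `A₄ A₁` -/
theorem idx2 {J : Set (Fin 6)} (hJ : J = {j | j ∈ ([0, 1, 3, 4, 5] : List (Fin 6))} ∨ J = {j | j ∈ ([0, 1, 2, 3, 5] : List (Fin 6))}) :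
    (ix K J : ℤ) * (((Fintype.card K : ℤ) - 1) * ((Fintype.card K : ℤ) ^ 2 - 1) * ((Fintype.card K : ℤ) ^ 4 - 1)) =
      ((Fintype.card K : ℤ) ^ 3 + 1) * ((Fintype.card K : ℤ) ^ 8 - 1) * ((Fintype.card K : ℤ) ^ 9 - 1) *
        ((Fintype.card K : ℤ) ^ 12 - 1) := by
  obtain ⟨l, hl⟩ := CharP.exists K
  have : Fact l.Prime := ⟨CharP.char_is_prime K l⟩
  have := finite_W hpE6 CoxeterMatrix.E₆.toCoxeterSystem
  have R := rgd (K := K) hpE6 CoxeterMatrix.E₆.toCoxeterSystem l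
  have hq : (2 : ℤ) ≤ Fintype.card K := by exact_mod_cast two_le_card
  have hC : ((Fintype.card K : ℤ) ^ 2 - 1) * ((Fintype.card K : ℤ) ^ 5 - 1) * ((Fintype.card K : ℤ) ^ 3 - 1) ≠ 0 :=
    mul_ne_zero (mul_ne_zero (pos_sub hq (by norm_num)) (pos_sub hq (by norm_num))) (pos_sub hq (by norm_num))
  rcases hJ with rfl | rfl
  · have h1 := card_step R path_A4 (y := Fintype.card K) (fun i _ => size_XX i)
      (card_step R path_A1 (y := Fintype.card K) (fun i _ => size_XX i) (card_nil R))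
    refine cancel (idx_eq h1) ?_ ?_ hC
    · simp only [List.length_cons, List.length_nil, FA,
        Finset.prod_range_succ, Finset.prod_range_zero, Finset.sum_range_succ, Finset.sum_range_zero]
      push_cast
      ring
    · ring
  · have h1 := card_step R path_A4' (y := Fintype.card K) (fun i _ => size_XX i)
      (card_step R path_A1' (y := Fintype.card K) (fun i _ => size_XX i) (card_nil R))
    refine cancel (idx_eq h1) ?_ ?_ hC
    · simp only [List.length_cons, List.length_nil, FA,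
        Finset.prod_range_succ, Finset.prod_range_zero, Finset.sum_range_succ, Finset.sum_range_zero]
      push_cast
      ring
    · ring

/-- the index, type `A₂ A₁ A₂` -/
theorem idx3 : (ix K {j | j ∈ ([0, 1, 2, 4, 5] : List (Fin 6))} : ℤ) *
      (((Fintype.card K : ℤ) - 1) * ((Fintype.card K : ℤ) ^ 2 - 1) ^ 2) =
      ((Fintype.card K : ℤ) ^ 5 - 1) * ((Fintype.card K : ℤ) ^ 3 + 1) * ((Fintype.card K : ℤ) ^ 8 - 1) *
        ((Fintype.card K : ℤ) ^ 6 + (Fintype.card K : ℤ) ^ 3 + 1) * ((Fintype.card K : ℤ) ^ 12 - 1) := by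
  obtain ⟨l, hl⟩ := CharP.exists K
  have : Fact l.Prime := ⟨CharP.char_is_prime K l⟩
  have := finite_W hpE6 CoxeterMatrix.E₆.toCoxeterSystem
  have R := rgd (K := K) hpE6 CoxeterMatrix.E₆.toCoxeterSystem l
  have h1 := card_step R path_A2 (y := Fintype.card K) (fun i _ => size_XX i)
    (card_step R path_A2' (y := Fintype.card K) (fun i _ => size_XX i)
      (card_step R path_A1'' (y := Fintype.card K) (fun i _ => size_XX i) (card_nil R)))
  have hq : (2 : ℤ) ≤ Fintype.card K := by exact_mod_cast two_le_card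
  refine cancel (C := ((Fintype.card K : ℤ) ^ 2 - 1) * ((Fintype.card K : ℤ) ^ 3 - 1) ^ 2) (idx_eq h1) ?_ ?_ ?_
  · simp only [List.length_cons, List.length_nil, FA,
      Finset.prod_range_succ, Finset.prod_range_zero, Finset.sum_range_succ, Finset.sum_range_zero]
    push_cast
    ring
  · ring
  · exact mul_ne_zero (pos_sub hq (by norm_num)) (pow_ne_zero _ (pos_sub hq (by norm_num)))

end

section

variable {p : ℕ} [hp : Fact p.Prime] {K : Type u} [Field K] [Fintype K]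

/-- the powers of `q` -/
theorem pow_ne {y : ZMod p} (h : orderOf y = 3 ∨ orderOf y = 6) {n : ℕ} (hn : n = 1 ∨ n = 2 ∨ n = 4) : y ^ n - 1 ≠ 0 := by
  intro h1
  have h2 := orderOf_dvd_of_pow_eq_one (sub_eq_zero.1 h1)
  rcases h with h | h <;> rcases hn with rfl | rfl | rfl <;> rw [h] at h2 <;> omega

theorem pow_twelve {y : ZMod p} (h : orderOf y = 3 ∨ orderOf y = 6) : y ^ 12 - 1 = 0 := by
  rw [sub_eq_zero]
  refine orderOf_dvd_iff_pow_eq_one.1 ?_
  rcases h with h | h <;> rw [h] <;> norm_num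

/-- **`p` divides the index of every maximal parabolic subgroup.** -/
theorem dvd_idx_E6 (hd : orderOf ((Fintype.card K : ℕ) : ZMod p) = 3 ∨ orderOf ((Fintype.card K : ℕ) : ZMod p) = 6) (k : Fin 6) :
    p ∣ (PJ CoxeterMatrix.E₆.toCoxeterSystem hpE6.isCartan (TT chevE6 K) (XX chevE6 6 K) ({k}ᶜ : Set (Fin 6))).index := by
  change p ∣ ix K ({k}ᶜ : Set (Fin 6))
  rw [← CharP.cast_eq_zero_iff (ZMod p) p]
  have h1 := pow_ne hd (n := 1) (Or.inl rfl)
  have h2 := pow_ne hd (n := 2) (Or.inr (Or.inl rfl))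
  have h4 := pow_ne hd (n := 4) (Or.inr (Or.inr rfl))
  have h12 := pow_twelve hd
  rw [pow_one] at h1
  set y : ZMod p := ((Fintype.card K : ℕ) : ZMod p) with hy
  have key : ∀ {J : Set (Fin 6)} {A B : ℤ}, (ix K J : ℤ) * A = B → (A : ZMod p) ≠ 0 → (B : ZMod p) = 0 →
      ((ix K J : ℕ) : ZMod p) = 0 := by
    intro J A B h hA hB
    have h5 := congrArg (Int.cast (R := ZMod p)) h
    rw [Int.cast_mul, hB, Int.cast_natCast] at h5
    exact (mul_eq_zero.1 h5).resolve_right hA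
  rcases (show k = 0 ∨ k = 1 ∨ k = 2 ∨ k = 3 ∨ k = 4 ∨ k = 5 by revert k; decide) with rfl | rfl | rfl | rfl | rfl | rfl
  · refine key (idx5 (Or.inr (by ext j; revert j; decide))) ?_ ?_
    · push_cast
      exact mul_ne_zero h1 h4
    · push_cast
      rw [h12, mul_zero]
  · have hJ : ({1}ᶜ : Set (Fin 6)) = {j | j ∈ ([0, 2, 3, 4, 5] : List (Fin 6))} := by ext j; revert j; decide
    rw [hJ]
    refine key idx1 ?_ ?_
    · push_cast
      exact mul_ne_zero h1 h4
    · push_cast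
      rw [h12, mul_zero]
  · refine key (idx2 (Or.inl (by ext j; revert j; decide))) ?_ ?_
    · push_cast
      exact mul_ne_zero (mul_ne_zero h1 h2) h4
    · push_cast
      rw [h12, mul_zero]
  · have hJ : ({3}ᶜ : Set (Fin 6)) = {j | j ∈ ([0, 1, 2, 4, 5] : List (Fin 6))} := by ext j; revert j; decide
    rw [hJ]
    refine key idx3 ?_ ?_
    · push_cast
      exact mul_ne_zero h1 (pow_ne_zero _ h2)
    · push_cast
      rw [h12, mul_zero]
  · refine key (idx2 (Or.inr (by ext j; revert j; decide))) ?_ ?_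
    · push_cast
      exact mul_ne_zero (mul_ne_zero h1 h2) h4
    · push_cast
      rw [h12, mul_zero]
  · refine key (idx5 (Or.inl (by ext j; revert j; decide))) ?_ ?_
    · push_cast
      exact mul_ne_zero h1 h4
    · push_cast
      rw [h12, mul_zero]

end

end Cfsg.Agent.H941.XZ.Idx
end

-- part: H875/XE/ESix
section
/-!
# S4791 + S4927, row `E₆(q)`, `d = 4, 6` (helper875)

* `kJ_four`, `kJ_six` : `p + 5 ≤ 2 kJ` (helper267's lines, helper76's `kJ_of_elt_add`, `kJ_of_two`);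
* `x0_eq_kJ_four`, `x0_eq_kJ_six` : helper214's `x0_eq_kJ_untw` with a regular vector;
* `x0_E6_46` : `p + 5 ≤ 2 x0`.
-/

set_option autoImplicit false
set_option linter.unusedSectionVars false

namespace Cfsg.Agent.H875.XE

open CoxeterSystem Cfsg Cfsg.Lie Cfsg.Lie.ChevalleyDatum
open Cfsg.Agent.ChevalleyStructure Cfsg.Agent.ChevalleyStructure.Elts Cfsg.Agent.ChevalleyStructure.CoxeterGeom
  Cfsg.Agent.ChevalleyStructure.CoxeterGeomTypes Cfsg.Agent.ChevalleyStructure.NPerm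
  Cfsg.Agent.ChevalleyStructure.RootVec
open Cfsg.Agent.Tits.Roots Cfsg.Agent.Tits.Core Cfsg.Agent.Nodes Cfsg.Agent.Nodes.Reps Cfsg.Agent.Nodes.BNOf
  Cfsg.Agent.Nodes.RGDChev Cfsg.Agent.Nodes.Bruhat Cfsg.Agent.Nodes.SubComb Cfsg.Agent.Nodes.Coroot
open Cfsg.Agent.BpExc.TorChev Cfsg.Agent.BpExc.TowChev Cfsg.Agent.BpExc.Fr Cfsg.Agent.BpExc
open Cfsg.Agent.H129.WData Cfsg.Agent.H129.TorusUntw Cfsg.Agent.H129.TorusChar
open Cfsg.Agent.H210.EL Cfsg.Agent.H440.TD4 Cfsg.Agent.H765.KE Cfsg.Agent.H795 Cfsg.Agent.H795.Untw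
  Cfsg.Agent.H795.Core Cfsg.Agent.H795.RowsA Cfsg.Agent.BpExc.RowsUntw Cfsg.Agent.H795.Reduce
open Cfsg.Agent.H267.KE
open Cfsg.Agent.H508.XR (kJ)
open Cfsg.Agent.H674.XZ (x0)

universe u v

/-- all the values at the roots have small norm -/
def RegOK (D : ChevalleyDatum) {l : ℕ} (Th : Mat l) (s t : ℤ) (C : Fin l → ℤ × ℤ) : Prop :=
  EigC Th s t C ∧ ∀ r : Fin D.nroots, 0 < nrm s t (dotv D C r) ∧ nrm s t (dotv D C r) < 11

instance decRegOK (D : ChevalleyDatum) {l : ℕ} (Th : Mat l) (s t : ℤ) (C : Fin l → ℤ × ℤ) :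
    Decidable (RegOK D Th s t C) := by
  unfold RegOK; infer_instance

/-- the regular vector, `d = 4` -/
def R4 : Fin 6 → ℤ × ℤ := ![(-2, 0), (0, 2), (2, -2), (-1, 1), (2, 0), (-2, -1)]

/-- the regular vector, `d = 6` -/
def R6 : Fin 6 → ℤ × ℤ := ![(0, 1), (0, 1), (0, 1), (-1, -2), (0, 2), (0, -1)]

theorem reg4 : RegOK chevE6 (hd E6.chain4) 0 (-1) R4 := by decide +kernel

theorem reg6 : RegOK chevE6 (hd E6.chain6) 1 (-1) R6 := by decide +kernel

section reg

variable {D : ChevalleyDatum} {l : ℕ} {s t : ℤ} {Th : Mat l} {C : Fin l → ℤ × ℤ} {p : ℕ} [hpp : Fact p.Prime]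
  {x : ZMod p}

theorem RegOK.ne (h : RegOK D Th s t C) (h11 : 11 ≤ p) (hx : x * x = s * x + t) (r : Fin D.nroots) :
    lam (cv x C) (vec D l r) ≠ 0 := by
  rw [lam_cv]
  show ev _ (dotv D C r) ≠ 0
  intro h1
  exact intCast_ne_zero h11 (h.2 r).1 (h.2 r).2 (nrm_of_ev hx h1)

theorem RegOK.zeros (h : RegOK D Th s t C) (h11 : 11 ≤ p) (hx : x * x = s * x + t) :
    H267.KE.zeros D l (cv x C) = 0 := by
  unfold H267.KE.zeros
  exact Finset.sum_eq_zero fun r _ => if_neg (h.ne h11 hx r)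

end reg

variable {r : ℕ} [hr : Fact r.Prime] {F : Type} [Field F] [Fintype F] [CharP F r] {p : ℕ} [hpp : Fact p.Prime]
  {S : Type v} [Group S] [Finite S] {M : Ideal AlgInt}

/-- **`d = 4`**: `(p - 1) / 2 + 3 ≤ kJ` -/
theorem kJ_four (hM : IsPModular p M) (hrp : r ≠ p) (h11 : 11 ≤ p) (φ : S ≃* ↥(chevE6.group F))
    (hd : orderOf ((Fintype.card F : ℕ) : ZMod p) = 4) : p + 5 ≤ 2 * kJ p M S := by
  obtain ⟨X, m⟩ := modelE6 hrp h11 φ (CoxeterMatrix.E₆.toCoxeterSystem.wordProd (E6.chain4.map Prod.fst))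
  have hx := sq_of_four hd
  have h4 : 4 ∣ p - 1 := dvd_sub_one (by norm_num) hd
  have hc1 := E6.line4a.mem (hp := e6T) (Q := Fintype.card F) (hTh E6.chainOK4) hx
  have hc0 : cv ((Fintype.card F : ℕ) : ZMod p) R4 ∈ Lam e6T p (Fintype.card F) (AddEquiv.refl (Fin 6 → ℤ))
      (CoxeterMatrix.E₆.toCoxeterSystem.wordProd (E6.chain4.map Prod.fst)) :=
    H267.KE.mem_Lam e6T (hTh E6.chainOK4) hx rfl reg4.1
  have hp1 : psum chevE6 6 8 (cv ((Fintype.card F : ℕ) : ZMod p) E6.C4a) ≠ 0 := by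
    rw [psum_cv hx, E6.psum4a_8, ev_int]
    exact smooth_ne_zero h11 5 (by norm_num)
  have hp2 : psum chevE6 6 12 (cv ((Fintype.card F : ℕ) : ZMod p) E6.C4a) ≠ 0 := by
    rw [psum_cv hx, E6.psum4a_12, ev_int]
    have h1 : ((480 : ℤ) : ZMod p) ≠ 0 := smooth_ne_zero h11 5 (by norm_num)
    have h2 : ((31 : ℤ) : ZMod p) ≠ 0 := by
      intro h3
      rw [ZMod.intCast_zmod_eq_zero_iff_dvd] at h3
      have h4' : p ∣ 31 := by exact_mod_cast h3
      have h5 := (Nat.prime_dvd_prime_iff_eq hpp.out (by norm_num)).1 h4'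
      omega
    have h3 : ((14880 : ℤ) : ZMod p) = ((480 : ℤ) : ZMod p) * ((31 : ℤ) : ZMod p) := by
      rw [← Int.cast_mul]
      norm_num
    rw [h3]
    exact mul_ne_zero h1 h2
  have hfus : ∀ (g : S) (i : ℕ), g * X (cv ((Fintype.card F : ℕ) : ZMod p) E6.C4a) * g⁻¹ =
      X (cv ((Fintype.card F : ℕ) : ZMod p) E6.C4a) ^ i → (i : ZMod p) ^ 4 = 1 := by
    intro g i hg
    have h8 := pow_of_conj m hc1 hp1 g i hg
    have h12 := pow_of_conj m hc1 hp2 g i hg
    have h13 : (i : ZMod p) ^ 12 = (i : ZMod p) ^ 8 * (i : ZMod p) ^ 4 := by ring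
    rw [h13, h8, one_mul] at h12
    exact h12
  have hc0ne : cv ((Fintype.card F : ℕ) : ZMod p) R4 ≠ 0 := by
    intro h
    have := reg4.ne h11 hx (⟨0, by decide⟩ : Fin chevE6.nroots)
    rw [h, lam_zero'] at this
    exact this rfl
  have ho1 : orderOf (X (cv ((Fintype.card F : ℕ) : ZMod p) E6.C4a)) = p := by
    rw [orderOf_X m hc1 (ne_zero_of_psum (by norm_num) hp1), pow_one]
  have ho0 : orderOf (X (cv ((Fintype.card F : ℕ) : ZMod p) R4)) = p := by
    rw [orderOf_X m hc0 hc0ne, pow_one]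
  have hz : H267.KE.zeros chevE6 6 (cv ((Fintype.card F : ℕ) : ZMod p) R4) ≠
      H267.KE.zeros chevE6 6 (cv ((Fintype.card F : ℕ) : ZMod p) E6.C4a) := by
    rw [zeros_cv h11 hx E6.small4a, E6.zeros4a, reg4.zeros h11 hx]
    norm_num
  have h1 := H76.KJ.kJ_of_elt_add (by omega) hM (X (cv ((Fintype.card F : ℕ) : ZMod p) E6.C4a)) ho1 4 2 hfus
    (E6.line4a.rank m hM h11 (hTh E6.chainOK4) hx) (X (cv ((Fintype.card F : ℕ) : ZMod p) R4)) ho0 (fun i hi => by
      obtain ⟨g, hg⟩ := isConj_iff.1 hi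
      exact ne_of_zeros m hc0 hc1 hc0ne hz g i hg)
  have h2 := E6.line4a.rank_top m hM h11 (hTh E6.chainOK4) hx
  obtain ⟨n, hn⟩ := h4
  have h3 : (p - 1) / 4 = n := by rw [hn]; exact Nat.mul_div_cancel_left n (by norm_num)
  rw [h3] at h1
  have := hpp.out.two_le
  omega

/-- **`d = 6`** -/
theorem kJ_six (hM : IsPModular p M) (hrp : r ≠ p) (h11 : 11 ≤ p) (φ : S ≃* ↥(chevE6.group F))
    (hd : orderOf ((Fintype.card F : ℕ) : ZMod p) = 6) : p + 5 ≤ 2 * kJ p M S := by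
  obtain ⟨h1, x, x', hx, hx', hf, hf', hne, hb, hb'⟩ := twoL_six hM hrp h11 φ hd
  rw [pow_one] at hx hx'
  have h2 := H76.KJ.kJ_of_two (by omega) hM x x' hx hx' 6 6 2 2 hf hf' hne hb hb'
  obtain ⟨n, hn⟩ := dvd_sub_one (by norm_num : 6 ≠ 0) hd
  have h3 : (p - 1) / 6 = n := by rw [hn]; exact Nat.mul_div_cancel_left n (by norm_num)
  rw [h3] at h2
  have := hpp.out.two_le
  omega

theorem x0_eq_kJ_four (hM : IsPModular p M) (hrp : r ≠ p) (h11 : 11 ≤ p) (φ : S ≃* ↥(chevE6.group F))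
    (hd : orderOf ((Fintype.card F : ℕ) : ZMod p) = 4) : x0 p M S = kJ p M S := by
  have hx := sq_of_four hd
  have hW : ¬ p ∣ 51840 := by
    intro h
    have := dvd_51840 hpp.out (by omega) h
    omega
  have hmem : ∀ {C : Fin 6 → ℤ × ℤ}, EigC (H129.WData.hd E6.chain4) 0 (-1) C →
      cv ((Fintype.card F : ℕ) : ZMod p) C ∈ H567.KB.LamU e6T p (Fintype.card F)
        (CoxeterMatrix.E₆.toCoxeterSystem.wordProd (E6.chain4.map Prod.fst)) := fun h =>
    H267.KE.mem_Lam e6T (hTh E6.chainOK4) hx rfl h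
  have hreg := fun s => reg4.ne h11 hx (D := chevE6) s
  refine H214.XR.x0_eq_kJ_untw (D := chevE6) (dg := [2, 5, 6, 8, 9, 12]) (by simp) e6T hM (cast_ne_zero hrp)
    hW (by rw [card_E6]; exact hW) invC_E6 three_ne_zero
    ((Nat.coprime_primes Nat.prime_three hpp.out).2 (by omega)) φ ?_
    (CoxeterMatrix.E₆.toCoxeterSystem.wordProd (E6.chain4.map Prod.fst)) (hmem reg4.1) (hmem E6.line4a.1)
    (hmem E6.line4a.2.1) ?_ (fun s hs => absurd hs (hreg s)) ?_
  · rw [hd]; decide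
  · intro a b h
    have e1 := congrFun h 1
    have e5 := congrFun h 5
    have h2 : (2 : ZMod p) ≠ 0 := by
      have := smooth_ne_zero h11 (n := 2) 1 (by norm_num)
      exact_mod_cast this
    have hq : ((Fintype.card F : ℕ) : ZMod p) ≠ 0 := by
      intro h0
      rw [h0] at hx
      simp at hx
    simp only [cv, ev, E6.C4a, E6.B4a, _root_.Int.reduceNeg, _root_.Fin.isValue, _root_.Pi.add_apply, _root_.Pi.smul_apply, _root_.Matrix.cons_val_one, _root_.Matrix.cons_val_zero, _root_.Int.cast_zero, _root_.MulZeroClass.zero_mul, _root_.add_zero, _root_.smul_eq_mul, _root_.MulZeroClass.mul_zero, _root_.Int.cast_ofNat, _root_.zero_add, _root_.Pi.zero_apply, _root_.mul_eq_zero, _root_.Matrix.cons_val, _root_.Int.cast_one, _root_.mul_one] at e1 e5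
    exact ⟨e5, (e1.resolve_right (by simp [h2, hq]))⟩
  · intro h
    have := hreg (⟨0, by decide⟩ : Fin chevE6.nroots)
    rw [h, lam_zero'] at this
    exact this rfl

theorem x0_eq_kJ_six (hM : IsPModular p M) (hrp : r ≠ p) (h11 : 11 ≤ p) (φ : S ≃* ↥(chevE6.group F))
    (hd : orderOf ((Fintype.card F : ℕ) : ZMod p) = 6) : x0 p M S = kJ p M S := by
  have hx := sq_of_six hd
  have hW : ¬ p ∣ 51840 := by
    intro h
    have := dvd_51840 hpp.out (by omega) h
    omega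
  have hmem : ∀ {C : Fin 6 → ℤ × ℤ}, EigC (H129.WData.hd E6.chain6) 1 (-1) C →
      cv ((Fintype.card F : ℕ) : ZMod p) C ∈ H567.KB.LamU e6T p (Fintype.card F)
        (CoxeterMatrix.E₆.toCoxeterSystem.wordProd (E6.chain6.map Prod.fst)) := fun h =>
    H267.KE.mem_Lam e6T (hTh E6.chainOK6) hx rfl h
  have hreg := fun s => reg6.ne h11 hx (D := chevE6) s
  refine H214.XR.x0_eq_kJ_untw (D := chevE6) (dg := [2, 5, 6, 8, 9, 12]) (by simp) e6T hM (cast_ne_zero hrp)
    hW (by rw [card_E6]; exact hW) invC_E6 three_ne_zero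
    ((Nat.coprime_primes Nat.prime_three hpp.out).2 (by omega)) φ ?_
    (CoxeterMatrix.E₆.toCoxeterSystem.wordProd (E6.chain6.map Prod.fst)) (hmem reg6.1) (hmem E6.line6a.1)
    (hmem E6.line6a.2.1) ?_ (fun s hs => absurd hs (hreg s)) ?_
  · rw [hd]; decide
  · intro a b h
    have e2 := congrFun h 2
    have e5 := congrFun h 5
    simp only [cv, ev, E6.C6a, E6.B6a, _root_.Int.reduceNeg, _root_.Fin.isValue, _root_.Pi.add_apply, _root_.Pi.smul_apply, _root_.Matrix.cons_val, _root_.Int.cast_zero, _root_.MulZeroClass.zero_mul, _root_.add_zero, _root_.smul_eq_mul, _root_.MulZeroClass.mul_zero, _root_.Int.cast_one, _root_.mul_one, _root_.zero_add, _root_.Pi.zero_apply] at e2 e5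
    exact ⟨e5, e2⟩
  · intro h
    have := hreg (⟨0, by decide⟩ : Fin chevE6.nroots)
    rw [h, lam_zero'] at this
    exact this rfl

/-- **`p + 5 ≤ 2 x0`** for `E₆(q)`, `d = 4, 6`. -/
theorem x0_E6_46 (hM : IsPModular p M) (hrp : r ≠ p) (h11 : 11 ≤ p) (φ : S ≃* ↥(chevE6.group F))
    (hd : orderOf ((Fintype.card F : ℕ) : ZMod p) = 4 ∨ orderOf ((Fintype.card F : ℕ) : ZMod p) = 6) :
    p + 5 ≤ 2 * x0 p M S := by
  rcases hd with hd | hd
  · rw [x0_eq_kJ_four hM hrp h11 φ hd]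
    exact kJ_four hM hrp h11 φ hd
  · rw [x0_eq_kJ_six hM hrp h11 φ hd]
    exact kJ_six hM hrp h11 φ hd

end Cfsg.Agent.H875.XE
end

-- part: H985/XR/RowE6
section
/-!
# S4791 + S4927: the row `E₆(q)` in cross characteristic (helper985)

* `extY_E6` : two extendible members of `X0`;
* `row_ext2_19` : the criterion for `p = 19`, `11 ≤ x0`, two extendible members;
* `x0_E6_13`, `x0_E6_19` : `q` of order 3: six elliptic families and one Galois orbit;
* `row_E6` : the row.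
-/

set_option autoImplicit false
set_option linter.unusedSectionVars false

open Cfsg

namespace Cfsg.Agent.H985.XR

universe u v

open CoxeterSystem Cfsg.Agent.ChevalleyStructure.CoxeterGeom Cfsg.Agent.ChevalleyStructure.CoxeterGeomTypes
  Cfsg.Agent.Tits.Roots Cfsg.Agent.Tits.Core
  Cfsg.Agent.Nodes.Reps Cfsg.Agent.Nodes.BNOf Cfsg.Agent.Nodes.StabComb Cfsg.Agent.Nodes.Bruhat
  Cfsg.Agent.Nodes.LeviDec Cfsg.Agent.H35.ExcIdx
open Cfsg.Lie Cfsg.Agent.Nodes.RGDChev Cfsg.Agent.ChevalleyStructure.Elts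
open Cfsg.Agent.H674.XZ Cfsg.Agent.H603.AP
open Cfsg.Agent.H508.KB (AbOut)
open Cfsg.Agent.H508.XR (ExtY)

section crit

variable {p : ℕ} [hp : Fact p.Prime] {M : Ideal AlgInt} {S : Type u} [Group S] [Finite S]

/-- `p ≤ 19`, two extendible members, `11 ≤ x0` -/
theorem row_ext2_19 (h19 : p ≤ 19) (hM : IsPModular p M) (hab : AbOut p S) (hext : ExtY p M S 2)
    (hk : 11 ≤ x0 p M S) : H668.XZ.Row0 p M S := by
  have key : ∀ n : ℕ, 9 ≤ n → 4 * (p - 1) < n ^ 2 := fun n hn => by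
    have := Nat.pow_le_pow_left hn 2
    omega
  refine H364.XR.row0_of_num hM hab (by norm_num) hext hk (fun f u hf hx => key _ ?_) fun f u C hf hx hC => key _ ?_
  · rcases Nat.lt_or_ge f 5 with h | h
    · interval_cases f <;> omega
    · omega
  · rcases Nat.lt_or_ge f 8 with h | h
    · interval_cases f
      · have : 9 ≤ u := by omega
        have : 132 ≤ (u + 2) * (u + 2 + 1) := by nlinarith only [hx]
        omega
      · have : 5 ≤ u := by omega
        have : 56 ≤ (u + 2) * (u + 2 + 1) := by nlinarith only [this]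
        omega
      · have : 3 ≤ u := by omega
        have : 30 ≤ (u + 2) * (u + 2 + 1) := by nlinarith only [hx]
        omega
      · have : 3 ≤ u := by omega
        have : 30 ≤ (u + 2) * (u + 2 + 1) := by nlinarith only [this]
        omega
      · have : 2 ≤ u := by omega
        have : 20 ≤ (u + 2) * (u + 2 + 1) := by nlinarith only [this]
        omega
      · have : 2 ≤ u := by omega
        have : 20 ≤ (u + 2) * (u + 2 + 1) := by nlinarith only [this]
        omega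
      · have : 2 ≤ u := by omega
        have : 20 ≤ (u + 2) * (u + 2 + 1) := by nlinarith only [this]
        omega
    · have : 1 ≤ u := by
        rcases Nat.eq_zero_or_pos u with rfl | h0
        · omega
        · exact h0
      have : 12 ≤ (u + 2) * (u + 2 + 1) := by nlinarith only [this]
      omega

end crit

section

variable {p : ℕ} [hpp : Fact p.Prime] {M : Ideal AlgInt} {r : ℕ} [hr : Fact r.Prime] {F : Type} [Field F] [Fintype F]
  [CharP F r]

omit hpp [CharP F r] in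
theorem hpow (F : Type) [Field F] [Fintype F] {p : ℕ} (n : ℕ) :
    p ∣ Fintype.card F ^ n - 1 ↔ orderOf ((Fintype.card F : ℕ) : ZMod p) ∣ n := by
  rw [orderOf_dvd_iff_pow_eq_one, ← Nat.cast_pow]
  have h1 : 1 ≤ Fintype.card F ^ n := Nat.one_le_pow _ _ Fintype.card_pos
  rw [← Nat.modEq_iff_dvd' h1, ← ZMod.natCast_eq_natCast_iff, Nat.cast_one]
  exact eq_comm

/-- two extendible members of `X0(E₆(q))` -/
theorem extY_E6 {S : Type u} [Group S] [Finite S] [IsSimpleGroup S] (hM : IsPModular p M) (hrp : r ≠ p)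
    (h1 : ¬ p ∣ Fintype.card F - 1) (h5 : ¬ p ∣ Fintype.card F ^ 5 - 1) (hpS : p ∣ Nat.card S)
    (e : Nonempty (S ≃* chevE6.group F)) : ExtY p M S 2 :=
  H605.XZ.extY_of_perm hM (H112.EB.perm_E6 hrp h1 h5 hpS e)

/-- **The families and one form.** -/
theorem x0_E6_fam (hM : IsPModular p M) (hrp : r ≠ p) (h11 : 11 ≤ p)
    (hd : orderOf ((Fintype.card F : ℕ) : ZMod p) = 3) :
    (p = 13 → 9 ≤ x0 p M ↥(chevE6.group F)) ∧ (p = 19 → 11 ≤ x0 p M ↥(chevE6.group F)) := by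
  obtain ⟨hpG, P, hab, f6, m6, f9, m9, w6, w9, A, a6, a9⟩ := forms_E6_3 hrp h11 (MulEquiv.refl ↥(chevE6.group F)) hd
  have hfin := finite_W hpE6 CoxeterMatrix.E₆.toCoxeterSystem
  have R := rgd (K := F) hpE6 CoxeterMatrix.E₆.toCoxeterSystem r
  have hG := H35.ExcIdx.GG_eq_top hpE6 F CoxeterMatrix.E₆.toCoxeterSystem
  have key : ∀ {D : ℕ} (h1 : 1 ≤ D) (h2 : D + 2 ≤ p) {f : LL p P → ZMod p} (h0 : f ≠ 0) (hP : f ∈ Pol p P D)
      (hW : WInv P f), 6 + (p - 1) / Nat.gcd D (p - 1) ≤ x0 p M ↥(chevE6.group F) + 1 := by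
    intro D h1 h2 f h0 hP hW
    exact mix_chain R hG hM (H796.BR.chain_E6 CoxeterMatrix.E₆.toCoxeterSystem)
      (fun _ _ k _ => H941.XZ.Idx.dvd_idx_E6 (Or.inl hd) k) hpG hab h1 h2 h0 hP hW
  refine ⟨fun h => ?_, fun h => ?_⟩
  · subst h
    have h3 := key (D := 9) (by norm_num) (by norm_num) (f := f9) (fun h0 => a9 (congrFun h0 A)) m9 w9
    have h4 : Nat.gcd 9 (13 - 1) = 3 := by norm_num
    rw [h4] at h3
    omega
  · subst h
    have h3 := key (D := 9 + 6) (by norm_num) (by norm_num) (f := f9 * f6) (fun h0 => mul_ne_zero a9 a6 (congrFun h0 A))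
      (Pol_mul m9 m6) (H941.XZ.winv_mul w9 w6)
    have h4 : Nat.gcd (9 + 6) (19 - 1) = 3 := by norm_num
    rw [h4] at h3
    omega

/-- **The row `E₆(q)`.** -/
theorem row_E6 (h11 : 11 ≤ p) (hM : IsPModular p M) (hrp : r ≠ p) (S : Type u) [Group S] [Finite S] [IsSimpleGroup S]
    (F : Type) [Field F] [Fintype F] [CharP F r] (e : Nonempty (S ≃* chevE6.group F)) (hP : H508.XR.NC p S) :
    H668.XZ.Row0 p M S := by
  have hab : AbOut p S := H804.KB.ab_E6 hrp (by omega) e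
  have hd := H765.KE.ord_E6 (F := F) hrp h11 e hP rfl
  have hpS : p ∣ Nat.card S := by
    by_contra hp
    obtain ⟨P⟩ : Nonempty (Sylow p S) := inferInstance
    apply hP P
    have h2 : (P : Subgroup S) = ⊥ := by
      obtain ⟨j, hj⟩ := IsPGroup.iff_card.1 P.2
      rw [← Subgroup.card_eq_one, hj]
      rcases Nat.eq_zero_or_pos j with rfl | hj0
      · exact pow_zero p
      · exfalso
        apply hp
        refine (dvd_pow_self p hj0.ne').trans ?_
        rw [← hj]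
        exact Subgroup.card_subgroup_dvd_card _
    rw [h2]
    infer_instance
  have hext : ∀ {d : ℕ}, orderOf ((Fintype.card F : ℕ) : ZMod p) = d → ¬ d ∣ 1 → ¬ d ∣ 5 → ExtY p M S 2 := by
    intro d h h1 h5
    refine extY_E6 hM hrp ?_ ?_ hpS e
    · intro h2
      exact h1 (by rw [← h]; exact (hpow F (p := p) 1).1 (by rwa [pow_one]))
    · intro h2
      exact h5 (by rw [← h]; exact (hpow F (p := p) 5).1 h2)
  obtain ⟨φ⟩ := e
  have h12 : orderOf ((Fintype.card F : ℕ) : ZMod p) ∣ 2 → H668.XZ.Row0 p M S := fun h =>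
    H364.XR.row_of_ab hM hab (H694.XM.x0_E6_12 hM h11 hrp φ ((hpow F 2).2 h))
  rcases hd with h | h | h | h | h
  · exact h12 (by rw [h]; norm_num)
  · exact h12 (by rw [h])
  · have h2 := hext h (by norm_num) (by norm_num)
    have hfam := x0_E6_fam (F := F) hM hrp h11 h
    rw [← H687.XR.x0_equiv φ] at hfam
    have h3 : 3 ∣ p - 1 := H267.KE.dvd_sub_one (by norm_num) h
    obtain ⟨k, hk⟩ := H267.KE.six_dvd h11 h3
    have hp25 : p ≠ 25 := by
      rintro rfl
      exact absurd hpp.out (by norm_num)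
    rcases Nat.lt_or_ge k 5 with hk5 | hk5
    · have hk2 : 2 ≤ k := by omega
      interval_cases k
      · exact H364.XR.row_of_ext2_small (by omega) hM hab h2 (by have := hfam.1 (by omega); omega)
      · exact row_ext2_19 (by omega) hM hab h2 (hfam.2 (by omega))
      · omega
    · have h4 := (H941.XZ.nr_E6_3 hM hrp h11 φ h).2.2 (by omega)
      have h5 := H26.XZ.x0_eq_rr_add_nr (p := p) (M := M) (G := S)
      refine H364.XR.row_of_ext2 hM hab h2 ?_
      have h6 : (p - 1) / 3 = 2 * k := by omega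
      omega
  · exact H364.XR.row_of_ext2 hM hab (hext h (by norm_num) (by norm_num)) (H875.XE.x0_E6_46 hM hrp h11 φ (Or.inl h))
  · exact H364.XR.row_of_ext2 hM hab (hext h (by norm_num) (by norm_num)) (H875.XE.x0_E6_46 hM hrp h11 φ (Or.inr h))

end

end Cfsg.Agent.H985.XR
end

private theorem dce_b91b29d67fa4 : _root_.True := by
  try have : _root_.True := by simp only [_root_.Cfsg.Agent.H267.KE.E6.B6a.eq_1]
  try have : _root_.True := by simp only [_root_.Cfsg.Agent.H267.KE.ev.eq_1]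
  try have : _root_.True := by simp only [_root_.Cfsg.Agent.H267.KE.E6.B4a.eq_1]
  try have : _root_.True := by simp only [_root_.Cfsg.Agent.H267.KE.E6.C4a.eq_1]
  try have : _root_.True := by simp only [_root_.Cfsg.Agent.H267.KE.cv.eq_1]
  try have : _root_.True := by simp only [_root_.Cfsg.Agent.H267.KE.E6.C6a.eq_1]
  exact _root_.True.intro
end

-- part: H697/XZ/Affine
section
set_option linter.all false
open scoped Cfsg.Agent.FastGrp

/-!
# S4791 + S4927, R2: the affine case (helper697)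

`N = O_p(G) = C_G(N)` noncyclic abelian of index prime to `p`: all irreducible characters are in the principal block and
have degree prime to `p`, so the number of members of `X₀(G)` is the number of S4790; in the case of equality the Sylow
`p`-subgroup is cyclic.
-/

set_option autoImplicit false
set_option linter.unusedSectionVars false
set_option linter.unusedVariables false

open Cfsg Subgroup

namespace Cfsg.Agent.H697.XZ

open Cfsg.Agent.H674.XZ

universe u

variable {p : ℕ} [hp : Fact p.Prime] {M : Ideal AlgInt}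

/-- all almost `p`-rational characters are members of `X₀(G)` -/
theorem mem0_iff (hM : IsPModular p M) {G : Type u} [Group G] [Finite G] (N : Subgroup G) [N.Normal]
    (hNc : ∀ x ∈ N, ∀ y ∈ N, x * y = y * x) (hNp : IsPGroup p N) (hcen : centralizer (N : Set G) = N)
    (hcop : ¬ p ∣ N.index) (χ : IrrCharacter G) : Mem0 p M χ ↔ Alm p (χ : G → ℂ) := by
  refine ⟨fun h => h.2.2, fun h => ⟨?_, ?_, h⟩⟩
  · exact Cfsg.Agent.Blocks.UniqueBlock.sameBlock_of_centralizer_le hM N hNp hcen.le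
      (⟨_, Cfsg.Agent.Characters.Core.isIrr_one⟩ : IrrCharacter G) χ
  · intro hd
    exact hcop (hd.trans (Cfsg.Agent.H596.charDegree_dvd_index χ.2 N hNc))

/-- a normal `p`-subgroup is contained in a normal subgroup of order `p ^ e` and index prime to `p` -/
theorem le_of_card {G : Type u} [Group G] [Finite G] {N N' : Subgroup G} [N.Normal] (hN' : N'.Normal) {e s : ℕ}
    (hNp : IsPGroup p N) (hc : Nat.card N' = p ^ e) (hG : Nat.card G = p ^ e * s) (hs : ¬ p ∣ s) : N ≤ N' := by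
  have h1 : (Nat.card G).factorization p = e := by
    have hs0 : s ≠ 0 := by
      rintro rfl
      exact hs (dvd_zero p)
    rw [hG, Nat.factorization_mul (pow_ne_zero _ hp.out.ne_zero) hs0, Finsupp.add_apply,
      hp.out.factorization_pow, Finsupp.single_eq_same, Nat.factorization_eq_zero_of_not_dvd hs, add_zero]
  let Q : Sylow p G := Sylow.ofCard N' (by rw [hc, h1])
  have hQ : (Q : Subgroup G) = N' := Sylow.coe_ofCard _ _
  obtain ⟨Q', hQ'⟩ := hNp.exists_le_sylow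
  have hn : (Q : Subgroup G).Normal := hQ ▸ hN'
  have huniq := Sylow.unique_of_normal Q hn
  have h2 : Q' = Q := Subsingleton.elim _ _
  rw [← hQ, ← h2]
  exact hQ'

/-- **R2**: the affine case. -/
theorem affine_case (hM : IsPModular p M) (G : Type u) [Group G] [Finite G] (N : Subgroup G) [N.Normal]
    (hmin : ∀ K : Subgroup G, K.Normal → K ≤ N → K = ⊥ ∨ K = N) (hN1 : N ≠ ⊥) (hNc : ∀ x ∈ N, ∀ y ∈ N, x * y = y * x)
    (hNp : IsPGroup p N) (hcen : centralizer (N : Set G) = N) (hcop : ¬ p ∣ N.index) (hnc : ¬ IsCyclic N) :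
    4 * (p - 1) < x0 p M G ^ 2 := by
  have hdN : p ∣ Nat.card N := by
    obtain ⟨n, hn⟩ := IsPGroup.iff_card.1 hNp
    rcases Nat.eq_zero_or_pos n with h0 | h0
    · rw [h0, pow_zero] at hn
      exact absurd ((Subgroup.card_eq_one).1 hn) hN1
    · rw [hn]
      exact dvd_pow_self p h0.ne'
  have hdvd : p ∣ Nat.card G := hdN.trans (Subgroup.card_subgroup_dvd_card N)
  obtain ⟨h1, h2⟩ := Cfsg.Agent.S4790.result (G := G) p hp.out hdvd
  have hx : x0 p M G = Nat.card {χ : Cfsg.IrrCharacter G // (∃ n : ℕ, 0 < n ∧ ¬ p ^ 2 ∣ n ∧ ∀ g : G,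
      (χ : G → ℂ) g ∈ IntermediateField.adjoin ℚ ({Complex.exp (2 * Real.pi * Complex.I / n)} : Set ℂ))} :=
    Nat.card_congr (Equiv.subtypeEquivRight fun χ => mem0_iff hM N hNc hNp hcen hcop χ)
  rw [hx]
  refine lt_of_le_of_ne h1 fun heq => hnc ?_
  obtain ⟨s, e, N', C, hs, hN', hcyc, hcN', -, -, -, hG, -⟩ := h2.1 heq.symm
  have hp2 := hp.out.two_le
  have hsp : ¬ p ∣ s := by
    intro hd
    have hs0 : s ≠ 0 := by
      rintro rfl
      omega
    have h3 := Nat.le_of_dvd (Nat.pos_of_ne_zero hs0) hd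
    have h4 : p * p ≤ s ^ 2 := by
      rw [pow_two]
      exact Nat.mul_le_mul h3 h3
    have h5 : p ≤ p * p := Nat.le_mul_of_pos_left _ (by omega)
    omega
  have hle := le_of_card hN' hNp hcN' hG hsp
  exact isCyclic_of_injective (Subgroup.inclusion hle) (Subgroup.inclusion_injective hle)

end Cfsg.Agent.H697.XZ
end
end
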